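import Cfsg.Agent.Lib.TransvThree.Pair

/-!
The icosahedral pair of transvections does not occur in an irreducible subgroup of `GL 3`, hence
every linked pair behaves generically.
-/

set_option autoImplicit false
set_option linter.unusedSectionVars false

namespace Cfsg.Agent.Lib.TransvThree

open Matrix
open Cfsg.Agent.Lib.Subspaces.Transvection Cfsg.Agent.Lib.PrimeDim.Basic

variable {F : Type*} [Field F] [Fintype F]

local notation "Vec" => Fin 3 → F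

variable {P : Subgroup (GL (Fin 3) F)} {v w φ ψ : Fin 3 → F}

theorem Linked.symm (hl : Linked v φ w ψ) : Linked w ψ v φ := ⟨hl.2, hl.1⟩

theorem Linked.ne_zero (hl : Linked v φ w ψ) : φ ≠ 0 ∧ ψ ≠ 0 :=
  ⟨fun h => hl.1 (by rw [h, zero_dotProduct]), fun h => hl.2 (by rw [h, zero_dotProduct])⟩

/-- The components of a vector in the frame of a linked pair. -/
theorem exists_decomp (hv : φ ⬝ᵥ v = 0) (hw : ψ ⬝ᵥ w = 0) (hl : Linked v φ w ψ) (x : Vec) :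
    ∃ a b : F, ∃ x0 : Vec, x = a • v + b • w + x0 ∧ φ ⬝ᵥ x0 = 0 ∧ ψ ⬝ᵥ x0 = 0 ∧
      a = (ψ ⬝ᵥ x) / (ψ ⬝ᵥ v) ∧ b = (φ ⬝ᵥ x) / (φ ⬝ᵥ w) := by
  refine ⟨_, _, x - ((ψ ⬝ᵥ x) / (ψ ⬝ᵥ v)) • v - ((φ ⬝ᵥ x) / (φ ⬝ᵥ w)) • w, by abel, ?_, ?_, rfl, rfl⟩
  · simp only [dotProduct_sub, dotProduct_smul, hv, smul_eq_mul, mul_zero, sub_zero,
      div_mul_cancel₀ _ hl.1, sub_self]
  · simp only [dotProduct_sub, dotProduct_smul, hw, smul_eq_mul, mul_zero, sub_zero,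
      div_mul_cancel₀ _ hl.2, sub_self]

theorem kernel_smul (hv : φ ⬝ᵥ v = 0) (hw : ψ ⬝ᵥ w = 0) (hl : Linked v φ w ψ) {x y : Vec}
    (hx : φ ⬝ᵥ x = 0) (hx' : ψ ⬝ᵥ x = 0) (hy : φ ⬝ᵥ y = 0) (hy' : ψ ⬝ᵥ y = 0) (hx0 : x ≠ 0) :
    ∃ c : F, y = c • x := by
  by_contra hcon
  push Not at hcon
  have hli : LinearIndependent F ![v, w, x, y] := by
    rw [Fintype.linearIndependent_iff]
    intro g hg
    simp only [Fin.sum_univ_four] at hg
    simp only [Matrix.cons_val_zero, Matrix.cons_val_one, Matrix.cons_val] at hg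
    have e1 := congrArg (fun z => φ ⬝ᵥ z) hg
    have e2 := congrArg (fun z => ψ ⬝ᵥ z) hg
    simp [dotProduct_add, hv, hx, hy, hl.1] at e1
    simp [dotProduct_add, hw, hx', hy', hl.2] at e2
    rw [e1, e2, zero_smul, zero_smul, zero_add, zero_add] at hg
    have h3 : g 3 = 0 := by
      by_contra h
      refine hcon (-(g 2 / g 3)) ?_
      have h' := congrArg (fun z => (g 3)⁻¹ • z) hg
      simp only [smul_add, smul_smul, inv_mul_cancel₀ h, one_smul, smul_zero] at h'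
      rw [eq_neg_of_add_eq_zero_right h', neg_smul, div_eq_inv_mul]
    rw [h3, zero_smul, add_zero] at hg
    have h2 : g 2 = 0 := (smul_eq_zero.1 hg).resolve_right hx0
    intro i
    fin_cases i <;> assumption
  have := hli.fintype_card_le_finrank
  rw [Module.finrank_pi] at this
  simp at this

section Nine

/-- The value set `{0, ±1, ±λ}`. -/
def InVals (lam x : F) : Prop := x = 0 ∨ x = 1 ∨ x = -1 ∨ x = lam ∨ x = -lam

/-- Multiplication in the nine element field, as pairs. -/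
def mul9 (a b : ZMod 3 × ZMod 3) : ZMod 3 × ZMod 3 :=
  (a.1 * b.1 - a.2 * b.2, a.1 * b.2 + a.2 * b.1)

def inVals9 (x : ZMod 3 × ZMod 3) : Bool :=
  x == (0, 0) || x == (1, 0) || x == (2, 0) || x == (0, 1) || x == (0, 2)

/-- The four last conditions. -/
def cond9 (k l : ZMod 3) (c0 c1 c2 : ZMod 3 × ZMod 3) : Bool :=
  inVals9 (mul9 (0, 2) (mul9 (mul9 (1, k * l) (1, k * l)) c2 - mul9 (mul9 (1, k * l) (0, k)) c1 + c0))

def all9 (c0 c1 c2 : ZMod 3 × ZMod 3) : Bool :=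
  inVals9 c0 && inVals9 c2 && inVals9 (c0 + c1 - c2) && inVals9 (c0 - c1 - c2) &&
  inVals9 (mul9 (0, 2) (c2 - mul9 (0, 1) c1 + c0)) && inVals9 (mul9 (0, 2) (c2 + mul9 (0, 1) c1 + c0)) &&
  cond9 1 1 c0 c1 c2 && cond9 1 2 c0 c1 c2 && cond9 2 1 c0 c1 c2 && cond9 2 2 c0 c1 c2

theorem disc9 : ∀ c0 c1 c2 : ZMod 3 × ZMod 3, all9 c0 c1 c2 = true →
    mul9 c1 c1 + mul9 c0 c2 = (0, 0) := by
  decide +kernel

end Nine

variable {lam : F}

theorem zmod3_sq : ∀ z : ZMod 3, z ≠ 0 → z ^ 2 = 1 := by decide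

/-- The map from pairs into `F` attached to a square root of `-1` in characteristic three. -/
theorem exists_nine (h : Exc lam) (hlam : lam ^ 2 ≠ 1) :
    ∃ ι : ZMod 3 × ZMod 3 → F, Function.Injective ι ∧ ι (0, 0) = 0 ∧ ι (1, 0) = 1 ∧ ι (2, 0) = -1 ∧
      ι (0, 1) = lam ∧ ι (0, 2) = -lam ∧ (∀ a b, ι (a + b) = ι a + ι b) ∧
      (∀ a b, ι (a - b) = ι a - ι b) ∧ ∀ a b, ι (mul9 a b) = ι a * ι b := by
  haveI : Fact (Nat.Prime 3) := ⟨Nat.prime_three⟩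
  haveI : CharP F 3 := by
    obtain ⟨p, hp⟩ := CharP.exists F
    haveI := hp
    have h3 : p ∣ 3 := (CharP.cast_eq_zero_iff F p 3).1 (by exact_mod_cast h.1)
    have hp1 : p ≠ 1 := CharP.char_ne_one F p
    rwa [((Nat.dvd_prime Nat.prime_three).1 h3).resolve_left hp1] at hp
  let e : ZMod 3 →+* F := ZMod.castHom dvd_rfl F
  refine ⟨fun a => e a.1 + e a.2 * lam, ?_, by simp, by simp, ?_, by simp, ?_,
    fun a b => by simp [map_add]; ring, fun a b => by simp [map_sub]; ring, fun a b => ?_⟩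
  · intro a b hab
    have h0 : e (a.1 - b.1) + e (a.2 - b.2) * lam = 0 := by
      simp only [map_sub]; linear_combination hab
    have he : Function.Injective e := e.injective
    by_cases hd : a.2 - b.2 = 0
    · rw [hd, map_zero, zero_mul, add_zero, map_eq_zero_iff e he] at h0
      exact Prod.ext (sub_eq_zero.1 h0) (sub_eq_zero.1 hd)
    · exfalso
      apply hlam
      have hl : lam = e (-(a.1 - b.1) / (a.2 - b.2)) := by
        rw [map_div₀, map_neg, eq_div_iff (by rwa [Ne, map_eq_zero_iff e he])]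
        linear_combination h0
      have hsq := zmod3_sq
      have hz : (-(a.1 - b.1) / (a.2 - b.2)) ≠ 0 := by
        intro hz
        rw [hz, map_zero] at hl
        have := h.2
        rw [hl] at this
        simp at this
      rw [hl, ← map_pow, hsq _ hz, map_one]
  · rw [show (2 : ZMod 3) = -1 from rfl]; simp
  · rw [show (2 : ZMod 3) = -1 from rfl]; simp
  · simp only [mul9, map_sub, map_add, map_mul]
    linear_combination (-(e a.2) * e b.2) * h.2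

variable (hirr : Irred P) (h2 : (2 : F) ≠ 0)

include h2 in
theorem lam_sq_ne_one (h : Exc lam) : lam ^ 2 ≠ 1 := by
  intro h1
  rw [h.2] at h1
  exact h2 (by linear_combination -h1)

include h2 in
/-- An exceptional pair with a non-trivial multiplier on the first root group is generic. -/
theorem exc_resolve (hv : Tv P v φ) (hw : Tv P w ψ) (hl : Linked v φ w ψ)
    (he : Exc ((φ ⬝ᵥ w) * (ψ ⬝ᵥ v))) {k : F} (hk : Tv P v (k • φ)) (hk0 : k ≠ 0) (hk1 : k ≠ 1)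
    (hk2 : k ≠ -1) : Tv P v (((φ ⬝ᵥ w) * (ψ ⬝ᵥ v)) • φ) := by
  obtain ⟨μ, hμ⟩ : ∃ μ, μ = (φ ⬝ᵥ w) * (ψ ⬝ᵥ v) := ⟨_, rfl⟩
  rw [← hμ] at he ⊢
  have hμ0 : μ ≠ 0 := hμ ▸ mul_ne_zero hl.1 hl.2
  have e1 : ((k • φ) ⬝ᵥ w) * (ψ ⬝ᵥ v) = k * μ := by rw [hμ, smul_dotProduct, smul_eq_mul]; ring
  have hl' : Linked v (k • φ) w ψ := ⟨by rw [smul_dotProduct, smul_eq_mul]; exact mul_ne_zero hk0 hl.1, hl.2⟩
  have hne : ¬ Exc (((k • φ) ⬝ᵥ w) * (ψ ⬝ᵥ v)) := by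
    rw [e1]
    rintro ⟨-, h⟩
    rw [mul_pow, he.2] at h
    rcases sq_eq_one_iff.1 (show k ^ 2 = 1 by linear_combination -h) with h' | h'
    · exact hk1 h'
    · exact hk2 h'
  have hmem : μ * k⁻¹ ∈ Subfield.closure ({k * μ} : Set F) := by
    have hh : k * μ ∈ Subfield.closure ({k * μ} : Set F) := Subfield.subset_closure rfl
    have e : μ * k⁻¹ = -(k * μ)⁻¹ := by
      rw [mul_inv, ← mul_neg, mul_comm]
      congr 1
      exact eq_neg_of_add_eq_zero_left (by field_simp; linear_combination he.2)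
    rw [e]
    exact neg_mem (inv_mem hh)
  have h := (pair_full h2 hk hw hl' hne).1 _ (e1 ▸ hmem)
  rwa [smul_smul, inv_mul_cancel_right₀ hk0] at h

include h2 in
theorem exc_one_add_lam (h : Exc lam) :
    1 + lam ≠ 0 ∧ ¬ Exc ((1 + lam) * lam) ∧
      lam ∈ Subfield.closure ({(1 + lam) * lam} : Set F) := by
  refine ⟨fun hh => h2 ?_, fun ⟨_, hh⟩ => h2 ?_, ?_⟩
  · rw [eq_neg_of_add_eq_zero_right hh] at h
    linear_combination h.2
  · have hl : lam = -1 := by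
      linear_combination hh - (lam ^ 2 + 2 * lam) * h.2 + lam * h.1
    rw [hl] at h
    linear_combination h.2
  · have e : (1 + lam) * lam + 1 = lam := by linear_combination h.2
    have hm : (1 + lam) * lam + 1 ∈ Subfield.closure ({(1 + lam) * lam} : Set F) :=
      add_mem (Subfield.subset_closure rfl) (one_mem _)
    generalize Subfield.closure ({(1 + lam) * lam} : Set F) = S at hm ⊢
    rwa [e] at hm

include h2 in
/-- A resolved exceptional pair: all scalars and a Weyl element. -/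
theorem exc_full (hv : Tv P v φ) (hw : Tv P w ψ) (hl : Linked v φ w ψ)
    (he : Exc ((φ ⬝ᵥ w) * (ψ ⬝ᵥ v))) (hres : Tv P v (((φ ⬝ᵥ w) * (ψ ⬝ᵥ v)) • φ)) :
    (∀ c ∈ Subfield.closure ({(φ ⬝ᵥ w) * (ψ ⬝ᵥ v)} : Set F), Tv P v (c • φ)) ∧
      ∃ g ∈ P, ∃ k : F, k ≠ 0 ∧ (g : Matrix (Fin 3) (Fin 3) F) *ᵥ v = k • w := by
  obtain ⟨μ, hμ⟩ : ∃ μ, μ = (φ ⬝ᵥ w) * (ψ ⬝ᵥ v) := ⟨_, rfl⟩
  rw [← hμ] at he hres ⊢
  obtain ⟨h1, hne, hmem⟩ := exc_one_add_lam h2 he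
  have hk : Tv P v ((1 + μ) • φ) := by rw [add_smul, one_smul]; exact hv.add hres
  have e1 : (((1 + μ) • φ) ⬝ᵥ w) * (ψ ⬝ᵥ v) = (1 + μ) * μ := by
    rw [hμ, smul_dotProduct, smul_eq_mul]; ring
  have hl' : Linked v ((1 + μ) • φ) w ψ :=
    ⟨by rw [smul_dotProduct, smul_eq_mul]; exact mul_ne_zero h1 hl.1, hl.2⟩
  obtain ⟨hall, g, hg, hgv⟩ := pair_full h2 hk hw hl' (e1.symm ▸ hne)
  rw [e1] at hall
  refine ⟨fun c hc => ?_, g, hg, _, neg_ne_zero.2 hl.2, hgv⟩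
  have hle : Subfield.closure ({μ} : Set F) ≤ Subfield.closure {(1 + μ) * μ} :=
    Subfield.closure_le.2 (by rintro _ rfl; exact hmem)
  have h := hall (c / (1 + μ)) (div_mem (hle hc) (add_mem (one_mem _) hmem))
  rwa [smul_smul, div_mul_cancel₀ _ h1] at h

include h2 in
/-- The resolution does not depend on the end of the pair. -/
theorem exc_resolve_symm (hv : Tv P v φ) (hw : Tv P w ψ) (hl : Linked v φ w ψ)
    (he : Exc ((φ ⬝ᵥ w) * (ψ ⬝ᵥ v))) (hres : Tv P w (((φ ⬝ᵥ w) * (ψ ⬝ᵥ v)) • ψ)) :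
    Tv P v (((φ ⬝ᵥ w) * (ψ ⬝ᵥ v)) • φ) := by
  obtain ⟨μ, hμ⟩ : ∃ μ, μ = (φ ⬝ᵥ w) * (ψ ⬝ᵥ v) := ⟨_, rfl⟩
  rw [← hμ] at he hres ⊢
  obtain ⟨h1, hne, hmem⟩ := exc_one_add_lam h2 he
  have hk : Tv P w ((1 + μ) • ψ) := by rw [add_smul, one_smul]; exact hw.add hres
  have e1 : (φ ⬝ᵥ w) * (((1 + μ) • ψ) ⬝ᵥ v) = (1 + μ) * μ := by
    rw [hμ, smul_dotProduct, smul_eq_mul]; ring
  have hl' : Linked v φ w ((1 + μ) • ψ) :=
    ⟨hl.1, by rw [smul_dotProduct, smul_eq_mul]; exact mul_ne_zero h1 hl.2⟩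
  have h := (pair_full h2 hv hk hl' (e1.symm ▸ hne)).1
  rw [e1] at h
  exact h μ hmem

/-- The value of two transvections. -/
def val (v φ u χ : Fin 3 → F) : F := (φ ⬝ᵥ u) * (χ ⬝ᵥ v)

include h2 in
theorem val_mem (hv : Tv P v φ) (hw : Tv P w ψ) (hl : Linked v φ w ψ)
    (he : Exc ((φ ⬝ᵥ w) * (ψ ⬝ᵥ v))) (hS : ¬ Tv P v (((φ ⬝ᵥ w) * (ψ ⬝ᵥ v)) • φ))
    {u χ : Vec} (hu : Tv P u χ) : InVals ((φ ⬝ᵥ w) * (ψ ⬝ᵥ v)) (val v φ u χ) := by
  obtain ⟨μ, hμ⟩ : ∃ μ, μ = (φ ⬝ᵥ w) * (ψ ⬝ᵥ v) := ⟨_, rfl⟩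
  rw [← hμ] at hS ⊢
  by_cases h0 : val v φ u χ = 0
  · exact Or.inl h0
  have hl' : Linked v φ u χ := ⟨left_ne_zero_of_mul h0, right_ne_zero_of_mul h0⟩
  by_cases hex : Exc (val v φ u χ)
  · rcases sq_eq_sq_iff_eq_or_eq_neg.1 (show (val v φ u χ) ^ 2 = μ ^ 2 by rw [hex.2, hμ, he.2]) with h | h
    · exact Or.inr (Or.inr (Or.inr (Or.inl h)))
    · exact Or.inr (Or.inr (Or.inr (Or.inr h)))
  · have hm := pair_smul_mem h2 hv hu hl' hex
    by_cases h1 : val v φ u χ = 1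
    · exact Or.inr (Or.inl h1)
    by_cases hn1 : val v φ u χ = -1
    · exact Or.inr (Or.inr (Or.inl hn1))
    exact absurd (hμ ▸ exc_resolve h2 hv hw hl he hm h0 h1 hn1) hS

set_option maxHeartbeats 800000 in
include hirr h2 in
/-- In an irreducible group every exceptional pair is resolved. -/
theorem exc_lam_mem (hv : Tv P v φ) (hw : Tv P w ψ) (hl : Linked v φ w ψ)
    (he : Exc ((φ ⬝ᵥ w) * (ψ ⬝ᵥ v))) : Tv P v (((φ ⬝ᵥ w) * (ψ ⬝ᵥ v)) • φ) := by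
  by_contra hS
  obtain ⟨α, hα⟩ : ∃ α, α = φ ⬝ᵥ w := ⟨_, rfl⟩
  obtain ⟨β, hβ⟩ : ∃ β, β = ψ ⬝ᵥ v := ⟨_, rfl⟩
  obtain ⟨μ, hμ⟩ : ∃ μ, μ = α * β := ⟨_, rfl⟩
  have heq : μ = (φ ⬝ᵥ w) * (ψ ⬝ᵥ v) := by rw [hμ, hα, hβ]
  have he' : Exc μ := heq ▸ he
  have hSw : ¬ Tv P w (((φ ⬝ᵥ w) * (ψ ⬝ᵥ v)) • ψ) := fun h => hS (exc_resolve_symm h2 hv hw hl he h)
  -- the conjugates of the two transvections have the same property, read off on `(u, χ)`
  have hcore : ∀ u χ : Vec, Tv P u χ → InVals μ ((φ ⬝ᵥ u) * (χ ⬝ᵥ v)) ∧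
      InVals μ ((ψ ⬝ᵥ u) * (χ ⬝ᵥ w)) := by
    intro u χ hu
    refine ⟨heq ▸ val_mem h2 hv hw hl he hS hu, ?_⟩
    have e : (ψ ⬝ᵥ v) * (φ ⬝ᵥ w) = (φ ⬝ᵥ w) * (ψ ⬝ᵥ v) := mul_comm _ _
    have := val_mem h2 hw hv hl.symm (e.symm ▸ he) (e.symm ▸ hSw) hu
    rw [e, ← heq] at this
    exact this
  obtain ⟨ι, hinj, i0, i1, i2, il, il2, iadd, isub, imul⟩ := exists_nine he' (lam_sq_ne_one h2 he')
  have hpre : ∀ x, InVals μ x → ∃ a, inVals9 a = true ∧ ι a = x := by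
    rintro x (rfl | rfl | rfl | rfl | rfl)
    · exact ⟨(0, 0), rfl, i0⟩
    · exact ⟨(1, 0), rfl, i1⟩
    · exact ⟨(2, 0), rfl, i2⟩
    · exact ⟨(0, 1), rfl, il⟩
    · exact ⟨(0, 2), rfl, il2⟩
  have hback : ∀ a, InVals μ (ι a) → inVals9 a = true := fun a ha => by
    obtain ⟨b, hb, hbe⟩ := hpre _ ha
    rwa [hinj hbe] at hb
  have hthree := he'.1
  have hmu := he'.2
  have key : ∀ u χ : Vec, Tv P u χ →
      α * (ψ ⬝ᵥ u) * (χ ⬝ᵥ v) + β * (φ ⬝ᵥ u) * (χ ⬝ᵥ w) = 0 := by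
    intro u χ hu
    obtain ⟨A, hA⟩ : ∃ A, A = φ ⬝ᵥ u := ⟨_, rfl⟩
    obtain ⟨B, hB⟩ : ∃ B, B = ψ ⬝ᵥ u := ⟨_, rfl⟩
    obtain ⟨r, hr⟩ : ∃ r, r = χ ⬝ᵥ v := ⟨_, rfl⟩
    obtain ⟨R, hR⟩ : ∃ R, R = χ ⬝ᵥ w := ⟨_, rfl⟩
    rw [← hA, ← hB, ← hr, ← hR]
    -- values of the conjugated transvections, obtained by conjugating `(u, χ)`
    have conj1 : ∀ z η : Vec, Tv P z η → InVals μ (A * r) ∧ InVals μ (B * R) →
        InVals μ ((φ ⬝ᵥ (u + (η ⬝ᵥ u) • z)) * ((χ - (χ ⬝ᵥ z) • η) ⬝ᵥ v)) ∧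
        InVals μ ((ψ ⬝ᵥ (u + (η ⬝ᵥ u) • z)) * ((χ - (χ ⬝ᵥ z) • η) ⬝ᵥ w)) :=
      fun z η hz _ => hcore _ _ (hu.conjTv hz)
    have conj2 : ∀ z η z' η' : Vec, Tv P z η → Tv P z' η' →
        InVals μ ((ψ ⬝ᵥ (u + (η ⬝ᵥ u) • z + (η' ⬝ᵥ (u + (η ⬝ᵥ u) • z)) • z')) *
          ((χ - (χ ⬝ᵥ z) • η - ((χ - (χ ⬝ᵥ z) • η) ⬝ᵥ z') • η') ⬝ᵥ w)) :=
      fun z η z' η' hz hz' => (hcore _ _ ((hu.conjTv hz).conjTv hz')).2
    obtain ⟨hAr, hBR⟩ := hcore u χ hu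
    rw [← hA, ← hr] at hAr
    rw [← hB, ← hR] at hBR
    have c1p := (conj1 w ψ hw ⟨hAr, hBR⟩).1
    have c1m := (conj1 w (-ψ) hw.neg ⟨hAr, hBR⟩).1
    have c2p := (conj1 v φ hv ⟨hAr, hBR⟩).2
    have c2m := (conj1 v (-φ) hv.neg ⟨hAr, hBR⟩).2
    have d11 := conj2 w ψ v φ hw hv
    have d12 := conj2 w ψ v (-φ) hw hv.neg
    have d21 := conj2 w (-ψ) v φ hw.neg hv
    have d22 := conj2 w (-ψ) v (-φ) hw.neg hv.neg
    simp only [dotProduct_add, dotProduct_smul, sub_dotProduct, smul_dotProduct, neg_dotProduct,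
      hv.1, hw.1, smul_eq_mul, ← hA, ← hB, ← hr, ← hR, ← hα, ← hβ, mul_zero, add_zero, sub_zero,
      mul_neg, neg_mul, neg_neg, neg_zero, zero_mul, zero_add]
      at c1p c1m c2p c2m d11 d12 d21 d22
    obtain ⟨a0, ha0, ea0⟩ := hpre _ hAr
    obtain ⟨a2, ha2, ea2⟩ := hpre _ hBR
    obtain ⟨a1, ha1, ea1⟩ := hpre _ c1p
    -- `c0 = A r`, `c1 = β A R - α B r`, `c2 = μ B R`
    obtain ⟨b0, hb0⟩ : ∃ b, b = a0 := ⟨_, rfl⟩
    obtain ⟨b2, hb2⟩ : ∃ b, b = mul9 (0, 1) a2 := ⟨_, rfl⟩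
    obtain ⟨b1, hb1⟩ : ∃ b, b = a1 - b0 + b2 := ⟨_, rfl⟩
    have eb0 : ι b0 = A * r := by rw [hb0, ea0]
    have eb2 : ι b2 = α * β * (B * R) := by rw [hb2, imul, il, ea2, hμ]
    have eb1 : ι b1 = α * B * r - β * A * R := by rw [hb1, iadd, isub, ea1, eb0, eb2]; ring
    have k1 : ι ((1 : ZMod 3), (1 : ZMod 3)) = 1 + μ := by rw [← i1, ← il, ← iadd]; rfl
    have k2 : ι ((1 : ZMod 3), (2 : ZMod 3)) = 1 - μ := by
      rw [sub_eq_add_neg, ← i1, ← il2, ← iadd]; rfl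
    have p11 : ((1 : ZMod 3) * 1) = 1 := rfl
    have p12 : ((1 : ZMod 3) * 2) = 2 := rfl
    have p21 : ((2 : ZMod 3) * 1) = 2 := rfl
    have p22 : ((2 : ZMod 3) * 2) = 1 := rfl
    have hmu' : (α * β) ^ 2 = -1 := hμ ▸ hmu
    have hall : all9 b0 b1 b2 = true := by
      simp only [all9, cond9, Bool.and_eq_true, p11, p12, p21, p22]
      refine ⟨⟨⟨⟨⟨⟨⟨⟨⟨hb0 ▸ ha0, ?_⟩, ?_⟩, ?_⟩, ?_⟩, ?_⟩, ?_⟩, ?_⟩, ?_⟩, ?_⟩
      all_goals refine hback _ ?_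
      all_goals simp only [iadd, isub, imul, eb0, eb1, eb2, il, il2, k1, k2]
      all_goals rw [hμ] at *
      · rcases hBR with h | h | h | h | h <;> rw [h] <;> unfold InVals
        · simp
        · simp
        · simp
        · exact Or.inr (Or.inr (Or.inl (by linear_combination hmu')))
        · exact Or.inr (Or.inl (by linear_combination -hmu'))
      · convert c1p using 1; ring
      · convert c1m using 1; ring
      · convert c2p using 1; grind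
      · convert c2m using 1; grind
      · convert d11 using 1; grind
      · convert d21 using 1; grind
      · convert d12 using 1; grind
      · convert d22 using 1; grind
    have hd := congrArg ι (disc9 b0 b1 b2 hall)
    rw [iadd, imul, imul, eb0, eb1, eb2, i0] at hd
    have hsq : (α * B * r + β * A * R) * (α * B * r + β * A * R) = 0 := by
      linear_combination hd + (A * r * (α * β * (B * R))) * hthree
    exact mul_self_eq_zero.1 hsq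
  -- every transvection has its centre on the plane or its axis through the common kernel
  have hα0 : α ≠ 0 := hα ▸ hl.1
  have hβ0 : β ≠ 0 := hβ ▸ hl.2
  have dich : ∀ u χ : Vec, Tv P u χ → (∃ a b : F, u = a • v + b • w) ∨
      ∀ x, φ ⬝ᵥ x = 0 → ψ ⬝ᵥ x = 0 → χ ⬝ᵥ x = 0 := by
    intro u χ hu
    obtain ⟨a, b, u0, hdec, h1, h2', ha, hb⟩ := exists_decomp hv.1 hw.1 hl u
    by_cases hu0 : u0 = 0
    · exact Or.inl ⟨a, b, by rw [hdec, hu0, add_zero]⟩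
    refine Or.inr fun x hx hx' => ?_
    obtain ⟨c, rfl⟩ := kernel_smul hv.1 hw.1 hl h1 h2' hx hx' hu0
    have h3 := hu.1
    rw [hdec] at h3
    simp only [dotProduct_add, dotProduct_smul, smul_eq_mul] at h3
    have h4 := key u χ hu
    rw [ha, hb, ← hα, ← hβ] at h3
    have : χ ⬝ᵥ u0 = 0 := by
      field_simp at h3
      refine (mul_eq_zero.1 (show (α * β) * (χ ⬝ᵥ u0) = 0 by linear_combination h3 - h4)).resolve_left
        (mul_ne_zero hα0 hβ0)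
    rw [dotProduct_smul, this, smul_zero]
  have hT : HasTv P := ⟨v, φ, fun h => hl.2 (by rw [h, dotProduct_zero]), hl.ne_zero.1, hv⟩
  let L : Submodule F Vec := Submodule.span F {v, w}
  have hLmem : ∀ u, u ∈ L ↔ ∃ a b : F, u = a • v + b • w := fun u => by
    rw [Submodule.mem_span_pair]
    exact ⟨fun ⟨a, b, h⟩ => ⟨a, b, h.symm⟩, fun ⟨a, b, h⟩ => ⟨a, b, h.symm⟩⟩
  have hLne : L ≠ ⊤ := fun h => by
    classical
    have h1 := (finrank_span_finset_le_card (R := F) ({v, w} : Finset Vec)).trans Finset.card_le_two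
    rw [Finset.coe_insert, Finset.coe_singleton, Set.finrank,
      show Submodule.span F ({v, w} : Set Vec) = ⊤ from h, finrank_top, Module.finrank_pi] at h1
    simp at h1
  obtain ⟨y, η, hy, hη, hyT, hyL⟩ := exists_centre_notMem hirr hT hLne
  have hηK := (dich y η hyT).resolve_left (fun h => hyL ((hLmem y).2 h))
  obtain ⟨x0, hx00, hx01, hx02⟩ : ∃ x0 : Vec, x0 ≠ 0 ∧ φ ⬝ᵥ x0 = 0 ∧ ψ ⬝ᵥ x0 = 0 := by
    obtain ⟨a, b, y0, hdec, h1, h2', -, -⟩ := exists_decomp hv.1 hw.1 hl y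
    exact ⟨y0, fun h => hyL ((hLmem y).2 ⟨a, b, by rw [hdec, h, add_zero]⟩), h1, h2'⟩
  obtain ⟨x, θ, hx, hθ, hxT, hθx⟩ := exists_axis_ne hirr hT hx00
  have hxL : x ∈ L := (hLmem x).2 ((dich x θ hxT).resolve_right fun h => hθx (h x0 hx01 hx02))
  -- every such centre is killed by `η`
  have hkill : ∀ z σ : Vec, Tv P z σ → z ∈ L → σ ⬝ᵥ x0 ≠ 0 → η ⬝ᵥ z = 0 := by
    intro z σ hz hzL hσ
    have h1 := hyT.conjTv hz
    have hnL : y + (σ ⬝ᵥ y) • z ∉ L := fun h => hyL (by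
      simpa using L.sub_mem h (L.smul_mem (σ ⬝ᵥ y) hzL))
    have h2' := (dich _ _ h1).resolve_left (fun h => hnL ((hLmem _).2 h)) x0 hx01 hx02
    rw [sub_dotProduct, smul_dotProduct, hηK x0 hx01 hx02, zero_sub, neg_eq_zero, smul_eq_mul] at h2'
    exact (mul_eq_zero.1 h2').resolve_right hσ
  have hx1 := hkill x θ hxT hxL hθx
  have hmove : ∀ z σ, Tv P z σ → z ∈ L → σ ⬝ᵥ x0 = 0 → (σ ⬝ᵥ x) * (η ⬝ᵥ z) = 0 := by
    intro z σ hz hzL hσ
    have h1 := hxT.conjTv hz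
    have h2' := hkill _ _ h1 (L.add_mem hxL (L.smul_mem _ hzL)) (by
      rw [sub_dotProduct, smul_dotProduct, hσ, smul_zero, sub_zero]; exact hθx)
    rw [dotProduct_add, dotProduct_smul, hx1, zero_add, smul_eq_mul] at h2'
    exact h2'
  have hφη := hmove v φ hv (Submodule.subset_span (Set.mem_insert v _)) hx01
  have hψη := hmove w ψ hw (Submodule.subset_span (Set.mem_insert_of_mem v rfl)) hx02
  obtain ⟨a, b, rfl⟩ := (hLmem x).1 hxL
  simp only [dotProduct_add, dotProduct_smul, hv.1, hw.1, smul_eq_mul, mul_zero, zero_add,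
    add_zero] at hφη hψη hx1
  have hab : a ≠ 0 ∨ b ≠ 0 := by
    by_contra h
    push Not at h
    exact hx (by rw [h.1, h.2, zero_smul, zero_smul, add_zero])
  have hηvw : η ⬝ᵥ v = 0 ∧ η ⬝ᵥ w = 0 := by
    have l1 := hl.1
    have l2 := hl.2
    rcases hab with h | h
    · have e2 : η ⬝ᵥ w = 0 := (mul_eq_zero.1 hψη).resolve_left (mul_ne_zero h l2)
      refine ⟨?_, e2⟩
      rw [e2, mul_zero, add_zero] at hx1
      exact (mul_eq_zero.1 hx1).resolve_left h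
    · have e1 : η ⬝ᵥ v = 0 := (mul_eq_zero.1 hφη).resolve_left (mul_ne_zero h l1)
      refine ⟨e1, ?_⟩
      rw [e1, mul_zero, zero_add] at hx1
      exact (mul_eq_zero.1 hx1).resolve_left h
  apply hη
  funext i
  obtain ⟨a', b', z0, hdec, h1, h2', -, -⟩ := exists_decomp hv.1 hw.1 hl (Pi.single i 1)
  have := congrArg (fun z => η ⬝ᵥ z) hdec
  simpa [dotProduct_add, hηvw.1, hηvw.2, hηK z0 h1 h2'] using this

include hirr h2 in
/-- Every linked pair gives all scalars of its parameter field, and a Weyl element. -/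
theorem pair_all (hv : Tv P v φ) (hw : Tv P w ψ) (hl : Linked v φ w ψ) :
    (∀ c ∈ Subfield.closure ({(φ ⬝ᵥ w) * (ψ ⬝ᵥ v)} : Set F), Tv P v (c • φ)) ∧
      ∃ g ∈ P, ∃ k : F, k ≠ 0 ∧ (g : Matrix (Fin 3) (Fin 3) F) *ᵥ v = k • w := by
  by_cases he : Exc ((φ ⬝ᵥ w) * (ψ ⬝ᵥ v))
  · exact exc_full h2 hv hw hl he (exc_lam_mem hirr h2 hv hw hl he)
  · obtain ⟨h, g, hg, hgv⟩ := pair_full h2 hv hw hl he
    exact ⟨h, g, hg, _, neg_ne_zero.2 hl.2, hgv⟩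

end Cfsg.Agent.Lib.TransvThree
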