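import Cfsg.Agent.Lib.Subspaces.Transvection
import Cfsg.Agent.Lib.PrimeDim.Basic

/-!
Transvections inside a subgroup of `GL 3`: root sets, conjugation, commutators, and the plane
representation of `SL 2` attached to a linked pair of transvections.
-/

set_option autoImplicit false

namespace Cfsg.Agent.Lib.TransvThree

open Matrix
open Cfsg.Agent.Lib.Subspaces.Transvection Cfsg.Agent.Lib.PrimeDim.Basic

variable {F : Type*} [Field F]

local notation "Vec" => Fin 3 → F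
local notation "GL3" => GL (Fin 3) F

/-- `tv v φ` is a transvection (or the identity) lying in `P`. -/
def Tv (P : Subgroup GL3) (v φ : Vec) : Prop := φ ⬝ᵥ v = 0 ∧ tv v φ ∈ P

/-- `(v, φ)` and `(w, ψ)` are linked. -/
def Linked (v φ w ψ : Vec) : Prop := φ ⬝ᵥ w ≠ 0 ∧ ψ ⬝ᵥ v ≠ 0

variable {P : Subgroup (GL (Fin 3) F)} {v w φ ψ : Fin 3 → F}

theorem tv_zero_mem (v : Vec) : Tv P v 0 :=
  ⟨zero_dotProduct v, by rw [tv_zero_right]; exact P.one_mem⟩

theorem Tv.add (h : Tv P v φ) (h' : Tv P v ψ) : Tv P v (φ + ψ) :=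
  ⟨by rw [add_dotProduct, h.1, h'.1, add_zero], by
    rw [← tv_mul_center h.1 h'.1]; exact P.mul_mem h.2 h'.2⟩

theorem Tv.neg (h : Tv P v φ) : Tv P v (-φ) :=
  ⟨by rw [neg_dotProduct, h.1, neg_zero], by rw [← tv_inv h.1]; exact P.inv_mem h.2⟩

theorem Tv.sub (h : Tv P v φ) (h' : Tv P v ψ) : Tv P v (φ - ψ) := by
  rw [sub_eq_add_neg]; exact h.add h'.neg

theorem tv_smul_left_iff {a : F} (ha : a ≠ 0) : Tv P (a • v) φ ↔ Tv P v (a • φ) := by
  have e : φ ⬝ᵥ (a • v) = 0 ↔ (a • φ) ⬝ᵥ v = 0 := by rw [dotProduct_smul, smul_dotProduct]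
  constructor
  · intro h
    have h0 : φ ⬝ᵥ v = 0 := by simpa [ha] using h.1
    exact ⟨e.1 h.1, by rw [← tv_smul h0]; exact h.2⟩
  · intro h
    have h0 : φ ⬝ᵥ v = 0 := by simpa [ha] using h.1
    exact ⟨e.2 h.1, by rw [tv_smul h0]; exact h.2⟩

theorem Tv.conj (h : Tv P v φ) {g : GL3} (hg : g ∈ P) :
    Tv P ((g : Matrix (Fin 3) (Fin 3) F) *ᵥ v) (φ ᵥ* ((g⁻¹ : GL3) : Matrix (Fin 3) (Fin 3) F)) :=
  ⟨by rw [vecMul_dot, h.1], by
    rw [← conj_tv g h.1]; exact P.mul_mem (P.mul_mem hg h.2) (P.inv_mem hg)⟩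

theorem vecMul_tv_inv (hw : ψ ⬝ᵥ w = 0) (φ : Vec) :
    φ ᵥ* (((tv w ψ)⁻¹ : GL3) : Matrix (Fin 3) (Fin 3) F) = φ - (φ ⬝ᵥ w) • ψ := by
  rw [tv_inv hw, coe_tv (by rw [neg_dotProduct, hw, neg_zero]), vecMul_add, vecMul_one,
    vecMul_vecMulVec]
  simp [sub_eq_add_neg]

/-- Conjugating one transvection of `P` by another. -/
theorem Tv.conjTv (h : Tv P v φ) (h' : Tv P w ψ) :
    Tv P (v + (ψ ⬝ᵥ v) • w) (φ - (φ ⬝ᵥ w) • ψ) := by
  have := h.conj h'.2
  rwa [tv_mulVec h'.1, vecMul_tv_inv h'.1] at this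

theorem Tv.commutator_centre (h : Tv P v φ) (h' : Tv P w ψ) (h0 : φ ⬝ᵥ w = 0) :
    Tv P w ((ψ ⬝ᵥ v) • φ) := by
  rcases eq_or_ne (ψ ⬝ᵥ v) 0 with e | e
  · rw [e, zero_smul]; exact tv_zero_mem w
  have h1 := h.conjTv h'
  rw [h0, zero_smul, sub_zero] at h1
  have h2 : Tv P (-v) φ := by
    rw [← neg_one_smul F v, tv_smul_left_iff (neg_ne_zero.2 one_ne_zero), neg_one_smul]
    exact h.neg
  rw [← tv_smul_left_iff e]
  refine ⟨by rw [dotProduct_smul, h0, smul_zero], ?_⟩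
  have := P.mul_mem h1.2 h2.2
  rwa [tv_mul_axis h1.1 h2.1, show v + (ψ ⬝ᵥ v) • w + -v = (ψ ⬝ᵥ v) • w by abel] at this

theorem Tv.commutator_axis (h : Tv P v φ) (h' : Tv P w ψ) (h0 : ψ ⬝ᵥ v = 0) :
    Tv P v ((φ ⬝ᵥ w) • ψ) := by
  have h1 := h.conjTv h'
  rw [h0, zero_smul, add_zero] at h1
  have := h.sub h1
  rwa [sub_sub_cancel] at this

/-! ### Consequences of irreducibility -/

/-- `P` contains a non-trivial transvection. -/
def HasTv (P : Subgroup GL3) : Prop := ∃ v φ, v ≠ 0 ∧ φ ≠ 0 ∧ Tv P v φ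

theorem exists_centre_notMem (hirr : Irred P) (hT : HasTv P) {W : Submodule F Vec} (hW : W ≠ ⊤) :
    ∃ v φ, v ≠ 0 ∧ φ ≠ 0 ∧ Tv P v φ ∧ v ∉ W := by
  by_contra hcon
  push Not at hcon
  let S : Submodule F Vec := Submodule.span F {x | ∃ φ, x ≠ 0 ∧ φ ≠ 0 ∧ Tv P x φ}
  have hS : S ≤ W := Submodule.span_le.2 fun x ⟨φ, hx, hφ, hT⟩ => hcon x φ hx hφ hT
  have hinv : Invariant P S := by
    intro g hg x hx
    induction hx using Submodule.span_induction with
    | mem y hy =>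
      obtain ⟨φ, hy0, hφ, hT⟩ := hy
      refine Submodule.subset_span ⟨_, ?_, ?_, hT.conj hg⟩
      · intro h
        exact hy0 (gl_mulVec_injective g (h.trans (mulVec_zero _).symm))
      · intro h
        apply hφ
        have := congrArg (· ᵥ* (g : Matrix (Fin 3) (Fin 3) F)) h
        simpa [vecMul_vecMul, ← Units.val_mul] using this
    | zero => rw [mulVec_zero]; exact S.zero_mem
    | add y z _ _ hy hz => rw [mulVec_add]; exact S.add_mem hy hz
    | smul c y _ hy => rw [mulVec_smul]; exact S.smul_mem c hy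
  rcases hirr S hinv with h | h
  · obtain ⟨v, φ, hv, hφ, hvT⟩ := hT
    have : v ∈ S := Submodule.subset_span ⟨φ, hv, hφ, hvT⟩
    rw [h] at this
    exact hv (by simpa using this)
  · exact hW (top_unique (h ▸ hS))

theorem exists_axis_ne (hirr : Irred P) (hT : HasTv P) {x : Vec} (hx : x ≠ 0) :
    ∃ v φ, v ≠ 0 ∧ φ ≠ 0 ∧ Tv P v φ ∧ φ ⬝ᵥ x ≠ 0 := by
  by_contra hcon
  push Not at hcon
  let S : Submodule F Vec :=
    { carrier := {y | ∀ v φ, v ≠ 0 → φ ≠ 0 → Tv P v φ → φ ⬝ᵥ y = 0}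
      add_mem' := fun {y z} hy hz v φ a b c => by
        rw [dotProduct_add, hy v φ a b c, hz v φ a b c, add_zero]
      zero_mem' := fun v φ _ _ _ => dotProduct_zero φ
      smul_mem' := fun c y hy v φ a b d => by rw [dotProduct_smul, hy v φ a b d, smul_zero] }
  have hinv : Invariant P S := by
    intro g hg y hy v φ hv hφ hvT
    have h1 := hvT.conj (P.inv_mem hg)
    rw [inv_inv] at h1
    rw [dotProduct_mulVec]
    refine hy _ _ ?_ ?_ h1
    · intro h
      exact hv (gl_mulVec_injective g⁻¹ (h.trans (mulVec_zero _).symm))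
    · intro h
      apply hφ
      have := congrArg (· ᵥ* ((g⁻¹ : GL3) : Matrix (Fin 3) (Fin 3) F)) h
      simpa [vecMul_vecMul, ← Units.val_mul] using this
  rcases hirr S hinv with h | h
  · have hxS : x ∈ S := fun v φ a b c => hcon v φ a b c
    rw [h] at hxS
    exact hx (by simpa using hxS)
  · obtain ⟨v, φ, hv, hφ, hvT⟩ := hT
    apply hφ
    funext i
    have : Pi.single i 1 ∈ S := by rw [h]; trivial
    simpa using this v φ hv hφ hvT

/-- An irreducible group with a transvection has a linked pair. -/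
theorem exists_linked (hirr : Irred P) (hT : HasTv P) :
    ∃ v φ w ψ, Tv P v φ ∧ Tv P w ψ ∧ Linked v φ w ψ := by
  by_contra hcon
  push Not at hcon
  have hnl : ∀ {a b c d : Vec}, Tv P a b → Tv P c d → b ⬝ᵥ c ≠ 0 → d ⬝ᵥ a = 0 := fun h1 h2 h3 =>
    by_contra fun h4 => hcon _ _ _ _ h1 h2 ⟨h3, h4⟩
  obtain ⟨v, φ, hv, hφ, hvT⟩ := hT
  let K : Submodule F Vec := LinearMap.ker (dotProductEquiv F (Fin 3) φ)
  have hK : K ≠ ⊤ := by
    intro h
    apply hφ
    funext i
    have : Pi.single i 1 ∈ K := by rw [h]; trivial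
    simpa [K] using this
  obtain ⟨w, ψ, hw, hψ, hwT, hwK⟩ := exists_centre_notMem hirr ⟨v, φ, hv, hφ, hvT⟩ hK
  have hpw : φ ⬝ᵥ w ≠ 0 := fun h => hwK (by simpa [K] using h)
  have h2 := hvT.commutator_axis hwT (hnl hvT hwT hpw)
  obtain ⟨u, η, hu, hη, huT, huv⟩ := exists_axis_ne hirr ⟨v, φ, hv, hφ, hvT⟩ hv
  have hφu : φ ⬝ᵥ u = 0 := by
    by_contra h
    exact huv (hnl hvT huT h)
  have hψu : ψ ⬝ᵥ u = 0 := by
    by_contra h
    exact huv (hnl h2 huT (by rw [smul_dotProduct]; exact mul_ne_zero hpw h))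
  -- `u` is killed by `φ`, `ψ`, hence a multiple of `v`
  have hli : LinearIndependent F ![v, u] := by
    rw [LinearIndependent.pair_iff' hv]
    intro a ha
    apply huv
    have : a ≠ 0 := by rintro rfl; exact hu (by rw [← ha, zero_smul])
    have h3 := huT.1
    rw [← ha, dotProduct_smul, smul_eq_mul] at h3
    exact (mul_eq_zero.1 h3).resolve_left this
  have hspan : Submodule.span F (Set.range ![v, u]) ≤
      LinearMap.ker (dotProductEquiv F (Fin 3) φ) ⊓ LinearMap.ker (dotProductEquiv F (Fin 3) ψ) := by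
    rw [Submodule.span_le]
    rintro _ ⟨i, rfl⟩
    fin_cases i
    · simp [hvT.1, hnl hvT hwT hpw]
    · simp [hφu, hψu]
  have h2d : Module.finrank F (Submodule.span F (Set.range ![v, u])) = 2 := by
    rw [finrank_span_eq_card hli]; rfl
  have hlt : LinearMap.ker (dotProductEquiv F (Fin 3) φ) ⊓ LinearMap.ker (dotProductEquiv F (Fin 3) ψ) <
      LinearMap.ker (dotProductEquiv F (Fin 3) ψ) := by
    refine lt_of_le_of_ne inf_le_right fun he => hpw ?_
    have : w ∈ LinearMap.ker (dotProductEquiv F (Fin 3) φ) ⊓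
        LinearMap.ker (dotProductEquiv F (Fin 3) ψ) := by rw [he]; simpa using hwT.1
    simpa using this.1
  have h3 := Submodule.finrank_lt_finrank_of_lt hlt
  have h4 : Module.finrank F (LinearMap.ker (dotProductEquiv F (Fin 3) ψ)) ≤ 2 := by
    have h5 := Submodule.finrank_lt (show LinearMap.ker (dotProductEquiv F (Fin 3) ψ) ≠ ⊤ by
      intro h
      apply hψ
      funext i
      have : Pi.single i 1 ∈ LinearMap.ker (dotProductEquiv F (Fin 3) ψ) := by rw [h]; trivial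
      simpa using this)
    rw [Module.finrank_pi] at h5
    simpa using Nat.lt_succ_iff.1 h5
  have h6 := Submodule.finrank_mono hspan
  omega

/-! ### The plane representation -/

/-- A two by two matrix acting on the plane of `v`, `w` and trivially on the common kernel of `a`, `b`. -/
def planeMat (v w a b : Vec) (m : Matrix (Fin 2) (Fin 2) F) : Matrix (Fin 3) (Fin 3) F :=
  1 + vecMulVec v ((m 0 0 - 1) • a + m 0 1 • b) + vecMulVec w (m 1 0 • a + (m 1 1 - 1) • b)

theorem planeMat_mulVec (v w a b : Vec) (m : Matrix (Fin 2) (Fin 2) F) (x : Vec) :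
    planeMat v w a b m *ᵥ x = x + ((m 0 0 - 1) * (a ⬝ᵥ x) + m 0 1 * (b ⬝ᵥ x)) • v +
      (m 1 0 * (a ⬝ᵥ x) + (m 1 1 - 1) * (b ⬝ᵥ x)) • w := by
  rw [planeMat, add_mulVec, add_mulVec, one_mulVec, vecMulVec_mulVec, vecMulVec_mulVec,
    op_smul_eq_smul, op_smul_eq_smul]
  simp [add_dotProduct, smul_dotProduct]

/-- Dual bases of a plane and of its functionals. -/
structure Frame2 (v w a b : Vec) : Prop where
  av : a ⬝ᵥ v = 1
  aw : a ⬝ᵥ w = 0
  bv : b ⬝ᵥ v = 0
  bw : b ⬝ᵥ w = 1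

theorem planeMat_one (v w a b : Vec) : planeMat v w a b 1 = 1 := by simp [planeMat]

theorem planeMat_mul {v w a b : Vec} (h : Frame2 v w a b) (m n : Matrix (Fin 2) (Fin 2) F) :
    planeMat v w a b (m * n) = planeMat v w a b m * planeMat v w a b n := by
  refine Matrix.mulVec_injective (funext fun x => ?_)
  rw [← Matrix.mulVec_mulVec]
  simp only [planeMat_mulVec, dotProduct_add, dotProduct_smul, h.av, h.aw, h.bv, h.bw,
    Matrix.mul_apply, Fin.sum_univ_two, smul_eq_mul]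
  module

/-- The representation of `SL 2` on a plane. -/
def planeHom {v w a b : Vec} (h : Frame2 v w a b) :
    Matrix.SpecialLinearGroup (Fin 2) F →* GL3 :=
  MonoidHom.toHomUnits
    { toFun := fun m => planeMat v w a b (m : Matrix (Fin 2) (Fin 2) F)
      map_one' := by rw [Matrix.SpecialLinearGroup.coe_one, planeMat_one]
      map_mul' := fun m n => by rw [Matrix.SpecialLinearGroup.coe_mul, planeMat_mul h] }

theorem coe_planeHom {v w a b : Vec} (h : Frame2 v w a b) (m : Matrix.SpecialLinearGroup (Fin 2) F) :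
    ((planeHom h m : GL3) : Matrix (Fin 3) (Fin 3) F) = planeMat v w a b (m : Matrix (Fin 2) (Fin 2) F) :=
  rfl

theorem planeHom_upper {v w a b : Vec} (h : Frame2 v w a b) (c : F)
    (m : Matrix.SpecialLinearGroup (Fin 2) F) (hm : (m : Matrix (Fin 2) (Fin 2) F) = !![1, c; 0, 1]) :
    planeHom h m = tv v (c • b) := by
  refine gl_ext fun x => ?_
  rw [coe_planeHom, planeMat_mulVec, hm, tv_mulVec (by rw [smul_dotProduct, h.bv, smul_zero])]
  simp [smul_dotProduct]

theorem planeHom_lower {v w a b : Vec} (h : Frame2 v w a b) (c : F)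
    (m : Matrix.SpecialLinearGroup (Fin 2) F) (hm : (m : Matrix (Fin 2) (Fin 2) F) = !![1, 0; c, 1]) :
    planeHom h m = tv w (c • a) := by
  refine gl_ext fun x => ?_
  rw [coe_planeHom, planeMat_mulVec, hm, tv_mulVec (by rw [smul_dotProduct, h.aw, smul_zero])]
  simp [smul_dotProduct]

theorem frame2_of_linked (h : Tv P v φ) (h' : Tv P w ψ) (hl : Linked v φ w ψ) :
    Frame2 ((ψ ⬝ᵥ v)⁻¹ • v) w ψ ((φ ⬝ᵥ w)⁻¹ • φ) :=
  ⟨by rw [dotProduct_smul, smul_eq_mul, inv_mul_cancel₀ hl.2], h'.1,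
    by rw [dotProduct_smul, smul_dotProduct, h.1, smul_zero, smul_zero],
    by rw [smul_dotProduct, smul_eq_mul, inv_mul_cancel₀ hl.1]⟩

end Cfsg.Agent.Lib.TransvThree
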