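import Cfsg.Agent.Lib.TransvThree.Multiplier

/-!
A triangle of pairwise linked transvections, and the split into the case of two axes through a
centre and the case of unique axes.
-/

set_option autoImplicit false
set_option linter.unusedSectionVars false

namespace Cfsg.Agent.Lib.TransvThree

open Matrix
open Cfsg.Agent.Lib.Subspaces.Transvection Cfsg.Agent.Lib.PrimeDim.Basic

variable {F : Type*} [Field F]

local notation "Vec" => Fin 3 → F

variable {P : Subgroup (GL (Fin 3) F)} {v w φ ψ : Fin 3 → F}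

/-- The subgroup generated by the transvections of `P`. -/
def tvGroup (P : Subgroup (GL (Fin 3) F)) : Subgroup (GL (Fin 3) F) :=
  Subgroup.closure {g | ∃ v φ : Fin 3 → F, Tv P v φ ∧ tv v φ = g}

theorem tvGroup_le (P : Subgroup (GL (Fin 3) F)) : tvGroup P ≤ P := by
  rw [tvGroup, Subgroup.closure_le]
  rintro _ ⟨v, φ, h, rfl⟩
  exact h.2

theorem tv_mem_tvGroup (h : Tv P v φ) : tv v φ ∈ tvGroup P :=
  Subgroup.subset_closure ⟨v, φ, h, rfl⟩

theorem tvGroup_normalized (P : Subgroup (GL (Fin 3) F)) : NormalizedBy P (tvGroup P) := by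
  intro g hg x hx
  induction hx using Subgroup.closure_induction with
  | mem y hy =>
    obtain ⟨v, φ, h, rfl⟩ := hy
    rw [conj_tv g h.1]
    exact tv_mem_tvGroup (h.conj hg)
  | one => rw [mul_one, mul_inv_cancel]; exact one_mem _
  | mul a b _ _ ha hb =>
    rw [show g * (a * b) * g⁻¹ = (g * a * g⁻¹) * (g * b * g⁻¹) by group]
    exact mul_mem ha hb
  | inv a _ ha =>
    rw [show g * a⁻¹ * g⁻¹ = (g * a * g⁻¹)⁻¹ by group]
    exact inv_mem ha

/-- Some centre carries two axes. -/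
def TwoAxes (P : Subgroup (GL (Fin 3) F)) : Prop :=
  ∃ x y φ ψ : Fin 3 → F, x ≠ 0 ∧ Tv P x φ ∧ Tv P x ψ ∧ φ ⬝ᵥ y ≠ 0 ∧ ψ ⬝ᵥ y = 0 ∧ ψ ≠ 0

/-- Three pairwise linked transvections with independent centres. -/
structure Triangle (P : Subgroup (GL (Fin 3) F)) where
  vec : Fin 3 → (Fin 3 → F)
  fn : Fin 3 → (Fin 3 → F)
  isTv : ∀ i, Tv P (vec i) (fn i)
  linked : ∀ i j, i ≠ j → Linked (vec i) (fn i) (vec j) (fn j)
  indep : LinearIndependent F vec
  indepFn : LinearIndependent F fn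

theorem two_good : ∀ a b : Fin 4 → Bool,
    (∀ i j, i ≠ j → (a i || a j) = true) → (∀ i j, i ≠ j → (b i || b j) = true) →
    ∃ i j, i ≠ j ∧ (a i && b i) = true ∧ (a j && b j) = true := by
  decide +kernel

theorem one_zero [DecidableEq F] (h2 : (2 : F) ≠ 0) (g : Fin 4 → F) (p q b : F) (hb : b ≠ 0) (hpq : p ≠ 0 ∨ q ≠ 0)
    (g0 : g 0 = p) (g1 : g 1 = q) (g2 : g 2 = p + b * q) (g3 : g 3 = p - b * q) :
    ∀ i j, i ≠ j → (decide (g i ≠ 0) || decide (g j ≠ 0)) = true := by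
  intro i j hij
  rw [Bool.or_eq_true, decide_eq_true_iff, decide_eq_true_iff]
  by_contra h
  push Not at h
  obtain ⟨hi, hj⟩ := h
  have h2' : b * 2 ≠ 0 := mul_ne_zero hb h2
  fin_cases i <;> fin_cases j <;> first
    | exact absurd rfl hij
    | (simp only [Fin.zero_eta, Fin.mk_one, Fin.reduceFinMk] at hi hj
       grind)

variable [Fintype F] (hirr : Irred P) (h2 : (2 : F) ≠ 0)

include hirr h2 in
theorem exists_triangle (hT : HasTv P) : Nonempty (Triangle P) := by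
  classical
  obtain ⟨v, φ, w, ψ, hv, hw, hl⟩ := exists_linked hirr hT
  have h1 := hl.1
  have h2' := hl.2
  have hL : ∀ u, u ∈ Submodule.span F ({v, w} : Set Vec) ↔ ∃ a b : F, u = a • v + b • w := fun u => by
    rw [Submodule.mem_span_pair]
    exact ⟨fun ⟨a, b, h⟩ => ⟨a, b, h.symm⟩, fun ⟨a, b, h⟩ => ⟨a, b, h.symm⟩⟩
  have hLne : Submodule.span F ({v, w} : Set Vec) ≠ ⊤ := fun h => by
    have h4 := (finrank_span_finset_le_card (R := F) ({v, w} : Finset Vec)).trans Finset.card_le_two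
    rw [Finset.coe_insert, Finset.coe_singleton, Set.finrank, h, finrank_top, Module.finrank_pi] at h4
    simp at h4
  obtain ⟨f, θ, hf0, hθ0, hf, hfL⟩ := exists_centre_notMem hirr hT hLne
  obtain ⟨a, b, f₀, hdec, k1, k2, -, -⟩ := exists_decomp hv.1 hw.1 hl f
  have hf₀ : f₀ ≠ 0 := fun e => hfL ((hL f).2 ⟨a, b, by rw [hdec, e, add_zero]⟩)
  -- a centre off the plane whose axis misses the common fixed point
  obtain ⟨x, η, hx, hxL, hηK⟩ : ∃ x η : Vec, Tv P x η ∧ x ∉ Submodule.span F ({v, w} : Set Vec) ∧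
      η ⬝ᵥ f₀ ≠ 0 := by
    by_cases h0 : θ ⬝ᵥ f₀ = 0
    swap; · exact ⟨f, θ, hf, hfL, h0⟩
    obtain ⟨y, ρ, hy0', -, hy, hρ⟩ := exists_axis_ne hirr hT hf₀
    by_cases hyL : y ∈ Submodule.span F ({v, w} : Set Vec)
    swap; · exact ⟨y, ρ, hy, hyL, hρ⟩
    obtain ⟨f', θ', hf', hf'L, hθ'0, hθy⟩ : ∃ f' θ' : Vec, Tv P f' θ' ∧
        f' ∉ Submodule.span F ({v, w} : Set Vec) ∧ θ' ⬝ᵥ f₀ = 0 ∧ θ' ⬝ᵥ y ≠ 0 := by
      have hkeep : ∀ z σ, Tv P z σ → z ∈ Submodule.span F ({v, w} : Set Vec) → σ ⬝ᵥ f₀ = 0 →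
          Tv P (f + (σ ⬝ᵥ f) • z) (θ - (θ ⬝ᵥ z) • σ) ∧
          f + (σ ⬝ᵥ f) • z ∉ Submodule.span F ({v, w} : Set Vec) ∧
          (θ - (θ ⬝ᵥ z) • σ) ⬝ᵥ f₀ = 0 := fun z σ hz hzL hσ =>
        ⟨hf.conjTv hz, fun h => hfL (by
          simpa using Submodule.sub_mem _ h (Submodule.smul_mem _ (σ ⬝ᵥ f) hzL)), by
          rw [sub_dotProduct, smul_dotProduct, hσ, h0, smul_zero, sub_zero]⟩
      by_cases hty : θ ⬝ᵥ y = 0
      swap; · exact ⟨f, θ, hf, hfL, h0, hty⟩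
      obtain ⟨c, d, rfl⟩ := (hL y).1 hyL
      have hy0 : c ≠ 0 ∨ d ≠ 0 := by
        by_contra h
        push Not at h
        exact hy0' (by rw [h.1, h.2, zero_smul, zero_smul, add_zero])
      have hθvw : θ ⬝ᵥ v ≠ 0 ∨ θ ⬝ᵥ w ≠ 0 := by
        by_contra h
        push Not at h
        apply hθ0
        funext i
        obtain ⟨a', b', z0, hd', e1, e2, -, -⟩ := exists_decomp hv.1 hw.1 hl (Pi.single i 1)
        obtain ⟨cz, rfl⟩ := kernel_smul hv.1 hw.1 hl k1 k2 e1 e2 hf₀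
        simpa [h.1, h.2, h0] using congrArg (fun z => θ ⬝ᵥ z) hd'
      by_cases hd : d = 0
      · have hc : c ≠ 0 := hy0.resolve_right (not_not.2 hd)
        have hθv : θ ⬝ᵥ v = 0 := by
          rw [hd, zero_smul, add_zero, dotProduct_smul, smul_eq_mul] at hty
          exact (mul_eq_zero.1 hty).resolve_left hc
        have hθw := hθvw.resolve_left (not_not.2 hθv)
        obtain ⟨p1, p2, p3⟩ := hkeep w ψ hw (Submodule.subset_span (Or.inr rfl)) k2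
        refine ⟨_, _, p1, p2, p3, ?_⟩
        simp [hd, hθv, h2', hθw, hc]
      · by_cases hθv : θ ⬝ᵥ v = 0
        · have hθw := hθvw.resolve_left (not_not.2 hθv)
          exfalso
          simp [hθv] at hty
          exact hd (hty.resolve_right hθw)
        · obtain ⟨p1, p2, p3⟩ := hkeep v φ hv (Submodule.subset_span (Or.inl rfl)) k1
          refine ⟨_, _, p1, p2, p3, ?_⟩
          simp only [sub_dotProduct, hty, zero_sub, smul_dotProduct, dotProduct_add, dotProduct_smul,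
            hv.1, smul_eq_mul, mul_zero, zero_add, neg_ne_zero]
          intro h
          simp only [dotProduct_add, dotProduct_smul, smul_eq_mul] at hty
          refine mul_ne_zero hθv (mul_ne_zero hd h1) ?_
          linear_combination hty - h
    refine ⟨_, _, hy.conjTv hf', fun h => hf'L ?_, ?_⟩
    · have := Submodule.sub_mem _ h hyL
      rw [add_sub_cancel_left] at this
      simpa [smul_smul, hθy] using Submodule.smul_mem _ (θ' ⬝ᵥ y)⁻¹ this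
    · rw [sub_dotProduct, smul_dotProduct, hθ'0, smul_zero, sub_zero]; exact hρ
  -- two of four centres on the plane are linked to `x`
  obtain ⟨c, d, x₀, hxd, m1, m2, -, -⟩ := exists_decomp hv.1 hw.1 hl x
  obtain ⟨e, he⟩ := kernel_smul hv.1 hw.1 hl k1 k2 m1 m2 hf₀
  have hx₀ : η ⬝ᵥ x₀ ≠ 0 := by
    rw [he, dotProduct_smul, smul_eq_mul]
    refine mul_ne_zero (fun h => hxL ((hL x).2 ⟨c, d, ?_⟩)) hηK
    rw [hxd, he, h, zero_smul, add_zero]
  have hsum : c * (η ⬝ᵥ v) + d * (η ⬝ᵥ w) + η ⬝ᵥ x₀ = 0 := by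
    have := hx.1
    rw [hxd] at this
    simpa [dotProduct_add] using this
  have hηvw : η ⬝ᵥ v ≠ 0 ∨ η ⬝ᵥ w ≠ 0 := by
    by_contra h
    push Not at h
    rw [h.1, h.2, mul_zero, mul_zero, zero_add, zero_add] at hsum
    exact hx₀ hsum
  have hxvw : φ ⬝ᵥ x ≠ 0 ∨ ψ ⬝ᵥ x ≠ 0 := by
    by_contra h
    push Not at h
    have hd0 : d = 0 := by
      have := h.1
      rw [hxd] at this
      simpa [dotProduct_add, hv.1, m1, h1] using this
    have hc0 : c = 0 := by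
      have := h.2
      rw [hxd] at this
      simpa [dotProduct_add, hw.1, m2, h2'] using this
    rw [hc0, hd0, zero_mul, zero_mul, zero_add, zero_add] at hsum
    exact hx₀ hsum
  obtain ⟨α, hα⟩ : ∃ α, α = φ ⬝ᵥ w := ⟨_, rfl⟩
  obtain ⟨β, hβ⟩ : ∃ β, β = ψ ⬝ᵥ v := ⟨_, rfl⟩
  let z : Fin 4 → Vec := ![v, w, v + β • w, v - β • w]
  let σ : Fin 4 → Vec := ![φ, ψ, φ - α • ψ, φ + α • ψ]
  have hz : ∀ i, Tv P (z i) (σ i) := fun i => by
    fin_cases i
    · exact hv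
    · exact hw
    · simpa [z, σ, hα, hβ] using hv.conjTv hw
    · simpa [z, σ, hα, hβ, sub_eq_add_neg] using hv.conjTv hw.neg
  have hαβ : α * β ≠ 0 := mul_ne_zero (hα ▸ h1) (hβ ▸ h2')
  have hzl : ∀ i j, i ≠ j → Linked (z i) (σ i) (z j) (σ j) := by
    intro i j hij
    have a1 : α ≠ 0 := left_ne_zero_of_mul hαβ
    have a2 : β ≠ 0 := right_ne_zero_of_mul hαβ
    have a3 : (2 : F) * (α * β) ≠ 0 := mul_ne_zero h2 hαβ
    fin_cases i <;> fin_cases j <;> first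
      | exact absurd rfl hij
      | (refine ⟨?_, ?_⟩ <;>
          simp only [z, σ, Fin.zero_eta, Fin.mk_one, Fin.reduceFinMk, Matrix.cons_val_zero,
            Matrix.cons_val_one, Matrix.cons_val, dotProduct_add, dotProduct_sub, add_dotProduct,
            sub_dotProduct, smul_dotProduct, dotProduct_smul, hv.1, hw.1, ← hα, ← hβ, smul_eq_mul,
            mul_zero, add_zero, zero_add, sub_zero, zero_sub, neg_ne_zero] <;>
          first
            | assumption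
            | grind)
  obtain ⟨i, j, hij, hi, hj⟩ := two_good (fun i => decide (η ⬝ᵥ z i ≠ 0))
    (fun i => decide (σ i ⬝ᵥ x ≠ 0))
    (one_zero h2 (fun i => η ⬝ᵥ z i) _ _ β (right_ne_zero_of_mul hαβ) hηvw rfl rfl (by simp [z, dotProduct_add]) (by simp [z, dotProduct_sub]))
    (one_zero h2 (fun i => σ i ⬝ᵥ x) _ _ (-α) (neg_ne_zero.2 (left_ne_zero_of_mul hαβ)) hxvw rfl rfl
      (by simp [σ, sub_dotProduct, sub_eq_add_neg]) (by simp [σ, add_dotProduct]))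
  simp only [Bool.and_eq_true, decide_eq_true_iff] at hi hj
  have hzL : ∀ i, z i ∈ Submodule.span F ({v, w} : Set Vec) := fun i => by
    have : v ∈ Submodule.span F ({v, w} : Set Vec) := Submodule.subset_span (Set.mem_insert v _)
    have h' : w ∈ Submodule.span F ({v, w} : Set Vec) :=
      Submodule.subset_span (Set.mem_insert_of_mem v (Set.mem_singleton w))
    fin_cases i
    · exact this
    · exact h'
    · exact Submodule.add_mem _ this (Submodule.smul_mem _ _ h')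
    · exact Submodule.sub_mem _ this (Submodule.smul_mem _ _ h')
  refine ⟨⟨![z i, z j, x], ![σ i, σ j, η], ?_, ?_, ?_, ?_⟩⟩
  · intro k; fin_cases k
    · exact hz i
    · exact hz j
    · exact hx
  · intro k l hkl
    fin_cases k <;> fin_cases l <;> first
      | exact absurd rfl hkl
      | exact hzl i j hij
      | exact hzl j i hij.symm
      | exact ⟨hi.2, hi.1⟩
      | exact ⟨hi.1, hi.2⟩
      | exact ⟨hj.2, hj.1⟩
      | exact ⟨hj.1, hj.2⟩
  · rw [Fintype.linearIndependent_iff]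
    intro g hg
    simp only [Fin.sum_univ_three, Matrix.cons_val_zero, Matrix.cons_val_one, Matrix.cons_val] at hg
    have hg2 : g 2 = 0 := by
      by_contra h
      apply hxL
      have : g 2 • x ∈ Submodule.span F ({v, w} : Set Vec) := by
        rw [eq_neg_of_add_eq_zero_right hg]
        exact Submodule.neg_mem _ (Submodule.add_mem _ (Submodule.smul_mem _ _ (hzL i))
          (Submodule.smul_mem _ _ (hzL j)))
      simpa [smul_smul, h] using Submodule.smul_mem _ (g 2)⁻¹ this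
    rw [hg2, zero_smul, add_zero] at hg
    have e1 := congrArg (fun y => σ i ⬝ᵥ y) hg
    have e2 := congrArg (fun y => σ j ⬝ᵥ y) hg
    simp [dotProduct_add, (hz i).1, (hzl i j hij).1] at e1
    simp [dotProduct_add, (hz j).1, (hzl i j hij).2] at e2
    intro k
    fin_cases k <;> assumption
  · rw [Fintype.linearIndependent_iff]
    intro g hg
    simp only [Fin.sum_univ_three, Matrix.cons_val_zero, Matrix.cons_val_one, Matrix.cons_val] at hg
    have hσ0 : ∀ k, σ k ⬝ᵥ f₀ = 0 := fun k => by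
      fin_cases k <;> simp [σ, sub_dotProduct, add_dotProduct, k1, k2]
    have e0 := congrArg (fun y => y ⬝ᵥ f₀) hg
    simp [add_dotProduct, hσ0, hηK] at e0
    rw [e0, zero_smul, add_zero] at hg
    have e1 := congrArg (fun y => y ⬝ᵥ z i) hg
    have e2 := congrArg (fun y => y ⬝ᵥ z j) hg
    simp [add_dotProduct, (hz i).1, (hzl i j hij).2] at e1
    simp [add_dotProduct, (hz j).1, (hzl i j hij).1] at e2
    intro k
    fin_cases k <;> assumption

include hirr h2 in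
theorem cycle_sub_mem {v₀ v₁ v₂ φ₀ φ₁ φ₂ : Vec} (a : Tv P v₀ φ₀) (b : Tv P v₁ φ₁) (c : Tv P v₂ φ₂) :
    (φ₀ ⬝ᵥ v₁) * (φ₁ ⬝ᵥ v₂) * (φ₂ ⬝ᵥ v₀) - (φ₀ ⬝ᵥ v₂) * (φ₂ ⬝ᵥ v₁) * (φ₁ ⬝ᵥ v₀) ∈ rootField P := by
  have h := param_mem hirr h2 (b.conjTv a) c
  have h' := add_mem (sub_mem h (param_mem hirr h2 b c))
    (mul_mem (param_mem hirr h2 b a) (param_mem hirr h2 a c))
  convert h' using 1
  simp only [sub_dotProduct, smul_dotProduct, dotProduct_add, dotProduct_smul, smul_eq_mul]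
  ring

include hirr h2 in
theorem cycle_mul_mem {v₀ v₁ v₂ φ₀ φ₁ φ₂ : Vec} (a : Tv P v₀ φ₀) (b : Tv P v₁ φ₁) (c : Tv P v₂ φ₂) :
    ((φ₀ ⬝ᵥ v₁) * (φ₁ ⬝ᵥ v₂) * (φ₂ ⬝ᵥ v₀)) * ((φ₀ ⬝ᵥ v₂) * (φ₂ ⬝ᵥ v₁) * (φ₁ ⬝ᵥ v₀)) ∈ rootField P := by
  convert mul_mem (mul_mem (param_mem hirr h2 a b) (param_mem hirr h2 b c)) (param_mem hirr h2 c a)
    using 1
  ring

include hirr h2 in
/-- In the case of unique axes a rational cycle is anti-symmetric. -/
theorem cycle_rational {v₀ v₁ v₂ φ₀ φ₁ φ₂ : Vec} (a : Tv P v₀ φ₀) (b : Tv P v₁ φ₁) (c : Tv P v₂ φ₂)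
    (hA : ¬ TwoAxes P)
    (hT : (φ₀ ⬝ᵥ v₁) * (φ₁ ⬝ᵥ v₂) * (φ₂ ⬝ᵥ v₀) ∈ rootField P) (hv₁ : v₁ ≠ 0)
    (hT0 : (φ₀ ⬝ᵥ v₁) * (φ₁ ⬝ᵥ v₂) * (φ₂ ⬝ᵥ v₀) ≠ 0) :
    (φ₀ ⬝ᵥ v₁) * (φ₁ ⬝ᵥ v₂) * (φ₂ ⬝ᵥ v₀) + (φ₀ ⬝ᵥ v₂) * (φ₂ ⬝ᵥ v₁) * (φ₁ ⬝ᵥ v₀) = 0 := by
  by_contra hne
  obtain ⟨k, hk⟩ : ∃ k, k = -((φ₁ ⬝ᵥ v₂) * (φ₂ ⬝ᵥ v₁)) /
      ((φ₀ ⬝ᵥ v₁) * (φ₁ ⬝ᵥ v₂) * (φ₂ ⬝ᵥ v₀)) := ⟨_, rfl⟩
  have hkE : k ∈ rootField P := hk ▸ div_mem (neg_mem (param_mem hirr h2 b c)) hT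
  have hb := b.conjTv (smul_mem_root hkE a)
  obtain ⟨⟨n01, n12⟩, n20⟩ : ((φ₀ ⬝ᵥ v₁ ≠ 0) ∧ φ₁ ⬝ᵥ v₂ ≠ 0) ∧ φ₂ ⬝ᵥ v₀ ≠ 0 := by
    simpa [mul_eq_zero, not_or] using hT0
  have h0 : φ₂ ⬝ᵥ (v₁ + ((k • φ₀) ⬝ᵥ v₁) • v₀) = 0 := by
    simp only [dotProduct_add, dotProduct_smul, smul_dotProduct, smul_eq_mul, hk]
    field_simp
    ring
  have h1 : (φ₁ - (φ₁ ⬝ᵥ v₀) • (k • φ₀)) ⬝ᵥ v₂ ≠ 0 := by
    intro h
    apply hne
    simp only [sub_dotProduct, smul_dotProduct, smul_eq_mul, hk] at h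
    field_simp at h
    linear_combination h
  refine hA ⟨_, v₂, _, _, conjTv_ne_zero hv₁ ?_, hb, hb.commutator_axis c h0, h1, ?_, ?_⟩
  · rw [smul_dotProduct, a.1, smul_zero]
  · rw [smul_dotProduct, c.1, smul_zero]
  · refine smul_ne_zero h1 fun h => n20 (by rw [h, zero_dotProduct])

end Cfsg.Agent.Lib.TransvThree
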