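import Cfsg.Agent.Lib.TransvThree.Frame

/-!
Two axes through a centre: the transvections generate `SL 3` over the field of multipliers.
-/

set_option autoImplicit false
set_option linter.unusedSectionVars false

namespace Cfsg.Agent.Lib.TransvThree

open Matrix
open Cfsg.Agent.Lib.Subspaces.Transvection Cfsg.Agent.Lib.PrimeDim.Basic

variable {F : Type*} [Field F]

local notation "Vec" => Fin 3 → F

variable {P : Subgroup (GL (Fin 3) F)}

/-- The image of `SL 3` over a subfield. -/
def subSL (E : Subfield F) : Subgroup (GL (Fin 3) F) :=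
  (Cfsg.Geo.specialLinear (Fin 3) E).map (Matrix.GeneralLinearGroup.map E.subtype)

theorem tv_conjugate_iff (g : GL (Fin 3) F) (v φ : Vec) :
    Tv (P.map (MulAut.conj g⁻¹).toMonoidHom) v φ ↔
      Tv P ((g : Matrix (Fin 3) (Fin 3) F) *ᵥ v) (φ ᵥ* ((g⁻¹ : GL (Fin 3) F) : Matrix (Fin 3) (Fin 3) F)) := by
  unfold Tv
  rw [vecMul_dot]
  refine and_congr_right fun h0 => ?_
  rw [← conj_tv g h0, Subgroup.mem_map]
  constructor
  · rintro ⟨x, hx, e⟩
    simp only [MulEquiv.coe_toMonoidHom, MulAut.conj_apply, inv_inv] at e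
    rw [← e]
    simpa [mul_assoc] using hx
  · intro h
    exact ⟨_, h, by simp [mul_assoc]⟩

theorem tvGroup_conjugate (g : GL (Fin 3) F) :
    tvGroup (P.map (MulAut.conj g⁻¹).toMonoidHom) = (tvGroup P).map (MulAut.conj g⁻¹).toMonoidHom := by
  rw [tvGroup, tvGroup, MonoidHom.map_closure]
  congr 1
  ext x
  constructor
  · rintro ⟨v, φ, h, rfl⟩
    refine ⟨_, ⟨_, _, (tv_conjugate_iff g v φ).1 h, rfl⟩, ?_⟩
    simp only [MulEquiv.coe_toMonoidHom, MulAut.conj_apply, inv_inv]
    rw [← conj_tv g h.1]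
    group
  · rintro ⟨_, ⟨v, φ, h, rfl⟩, rfl⟩
    refine ⟨((g⁻¹ : GL (Fin 3) F) : Matrix (Fin 3) (Fin 3) F) *ᵥ v, φ ᵥ* (g : Matrix (Fin 3) (Fin 3) F),
      (tv_conjugate_iff g _ _).2 ?_, ?_⟩
    · rw [gl_mulVec_inv, vecMul_vecMul, ← Units.val_mul, mul_inv_cancel, Units.val_one, vecMul_one]
      exact h
    · simp only [MulEquiv.coe_toMonoidHom, MulAut.conj_apply]
      rw [conj_tv g⁻¹ h.1, inv_inv]

/-- A frame whose six root groups have field `E`, for which all transvections are rational. -/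
def StdRoots (P : Subgroup (GL (Fin 3) F)) (E : Subfield F) : Prop :=
  (∀ i j : Fin 3, i ≠ j → ∀ c ∈ E, Tv P (Pi.single i 1) (Pi.single j c)) ∧
    ∀ u χ : Fin 3 → F, Tv P u χ → ∀ i j, u i * χ j ∈ E

theorem tvGroup_eq_subSL (E : Subfield F) (h : StdRoots P E) : tvGroup P = subSL E := by
  classical
  apply le_antisymm
  · rw [tvGroup, Subgroup.closure_le]
    rintro _ ⟨u, χ, hu, rfl⟩
    by_cases h0 : u = 0 ∨ χ = 0
    · rcases h0 with rfl | rfl
      · rw [tv_zero_left]; exact one_mem _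
      · rw [tv_zero_right]; exact one_mem _
    push Not at h0
    obtain ⟨i, hi⟩ := Function.ne_iff.1 h0.1
    obtain ⟨j, hj⟩ := Function.ne_iff.1 h0.2
    simp only [Pi.zero_apply] at hi hj
    have hc : ∀ k, u k / u i ∈ E := fun k => by
      have := div_mem (h.2 u χ hu k j) (h.2 u χ hu i j)
      rwa [mul_div_mul_right _ _ hj] at this
    let u' : Fin 3 → E := fun k => ⟨u k / u i, hc k⟩
    let χ' : Fin 3 → E := fun k => ⟨u i * χ k, h.2 u χ hu i k⟩
    have hdot : χ' ⬝ᵥ u' = 0 := by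
      apply Subtype.ext
      have e1 : ((χ' ⬝ᵥ u' : E) : F) = χ ⬝ᵥ u := by
        simp only [dotProduct, Fin.sum_univ_three, χ', u']
        push_cast
        field_simp
      rw [e1, hu.1]
      rfl
    refine ⟨tv u' χ', tv_mem_specialLinear u' χ', ?_⟩
    refine Units.ext ?_
    rw [coe_tv hu.1]
    show (((tv u' χ' : GL (Fin 3) E) : Matrix (Fin 3) (Fin 3) E)).map E.subtype = _
    rw [coe_tv hdot]
    ext a b
    simp [Matrix.one_apply, vecMulVec_apply, u', χ']
    split_ifs <;> simp <;> field_simp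
  · rw [subSL, Subgroup.map_le_iff_le_comap]
    set M := (tvGroup P).comap (Matrix.GeneralLinearGroup.map E.subtype)
    have hsingle : ∀ i, FullCenter M (Pi.single i (1 : E)) := by
      intro i φ hφ
      have h0 : φ i = 0 := by simpa using hφ
      have hsum : Tv P (Pi.single i (1 : F)) (fun k => (φ k : F)) := by
        have : (fun k => (φ k : F)) = ∑ k, if k = i then (0 : Vec) else Pi.single k (φ k : F) := by
          funext a
          rw [Finset.sum_apply, Finset.sum_eq_single a]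
          · split_ifs with e
            · rw [e, h0]; rfl
            · simp
          · intro b _ hb
            split_ifs
            · rfl
            · simp [Ne.symm hb]
          · simp
        rw [this, Fin.sum_univ_three]
        have hh : ∀ k, Tv P (Pi.single i (1 : F)) (if k = i then (0 : Vec) else Pi.single k (φ k : F)) :=
          fun k => by
            split_ifs with e
            · exact tv_zero_mem _
            · exact h.1 i k (Ne.symm e) _ (φ k).2
        exact ((hh 0).add (hh 1)).add (hh 2)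
      rw [Subgroup.mem_comap]
      have e : Matrix.GeneralLinearGroup.map E.subtype (tv (Pi.single i (1 : E)) φ) =
          tv (Pi.single i (1 : F)) (fun k => (φ k : F)) := by
        refine Units.ext ?_
        show (((tv (Pi.single i (1 : E)) φ : GL (Fin 3) E) : Matrix (Fin 3) (Fin 3) E)).map E.subtype = _
        rw [coe_tv hφ, coe_tv hsum.1]
        ext a b
        simp [Matrix.one_apply, vecMulVec_apply, Pi.single_apply]
        split_ifs <;> simp
      rw [e]
      exact tv_mem_tvGroup hsum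
    refine specialLinear_le_of_fullCenter fun x => ?_
    have hx : x = ∑ k, x k • (Pi.single k 1 : Fin 3 → E) := by
      funext a; simp [Finset.sum_apply, Pi.single_apply]
    rw [hx]
    exact (mem_fullCenters (M := M)).1 (Submodule.sum_mem _ fun k _ =>
      Submodule.smul_mem _ _ ((mem_fullCenters (M := M)).2 (hsingle k)))

theorem ker_two {e f θ κ x : Vec} (hθf : θ ⬝ᵥ f = 0) (hκf : κ ⬝ᵥ f = 0) (hθe : θ ⬝ᵥ e ≠ 0)
    (hκe : κ ⬝ᵥ e = 0) (hκ0 : κ ≠ 0) (hx : θ ⬝ᵥ x = 0) (hx' : κ ⬝ᵥ x = 0) (hf : f ≠ 0) :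
    ∃ a : F, a • f = x := by
  by_contra hcon
  push Not at hcon
  have hli2 : LinearIndependent F ![f, x] := (LinearIndependent.pair_iff' hf).2 hcon
  let A : Matrix (Fin 2) (Fin 3) F := Matrix.of ![θ, κ]
  have hli : LinearIndependent F ![θ, κ] := by
    rw [Fintype.linearIndependent_iff]
    intro c hc
    simp only [Fin.sum_univ_two, Matrix.cons_val_zero, Matrix.cons_val_one] at hc
    have h0 : c 0 = 0 := by simpa [hκe, hθe, add_dotProduct] using congrArg (fun z => z ⬝ᵥ e) hc
    rw [h0, zero_smul, zero_add] at hc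
    intro i
    fin_cases i
    · exact h0
    · exact (smul_eq_zero.1 hc).resolve_right hκ0
  have hle : Submodule.span F (Set.range ![f, x]) ≤ LinearMap.ker A.mulVecLin := by
    rw [Submodule.span_le]
    rintro _ ⟨i, rfl⟩
    rw [SetLike.mem_coe, LinearMap.mem_ker, Matrix.mulVecLin_apply]
    funext k
    fin_cases i <;> fin_cases k <;> simp [A, Matrix.mulVec, hθf, hκf, hx, hx']
  have h1 := Submodule.finrank_mono hle
  rw [finrank_span_eq_card hli2] at h1
  have h3 := LinearMap.finrank_range_add_finrank_ker A.mulVecLin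
  have hr : A.rank = 2 := hli.rank_matrix (M := A)
  rw [show Module.finrank F (LinearMap.range A.mulVecLin) = 2 from hr, Module.finrank_pi] at h3
  simp at h1 h3
  omega

variable [Fintype F] (hirr : Irred P) (h2 : (2 : F) ≠ 0)

theorem indep3 {e f g : Vec} (he : e ≠ 0) (hf : f ∉ Submodule.span F ({e} : Set Vec))
    (hg : g ∉ Submodule.span F ({e, f} : Set Vec)) : LinearIndependent F ![g, f, e] := by
  rw [Fintype.linearIndependent_iff]
  intro c hc
  simp only [Fin.sum_univ_three, Matrix.cons_val_zero, Matrix.cons_val_one, Matrix.cons_val] at hc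
  have h0 : c 0 = 0 := by
    by_contra h
    apply hg
    have : c 0 • g ∈ Submodule.span F ({e, f} : Set Vec) := by
      rw [show c 0 • g = -(c 1 • f + c 2 • e) by rw [eq_neg_iff_add_eq_zero, ← hc]; abel]
      exact Submodule.neg_mem _ (Submodule.add_mem _
        (Submodule.smul_mem _ _ (Submodule.subset_span (Set.mem_insert_of_mem _ (Set.mem_singleton f))))
        (Submodule.smul_mem _ _ (Submodule.subset_span (Set.mem_insert e _))))
    simpa [smul_smul, h] using Submodule.smul_mem _ (c 0)⁻¹ this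
  rw [h0, zero_smul, zero_add] at hc
  have h1 : c 1 = 0 := by
    by_contra h
    apply hf
    have : c 1 • f ∈ Submodule.span F ({e} : Set Vec) := by
      rw [eq_neg_of_add_eq_zero_left hc]
      exact Submodule.neg_mem _ (Submodule.smul_mem _ _ (Submodule.mem_span_singleton_self e))
    simpa [smul_smul, h] using Submodule.smul_mem _ (c 1)⁻¹ this
  rw [h1, zero_smul, zero_add] at hc
  intro i
  fin_cases i
  · exact h0
  · exact h1
  · exact (smul_eq_zero.1 hc).resolve_right he

include hirr h2 in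
theorem linear_case (hA : TwoAxes P) :
    ∃ g : GL (Fin 3) F, StdRoots (P.map (MulAut.conj g⁻¹).toMonoidHom) (rootField P) := by
  classical
  obtain ⟨e, y, φ₁, φ₂, he, he1, he2, hy1, hy2, hψ0⟩ := hA
  have hφ₁ : φ₁ ≠ 0 := fun h => hy1 (by rw [h, zero_dotProduct])
  have hT : HasTv P := ⟨e, φ₁, he, hφ₁, he1⟩
  have hindep : ∀ a b : F, a • φ₁ + b • φ₂ = 0 → a = 0 ∧ b = 0 := by
    intro a b h
    have ha : a = 0 := by simpa [hy2, hy1, add_dotProduct] using congrArg (fun z => z ⬝ᵥ y) h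
    refine ⟨ha, ?_⟩
    rw [ha, zero_smul, zero_add] at h
    exact (smul_eq_zero.1 h).resolve_right hψ0
  -- both axes contain only the multiples of `e`
  have hboth : ∀ x, φ₁ ⬝ᵥ x = 0 → φ₂ ⬝ᵥ x = 0 → x ∈ Submodule.span F ({e} : Set Vec) := by
    intro x hx1 hx2
    by_contra hxe
    let K := LinearMap.ker ((dotProductEquiv F (Fin 3) φ₁).prod (dotProductEquiv F (Fin 3) φ₂))
    have hK : ∀ z, z ∈ K ↔ φ₁ ⬝ᵥ z = 0 ∧ φ₂ ⬝ᵥ z = 0 := fun z => by simp [K]
    have hli : LinearIndependent F ![φ₁, φ₂] := by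
      rw [Fintype.linearIndependent_iff]
      intro c hc
      simp only [Fin.sum_univ_two, Matrix.cons_val_zero, Matrix.cons_val_one] at hc
      intro i
      fin_cases i
      · exact (hindep _ _ hc).1
      · exact (hindep _ _ hc).2
    have hli2 : LinearIndependent F ![e, x] := (LinearIndependent.pair_iff' he).2 fun a ha =>
      hxe (Submodule.mem_span_singleton.2 ⟨a, ha⟩)
    let A : Matrix (Fin 2) (Fin 3) F := Matrix.of ![φ₁, φ₂]
    have hrk : Module.finrank F (LinearMap.range A.mulVecLin) = 2 := by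
      have hr : A.rank = 2 := hli.rank_matrix (M := A)
      exact hr
    have hle : Submodule.span F (Set.range ![e, x]) ≤ LinearMap.ker A.mulVecLin := by
      rw [Submodule.span_le]
      rintro _ ⟨i, rfl⟩
      rw [SetLike.mem_coe, LinearMap.mem_ker, Matrix.mulVecLin_apply]
      funext k
      fin_cases i <;> fin_cases k <;> simp [A, Matrix.mulVec, he1.1, he2.1, hx1, hx2]
    have h1 := Submodule.finrank_mono hle
    rw [finrank_span_eq_card hli2] at h1
    have h3 := LinearMap.finrank_range_add_finrank_ker A.mulVecLin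
    rw [hrk, Module.finrank_pi] at h3
    simp at h1 h3
    omega
  obtain ⟨f, θ, hf0, hθ0, hf, hθe⟩ := exists_axis_ne hirr hT he
  have hfe : f ∉ Submodule.span F ({e} : Set Vec) := fun h => by
    obtain ⟨a, ha⟩ := Submodule.mem_span_singleton.1 h
    have := hf.1
    rw [← ha, dotProduct_smul, smul_eq_mul] at this
    exact hf0 (by rw [← ha, (mul_eq_zero.1 this).resolve_right hθe, zero_smul])
  obtain ⟨f', θ', hf', hθ'e, hf'L⟩ : ∃ f' θ' : Vec, Tv P f' θ' ∧ θ' ⬝ᵥ e ≠ 0 ∧
      f' ∉ Submodule.span F ({e, f} : Set Vec) := by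
    by_contra hcon
    push Not at hcon
    have hLne : Submodule.span F ({e, f} : Set Vec) ≠ ⊤ := fun h => by
      have h4 := (finrank_span_finset_le_card (R := F) ({e, f} : Finset Vec)).trans Finset.card_le_two
      rw [Finset.coe_insert, Finset.coe_singleton, Set.finrank, h, finrank_top, Module.finrank_pi] at h4
      simp at h4
    have heL : e ∈ Submodule.span F ({e, f} : Set Vec) := Submodule.subset_span (Set.mem_insert _ _)
    have hfL : f ∈ Submodule.span F ({e, f} : Set Vec) :=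
      Submodule.subset_span (Set.mem_insert_of_mem _ (Set.mem_singleton f))
    -- a transvection off the plane kills the plane
    have hoff : ∀ u χ, Tv P u χ → u ∉ Submodule.span F ({e, f} : Set Vec) →
        χ ⬝ᵥ e = 0 ∧ χ ⬝ᵥ f = 0 := by
      intro u χ hu huL
      have hχe : χ ⬝ᵥ e = 0 := by_contra fun h => huL (hcon u χ hu h)
      refine ⟨hχe, by_contra fun hχf => huL ?_⟩
      have := hcon _ _ (hf.conjTv hu) (by
        rw [sub_dotProduct, smul_dotProduct, hχe, smul_zero, sub_zero]; exact hθe)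
      simpa [smul_smul, hχf] using Submodule.smul_mem _ (χ ⬝ᵥ f)⁻¹
        (Submodule.sub_mem _ this hfL)
    obtain ⟨u, κ, -, hκ0, hu, huL⟩ := exists_centre_notMem hirr hT hLne
    obtain ⟨hκe, hκf⟩ := hoff u κ hu huL
    -- `e` and `f` each have two axes, the second of which is the plane
    have heκ : ∃ φ, Tv P e φ ∧ φ ⬝ᵥ u ≠ 0 := by
      by_contra h
      push Not at h
      exact huL (Submodule.span_mono (Set.singleton_subset_iff.2 (Set.mem_insert e _))
        (hboth u (h φ₁ he1) (h φ₂ he2)))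
    obtain ⟨φu, hφu, hφu0⟩ := heκ
    have hek : Tv P e ((φu ⬝ᵥ u) • κ) := hφu.commutator_axis hu hκe
    have hfk : Tv P f ((θ ⬝ᵥ e) • ((φu ⬝ᵥ u) • κ)) :=
      hek.commutator_centre hf (by rw [smul_dotProduct, hκf, smul_zero])
    have hinv : Invariant P (Submodule.span F ({e, f} : Set Vec)) := by
      intro g hg
      have htr : ∀ z χ, Tv P z χ → χ ≠ 0 →
          ((g⁻¹ : GL (Fin 3) F) : Matrix (Fin 3) (Fin 3) F) *ᵥ z ∈ Submodule.span F ({e, f} : Set Vec) ∨
          (χ ⬝ᵥ ((g : Matrix (Fin 3) (Fin 3) F) *ᵥ e) = 0 ∧ χ ⬝ᵥ ((g : Matrix (Fin 3) (Fin 3) F) *ᵥ f) = 0) := by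
        intro z χ hz _
        by_cases hzL : ((g⁻¹ : GL (Fin 3) F) : Matrix (Fin 3) (Fin 3) F) *ᵥ z ∈
            Submodule.span F ({e, f} : Set Vec)
        · exact Or.inl hzL
        refine Or.inr ?_
        have := hoff _ _ (hz.conj (P.inv_mem hg)) hzL
        rw [inv_inv, ← dotProduct_mulVec, ← dotProduct_mulVec] at this
        exact this
      have hge : ∀ z, (g : Matrix (Fin 3) (Fin 3) F) *ᵥ e ∈ Submodule.span F {z} →
          (g : Matrix (Fin 3) (Fin 3) F) *ᵥ f ∈ Submodule.span F {z} → False := by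
        intro z h1 h1'
        obtain ⟨a, ha⟩ := Submodule.mem_span_singleton.1 h1
        obtain ⟨b, hb⟩ := Submodule.mem_span_singleton.1 h1'
        have ha0 : a ≠ 0 := by
          rintro rfl
          rw [zero_smul] at ha
          exact he (gl_mulVec_injective g (ha.symm.trans (mulVec_zero _).symm))
        refine hfe (Submodule.mem_span_singleton.2 ⟨b * a⁻¹, gl_mulVec_injective g ?_⟩)
        show (g : Matrix (Fin 3) (Fin 3) F) *ᵥ ((b * a⁻¹) • e) = (g : Matrix (Fin 3) (Fin 3) F) *ᵥ f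
        rw [mulVec_smul, ← ha, ← hb, smul_smul, mul_assoc, inv_mul_cancel₀ ha0, mul_one]
      have hback : ∀ z, z = e ∨ z = f → ((g⁻¹ : GL (Fin 3) F) : Matrix (Fin 3) (Fin 3) F) *ᵥ z ∈
          Submodule.span F ({e, f} : Set Vec) := by
        intro z hz
        by_contra hzn
        rcases hz with rfl | rfl
        · obtain ⟨a1, b1⟩ := (htr _ φ₁ he1 hφ₁).resolve_left hzn
          obtain ⟨a2, b2⟩ := (htr _ φ₂ he2 hψ0).resolve_left hzn
          exact hge _ (hboth _ a1 a2) (hboth _ b1 b2)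
        · obtain ⟨a1, b1⟩ := (htr _ θ hf hθ0).resolve_left hzn
          obtain ⟨a2, b2⟩ := (htr _ _ hfk (smul_ne_zero hθe (smul_ne_zero hφu0 hκ0))).resolve_left hzn
          simp only [smul_dotProduct, smul_eq_mul, mul_eq_zero, hθe, hφu0, false_or] at a2 b2
          refine hge z ?_ ?_ <;> refine Submodule.mem_span_singleton.2 ?_
          all_goals
            first
              | exact ker_two hf.1 hκf hθe hκe hκ0 a1 a2 hf0
              | exact ker_two hf.1 hκf hθe hκe hκ0 b1 b2 hf0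
      have hmap : ∀ z ∈ Submodule.span F ({e, f} : Set Vec),
          ((g⁻¹ : GL (Fin 3) F) : Matrix (Fin 3) (Fin 3) F) *ᵥ z ∈ Submodule.span F ({e, f} : Set Vec) := by
        intro z hz
        obtain ⟨a, b, rfl⟩ := Submodule.mem_span_pair.1 hz
        rw [mulVec_add, mulVec_smul, mulVec_smul]
        exact Submodule.add_mem _ (Submodule.smul_mem _ _ (hback e (Or.inl rfl)))
          (Submodule.smul_mem _ _ (hback f (Or.inr rfl)))
      have hst : g⁻¹ ∈ Cfsg.Geo.subspaceStabilizer (Submodule.span F ({e, f} : Set Vec)) :=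
        mem_subspaceStabilizer_iff.2 hmap
      have := mem_subspaceStabilizer_iff.1 (inv_mem hst)
      rwa [inv_inv] at this
    rcases hirr _ hinv with h | h
    · rw [h] at heL; exact he (by simpa using heL)
    · exact hLne h
  -- the frame
  obtain ⟨t, ht⟩ : ∃ t, t = θ ⬝ᵥ e := ⟨_, rfl⟩
  obtain ⟨t', ht'⟩ : ∃ t', t' = θ' ⬝ᵥ e := ⟨_, rfl⟩
  have ht0 : t ≠ 0 := ht ▸ hθe
  have ht'0 : t' ≠ 0 := ht' ▸ hθ'e
  let cols : Fin 3 → Vec := ![e, t • f, t' • f']
  have hli : LinearIndependent F cols := by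
    have h3 := indep3 he hfe hf'L
    rw [Fintype.linearIndependent_iff] at h3 ⊢
    intro c hc
    have := h3 ![c 2 * t', c 1 * t, c 0] (by
      rw [Fin.sum_univ_three] at hc ⊢
      simp [cols, smul_smul] at hc ⊢
      rw [← hc]; abel)
    intro i
    fin_cases i
    · simpa using this 2
    · simpa [ht0] using this 1
    · simpa [ht'0] using this 0
  let G : Matrix (Fin 3) (Fin 3) F := Matrix.of fun i j => cols j i
  have hG : IsUnit G := by
    rw [← Matrix.linearIndependent_cols_iff_isUnit]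
    exact hli
  obtain ⟨g, hg⟩ : ∃ g : GL (Fin 3) F, (g : Matrix (Fin 3) (Fin 3) F) = G := ⟨hG.unit, hG.unit_spec⟩
  refine ⟨g, ?_⟩
  set E := rootField P with hE
  have hcol : ∀ j, (g : Matrix (Fin 3) (Fin 3) F) *ᵥ Pi.single j 1 = cols j := fun j => by
    rw [hg, mulVec_single_one]; rfl
  -- coordinates of a functional
  have hfun : ∀ φ : Vec, φ ᵥ* (g : Matrix (Fin 3) (Fin 3) F) = fun j => φ ⬝ᵥ cols j := fun φ => by
    funext j; rw [← hcol j, dotProduct_mulVec, dotProduct_single_one]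
  have hpull : ∀ (i : Fin 3) (φ : Vec), Tv P (cols i) φ →
      Tv (P.map (MulAut.conj g⁻¹).toMonoidHom) (Pi.single i 1) (fun j => φ ⬝ᵥ cols j) := by
    intro i φ h
    rw [tv_conjugate_iff, hcol, ← hfun, vecMul_vecMul, ← Units.val_mul, mul_inv_cancel, Units.val_one,
      vecMul_one]
    exact h
  obtain ⟨Q, hQ⟩ : ∃ Q, Q = P.map (MulAut.conj g⁻¹).toMonoidHom := ⟨_, rfl⟩
  rw [← hQ] at hpull ⊢
  have hpar : ∀ u χ u' χ', Tv Q u χ → Tv Q u' χ' → (χ ⬝ᵥ u') * (χ' ⬝ᵥ u) ∈ E := by
    intro u χ u' χ' h h'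
    rw [hQ, tv_conjugate_iff] at h h'
    have := param_mem hirr h2 h h'
    rwa [vecMul_dot, vecMul_dot] at this
  have hsm : ∀ c ∈ E, ∀ u χ, Tv Q u χ → Tv Q u (c • χ) := by
    intro c hc u χ h
    rw [hQ, tv_conjugate_iff] at h ⊢
    rw [smul_vecMul]
    exact smul_mem_root hc h
  have hrow : ∀ φ, Tv P e φ → Tv Q (Pi.single 0 1) (fun j => φ ⬝ᵥ cols j) ∧
      φ ⬝ᵥ cols 0 = 0 ∧ φ ⬝ᵥ cols 1 ∈ E ∧ φ ⬝ᵥ cols 2 ∈ E := fun φ h => by
    refine ⟨hpull 0 φ h, h.1, ?_, ?_⟩
    · have := param_mem hirr h2 h hf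
      simpa [cols, ← ht, mul_comm] using this
    · have := param_mem hirr h2 h hf'
      simpa [cols, ← ht', mul_comm] using this
  obtain ⟨hr1, z1, a1, b1⟩ := hrow φ₁ he1
  obtain ⟨hr2, z2, a2, b2⟩ := hrow φ₂ he2
  have hdet : (φ₁ ⬝ᵥ cols 1) * (φ₂ ⬝ᵥ cols 2) - (φ₂ ⬝ᵥ cols 1) * (φ₁ ⬝ᵥ cols 2) ≠ 0 := by
    intro hd
    have hz : ∀ a b : F, a * (φ₁ ⬝ᵥ cols 1) + b * (φ₂ ⬝ᵥ cols 1) = 0 →
        a * (φ₁ ⬝ᵥ cols 2) + b * (φ₂ ⬝ᵥ cols 2) = 0 → a = 0 ∧ b = 0 := fun a b e1 e2 => by
      refine hindep a b ?_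
      have : (a • φ₁ + b • φ₂) ᵥ* (g : Matrix (Fin 3) (Fin 3) F) = 0 := by
        rw [hfun]
        funext j
        fin_cases j
        · simp [add_dotProduct, z1, z2]
        · simpa [add_dotProduct] using e1
        · simpa [add_dotProduct] using e2
      simpa [vecMul_vecMul, ← Units.val_mul] using
        congrArg (· ᵥ* ((g⁻¹ : GL (Fin 3) F) : Matrix (Fin 3) (Fin 3) F)) this
    have h3 := hz (φ₂ ⬝ᵥ cols 1) (-(φ₁ ⬝ᵥ cols 1)) (by ring) (by linear_combination -hd)
    have h4 := hz (φ₂ ⬝ᵥ cols 2) (-(φ₁ ⬝ᵥ cols 2)) (by linear_combination hd) (by ring)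
    exact one_ne_zero (hz 1 0 (by linear_combination -h3.2) (by linear_combination -h4.2)).1
  have hX1 : ∀ a ∈ E, ∀ b ∈ E, Tv Q (Pi.single 0 1) ![0, a, b] := by
    intro a ha b hb
    obtain ⟨D, hD⟩ : ∃ D, D = (φ₁ ⬝ᵥ cols 1) * (φ₂ ⬝ᵥ cols 2) - (φ₂ ⬝ᵥ cols 1) * (φ₁ ⬝ᵥ cols 2) :=
      ⟨_, rfl⟩
    have hDE : D ∈ E := hD ▸ sub_mem (mul_mem a1 b2) (mul_mem a2 b1)
    have := (hsm ((a * (φ₂ ⬝ᵥ cols 2) - b * (φ₂ ⬝ᵥ cols 1)) / D)
      (div_mem (sub_mem (mul_mem ha b2) (mul_mem hb a2)) hDE) _ _ hr1).add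
      (hsm ((b * (φ₁ ⬝ᵥ cols 1) - a * (φ₁ ⬝ᵥ cols 2)) / D)
      (div_mem (sub_mem (mul_mem hb a1) (mul_mem ha b1)) hDE) _ _ hr2)
    convert this using 1
    have hD0 : D ≠ 0 := hD ▸ hdet
    funext j
    fin_cases j
    · simp [z1, z2]
    · simp
      field_simp
      linear_combination a * hD
    · simp
      field_simp
      linear_combination b * hD
  have hrow1 : ∃ z, Tv Q (Pi.single 1 1) ![1, 0, z] := by
    refine ⟨(θ ⬝ᵥ cols 2) / t, ?_⟩
    have h := hpull 1 (t⁻¹ • θ) (by
      show Tv P (t • f) _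
      rw [tv_smul_left_iff ht0, smul_smul, mul_inv_cancel₀ ht0, one_smul]; exact hf)
    convert h using 1
    funext j
    fin_cases j
    · simp [cols, ← ht, ht0]
    · simp [cols, hf.1]
    · simp [cols, div_eq_inv_mul]; ring
  have hrow2 : ∃ y, Tv Q (Pi.single 2 1) ![1, y, 0] := by
    refine ⟨(θ' ⬝ᵥ cols 1) / t', ?_⟩
    have h := hpull 2 (t'⁻¹ • θ') (by
      show Tv P (t' • f') _
      rw [tv_smul_left_iff ht'0, smul_smul, mul_inv_cancel₀ ht'0, one_smul]; exact hf')
    convert h using 1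
    funext j
    fin_cases j
    · simp [cols, ← ht', ht'0]
    · simp [cols, div_eq_inv_mul]; ring
    · simp [cols, hf'.1]
  obtain ⟨z, hz⟩ := hrow1
  obtain ⟨y', hy'⟩ := hrow2
  have hX23 : ∀ k ∈ E, Tv Q (Pi.single 1 1) ![0, 0, k] := by
    intro k hk
    have h := hz.sub (hz.conjTv (hX1 0 (zero_mem _) k hk) |> fun h => by
      simpa [dotProduct, Fin.sum_univ_three, Pi.single_apply] using h)
    convert h using 1
    funext j
    fin_cases j <;> simp
  have hX32 : ∀ k ∈ E, Tv Q (Pi.single 2 1) ![0, k, 0] := by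
    intro k hk
    have h := hy'.sub (hy'.conjTv (hX1 k hk 0 (zero_mem _)) |> fun h => by
      simpa [dotProduct, Fin.sum_univ_three, Pi.single_apply] using h)
    convert h using 1
    funext j
    fin_cases j <;> simp
  have hzE : z ∈ E := by
    have := hpar _ _ _ _ hz (hX32 1 (one_mem _))
    simpa [dotProduct, Fin.sum_univ_three, Pi.single_apply] using this
  have hyE : y' ∈ E := by
    have := hpar _ _ _ _ hy' (hX23 1 (one_mem _))
    simpa [dotProduct, Fin.sum_univ_three, Pi.single_apply] using this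
  have h21 : Tv Q (Pi.single 1 1) ![1, 0, 0] := by
    convert hz.sub (hX23 z hzE) using 1
    funext j; fin_cases j <;> simp
  have h31 : Tv Q (Pi.single 2 1) ![1, 0, 0] := by
    convert hy'.sub (hX32 y' hyE) using 1
    funext j; fin_cases j <;> simp
  have hroots : ∀ i j : Fin 3, i ≠ j → ∀ c ∈ E, Tv Q (Pi.single i 1) (Pi.single j c) := by
    intro i j hij c hc
    have v0 : (Pi.single 0 c : Vec) = c • ![1, 0, 0] := by funext k; fin_cases k <;> simp
    have v1 : (Pi.single 1 c : Vec) = ![0, c, 0] := by funext k; fin_cases k <;> simp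
    have v2 : (Pi.single 2 c : Vec) = ![0, 0, c] := by funext k; fin_cases k <;> simp
    fin_cases i <;> fin_cases j
    · exact absurd rfl hij
    · show Tv Q (Pi.single 0 1) (Pi.single 1 c)
      rw [v1]; exact hX1 c hc 0 (zero_mem _)
    · show Tv Q (Pi.single 0 1) (Pi.single 2 c)
      rw [v2]; exact hX1 0 (zero_mem _) c hc
    · show Tv Q (Pi.single 1 1) (Pi.single 0 c)
      rw [v0]; exact hsm c hc _ _ h21
    · exact absurd rfl hij
    · show Tv Q (Pi.single 1 1) (Pi.single 2 c)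
      rw [v2]; exact hX23 c hc
    · show Tv Q (Pi.single 2 1) (Pi.single 0 c)
      rw [v0]; exact hsm c hc _ _ h31
    · show Tv Q (Pi.single 2 1) (Pi.single 1 c)
      rw [v1]; exact hX32 c hc
    · exact absurd rfl hij
  refine ⟨hroots, fun u χ hu => ?_⟩
  have hoffd : ∀ i j, i ≠ j → u i * χ j ∈ E := fun i j hij => by
    have := hpar _ _ _ _ hu (hroots j i hij.symm 1 (one_mem _))
    simpa [mul_comm] using this
  have hdiff : ∀ i j, i ≠ j → u i * χ i - u j * χ j ∈ E := fun i j hij => by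
    have h := hpar _ _ _ _ hu
      ((hroots i j hij 1 (one_mem _)).conjTv (hroots j i hij.symm 1 (one_mem _)))
    have h' := add_mem h (sub_mem (hoffd i j hij) (hoffd j i hij.symm))
    convert neg_mem h' using 1
    simp [dotProduct_add, sub_dotProduct, hij, hij.symm]
    ring
  have hthird : ∀ i j : Fin 3, i ≠ j → ∃ k, k ≠ i ∧ k ≠ j := by decide
  intro i j
  rcases ne_or_eq i j with hij | rfl
  · exact hoffd i j hij
  by_cases hzero : ∃ k, u k * χ k = 0
  · obtain ⟨k, hk⟩ := hzero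
    rcases ne_or_eq i k with hik | rfl
    · have := hdiff i k hik; rwa [hk, sub_zero] at this
    · rw [hk]; exact zero_mem _
  push Not at hzero
  obtain ⟨j, hji⟩ := exists_ne i
  obtain ⟨k, hki, hkj⟩ := hthird i j hji.symm
  have hu' := fun l => left_ne_zero_of_mul (hzero l)
  have hχ' := fun l => right_ne_zero_of_mul (hzero l)
  have := div_mem (mul_mem (hoffd i j hji.symm) (hoffd k i hki)) (hoffd k j hkj)
  convert this using 1
  have := hu' k
  have := hχ' j
  field_simp

end Cfsg.Agent.Lib.TransvThree
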