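import Cfsg.Agent.Lib.TransvThree.Unitary

/-!
Mitchell's transvection theorem in dimension three, odd characteristic: in an irreducible subgroup
`P` of `GL 3` containing a transvection, the transvections generate a conjugate of `SL 3` over a
subfield `E` or of `SU 3` over its quadratic extension; this subgroup is normalised by `P`.
-/

set_option autoImplicit false
set_option linter.unusedSectionVars false

namespace Cfsg.Agent.Lib.TransvThree

open Matrix
open Cfsg.Agent.Lib.Subspaces.Transvection Cfsg.Agent.Lib.PrimeDim.Basic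

variable {F : Type*} [Field F] [Fintype F] {P : Subgroup (GL (Fin 3) F)}

theorem transvection_group (hirr : Irred P) (h2 : (2 : F) ≠ 0) (hT : HasTv P) :
    ∃ g : GL (Fin 3) F,
      (tvGroup P).map (MulAut.conj g⁻¹).toMonoidHom = subSL (rootField P) ∨
      ∃ (K : Subfield F) (q : ℕ), Nat.card K = q ^ 2 ∧ q = Nat.card (rootField P) ∧ rootField P ≤ K ∧
        (tvGroup P).map (MulAut.conj g⁻¹).toMonoidHom = subSU K q := by
  by_cases hA : TwoAxes P
  · obtain ⟨g, hg⟩ := linear_case hirr h2 hA
    exact ⟨g, Or.inl (by rw [← tvGroup_conjugate]; exact tvGroup_eq_subSL _ hg)⟩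
  · obtain ⟨g, K, q, h1, h3, h4, hg⟩ := unitary_case hirr h2 hT hA
    exact ⟨g, Or.inr ⟨K, q, h1, h3, h4, by rw [← tvGroup_conjugate]; exact hg⟩⟩

/-- The transvection subgroup is a subgroup of `P` normalised by `P`. -/
theorem transvection_group_le : tvGroup P ≤ P ∧ NormalizedBy P (tvGroup P) :=
  ⟨tvGroup_le P, tvGroup_normalized P⟩

end Cfsg.Agent.Lib.TransvThree
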