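import Cfsg.Agent.Lib.TransvThree.Anomaly

/-!
All root groups of an irreducible transvection group share one field of multipliers, which contains
every product parameter.
-/

set_option autoImplicit false
set_option linter.unusedSectionVars false

namespace Cfsg.Agent.Lib.TransvThree

open Matrix
open Cfsg.Agent.Lib.Subspaces.Transvection Cfsg.Agent.Lib.PrimeDim.Basic

variable {F : Type*} [Field F]

local notation "Vec" => Fin 3 → F

variable {P : Subgroup (GL (Fin 3) F)} {v w φ ψ : Fin 3 → F}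

theorem Tv.nsmul (h : Tv P v φ) (n : ℕ) : Tv P v (n • φ) := by
  induction n with
  | zero => rw [zero_smul]; exact tv_zero_mem v
  | succ k ih => rw [succ_nsmul]; exact ih.add h

theorem Tv.natCast (h : Tv P v φ) (n : ℕ) : Tv P v ((n : F) • φ) := by
  rw [Nat.cast_smul_eq_nsmul]; exact h.nsmul n

variable [Fintype F]

theorem Tv.half (h2 : (2 : F) ≠ 0) {c : F} (h : Tv P v ((2 * c) • φ)) : Tv P v (c • φ) := by
  obtain ⟨p, hp, m, hprime, -⟩ := FiniteField.card' F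
  have hp2 : p ≠ 2 := by
    rintro rfl
    exact h2 (by simpa using CharP.cast_eq_zero F 2)
  obtain ⟨k, hk⟩ := hprime.odd_of_ne_two hp2
  have hp0 : ((p : ℕ) : F) = 0 := CharP.cast_eq_zero F p
  have := h.natCast (k + 1)
  rw [smul_smul] at this
  convert this using 2
  rw [hk] at hp0
  push_cast at hp0 ⊢
  linear_combination (-c) * hp0

/-- The multipliers of the root groups at `x`. -/
def multiplier (P : Subgroup (GL (Fin 3) F)) (x : Fin 3 → F) : Set F :=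
  {c | ∀ χ : Fin 3 → F, Tv P x χ → Tv P x (c • χ)}

theorem multiplier_smul {a : F} (ha : a ≠ 0) (x : Vec) : multiplier P (a • x) = multiplier P x := by
  ext c
  constructor
  · intro h χ hχ
    have h1 := h (a⁻¹ • χ) ((tv_smul_left_iff ha).2 (by rwa [smul_smul, mul_inv_cancel₀ ha, one_smul]))
    rw [tv_smul_left_iff ha, smul_smul, smul_smul] at h1
    rwa [show a * c * a⁻¹ = c by field_simp] at h1
  · intro h χ hχ
    rw [tv_smul_left_iff ha] at hχ ⊢
    have := h _ hχ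
    rwa [smul_smul, mul_comm, ← smul_smul] at this

theorem multiplier_conj {g : GL (Fin 3) F} (hg : g ∈ P) (x : Vec) :
    multiplier P ((g : Matrix (Fin 3) (Fin 3) F) *ᵥ x) = multiplier P x := by
  have key : ∀ {g : GL (Fin 3) F}, g ∈ P → ∀ x : Vec,
      multiplier P ((g : Matrix (Fin 3) (Fin 3) F) *ᵥ x) ⊆ multiplier P x := by
    intro g hg x c hc χ hχ
    have h1 := (hc _ (hχ.conj hg)).conj (P.inv_mem hg)
    rw [gl_inv_mulVec, inv_inv, smul_vecMul, vecMul_vecMul, ← Units.val_mul, inv_mul_cancel,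
      Units.val_one, vecMul_one] at h1
    exact h1
  refine le_antisymm (key hg x) ?_
  have := key (P.inv_mem hg) ((g : Matrix (Fin 3) (Fin 3) F) *ᵥ x)
  rwa [gl_inv_mulVec] at this

variable (hirr : Irred P) (h2 : (2 : F) ≠ 0)

include hirr h2 in
/-- The product parameter of a linked pair multiplies the root groups at both ends. -/
theorem param_mem_multiplier (hv : Tv P v φ) (hw : Tv P w ψ) (hl : Linked v φ w ψ) :
    (φ ⬝ᵥ w) * (ψ ⬝ᵥ v) ∈ multiplier P v := by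
  intro χ hχ
  obtain ⟨β, hβ⟩ : ∃ β, β = ψ ⬝ᵥ v := ⟨_, rfl⟩
  rw [← hβ]
  have hβ0 : β ≠ 0 := hβ ▸ hl.2
  let f : Vec → F := fun x => (x ⬝ᵥ w) * β
  have hscal : ∀ x, Tv P v x → f x ≠ 0 → ∀ c ∈ Subfield.closure ({f x} : Set F), Tv P v (c • x) :=
    fun x hx hfx c hc => by
      have hl' : Linked v x w ψ := ⟨left_ne_zero_of_mul hfx, hl.2⟩
      have := (pair_all hirr h2 hx hw hl').1 c
      rw [← hβ] at this
      exact this hc
  have hself : ∀ x, Tv P v x → Tv P v (f x • x) ∧ Tv P v ((f x) ^ 2 • x) := fun x hx => by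
    rcases eq_or_ne (f x) 0 with h | h
    · rw [h, zero_pow two_ne_zero, zero_smul]; exact ⟨tv_zero_mem v, tv_zero_mem v⟩
    · exact ⟨hscal x hx h (f x) (Subfield.subset_closure (Set.mem_singleton (f x))),
        hscal x hx h ((f x) ^ 2) (pow_mem (Subfield.subset_closure (Set.mem_singleton (f x))) 2)⟩
  have hA : ∀ x y, Tv P v x → Tv P v y → Tv P v (f y • x + f x • y) := fun x y hx hy => by
    have h := (((hself _ (hx.add hy)).1).sub (hself x hx).1).sub (hself y hy).1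
    convert h using 1
    simp only [f, add_dotProduct]
    module
  have hab : ∀ x y, Tv P v x → Tv P v y → Tv P v ((f x * f y) • x) := fun x y hx hy => by
    have hxy := hA x y hx hy
    have h1 := hA x _ hx hxy
    have h3 := (((hself _ (hx.add hy)).2).sub (hself _ (hx.sub hy)).2).sub ((hself y hy).2.add (hself y hy).2)
    refine Tv.half h2 ?_
    have h4 := (h1.add h1).sub h3
    convert h4 using 1
    simp only [f, add_dotProduct, sub_dotProduct, smul_dotProduct, smul_eq_mul]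
    module
  have hcross : ∀ x y, Tv P v x → Tv P v y → f x ≠ 0 → Tv P v (f y • x) := fun x y hx hy hfx => by
    set L := Subfield.closure ({f x} : Set F) with hL
    have ha : f x ∈ L := Subfield.subset_closure rfl
    have hsq : ∀ c ∈ L, Tv P v ((c ^ 2 * (f x * f y)) • x) := fun c hc => by
      rcases eq_or_ne c 0 with rfl | hc0
      · rw [zero_pow two_ne_zero, zero_mul, zero_smul]; exact tv_zero_mem v
      have hcx : Tv P v (c • x) := hscal x hx hfx c hc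
      have := hab _ y hcx hy
      rw [smul_smul] at this
      convert this using 2
      simp only [f, smul_dotProduct, smul_eq_mul]
      ring
    have hinv : (f x)⁻¹ ∈ L := inv_mem ha
    have h3 := ((hsq _ (add_mem hinv (one_mem _))).sub (hsq _ hinv)).sub (hsq 1 (one_mem _))
    refine Tv.half h2 ?_
    convert h3 using 1
    rw [← sub_smul, ← sub_smul]
    congr 1
    field_simp
    ring
  have hfφ : f φ ≠ 0 := mul_ne_zero hl.1 hβ0
  have h := (hA φ χ hv hχ).sub (hcross φ χ hv hχ hfφ)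
  rwa [add_sub_cancel_left] at h

include hirr h2 in
theorem multiplier_linked (hv : Tv P v φ) (hw : Tv P w ψ) (hl : Linked v φ w ψ) :
    multiplier P w = multiplier P v := by
  obtain ⟨-, g, hg, k, hk, hgv⟩ := pair_all hirr h2 hv hw hl
  rw [← multiplier_conj hg v, hgv, multiplier_smul hk]

/-- `(x, η)` has a component on the plane and on its dual. -/
def Meets (v φ w ψ x η : Fin 3 → F) : Prop :=
  ¬ (φ ⬝ᵥ x = 0 ∧ ψ ⬝ᵥ x = 0) ∧ ¬ (η ⬝ᵥ v = 0 ∧ η ⬝ᵥ w = 0)

include hirr h2 in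
theorem multiplier_meets (hv : Tv P v φ) (hw : Tv P w ψ) (hl : Linked v φ w ψ) {x η : Vec}
    (hx : Tv P x η) (hm : Meets v φ w ψ x η) : multiplier P x = multiplier P v := by
  have h1 := hl.1
  have h2' := hl.2
  by_cases c1 : φ ⬝ᵥ x ≠ 0 ∧ η ⬝ᵥ v ≠ 0
  · exact multiplier_linked hirr h2 hv hx c1
  by_cases c2 : ψ ⬝ᵥ x ≠ 0 ∧ η ⬝ᵥ w ≠ 0
  · rw [multiplier_linked hirr h2 hw hx c2, multiplier_linked hirr h2 hv hw hl]
  have hz := hv.conjTv hw
  have hz' : multiplier P (v + (ψ ⬝ᵥ v) • w) = multiplier P v := by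
    have := multiplier_conj hw.2 v
    rwa [tv_mulVec hw.1] at this
  rw [← hz']
  refine multiplier_linked hirr h2 hz hx ⟨?_, ?_⟩ <;>
    simp only [sub_dotProduct, smul_dotProduct, dotProduct_add, dotProduct_smul, smul_eq_mul] <;>
    obtain ⟨m1, m2⟩ := hm
  · by_cases a : ψ ⬝ᵥ x = 0
    · rw [a, mul_zero, sub_zero]; exact fun e => m1 ⟨e, a⟩
    · have ew : η ⬝ᵥ w = 0 := not_not.1 fun e => c2 ⟨a, e⟩
      have ev : η ⬝ᵥ v ≠ 0 := fun e => m2 ⟨e, ew⟩
      rw [not_not.1 fun e => c1 ⟨e, ev⟩, zero_sub, neg_ne_zero]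
      exact mul_ne_zero h1 a
  · by_cases a : η ⬝ᵥ v = 0
    · rw [a, zero_add]
      exact mul_ne_zero h2' fun e => m2 ⟨a, e⟩
    · have ex : φ ⬝ᵥ x = 0 := not_not.1 fun e => c1 ⟨e, a⟩
      have ey : ψ ⬝ᵥ x ≠ 0 := fun e => m1 ⟨ex, e⟩
      rw [not_not.1 fun e => c2 ⟨ey, e⟩, mul_zero, add_zero]
      exact a

theorem conjTv_ne_zero {f z σ : Fin 3 → F} (hf : f ≠ 0) (hz : σ ⬝ᵥ z = 0) :
    f + (σ ⬝ᵥ f) • z ≠ 0 := by
  intro h
  have h1 := congrArg (fun y => σ ⬝ᵥ y) h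
  simp only [dotProduct_add, dotProduct_smul, hz, smul_zero, add_zero, dotProduct_zero] at h1
  rw [h1, zero_smul, add_zero] at h
  exact hf h

theorem tv_conj_data {x η f θ : Fin 3 → F} (hx : Tv P x η) (hf : Tv P f θ) :
    Tv P (x + (θ ⬝ᵥ x) • f) (η - (η ⬝ᵥ f) • θ) ∧
      multiplier P (x + (θ ⬝ᵥ x) • f) = multiplier P x := by
  refine ⟨hx.conjTv hf, ?_⟩
  have := multiplier_conj hf.2 x
  rwa [tv_mulVec hf.1] at this

include hirr h2 in
theorem multiplier_eq (hv : Tv P v φ) (hw : Tv P w ψ) (hl : Linked v φ w ψ) {x η : Vec}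
    (hx : Tv P x η) (hx0 : x ≠ 0) (hη : η ≠ 0) : multiplier P x = multiplier P v := by
  have h1 := hl.1
  have h2' := hl.2
  have hT : HasTv P := ⟨x, η, hx0, hη, hx⟩
  have kerzero : ∀ {σ : Vec}, σ ⬝ᵥ v = 0 → σ ⬝ᵥ w = 0 →
      (∀ y, φ ⬝ᵥ y = 0 → ψ ⬝ᵥ y = 0 → σ ⬝ᵥ y = 0) → σ = 0 := by
    intro σ e1 e2 e3
    funext i
    obtain ⟨a, b, y0, hdec, a1, a2, -, -⟩ := exists_decomp hv.1 hw.1 hl (Pi.single i 1)
    simpa [e1, e2, e3 y0 a1 a2] using congrArg (fun z => σ ⬝ᵥ z) hdec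
  by_cases hxL : φ ⬝ᵥ x = 0 ∧ ψ ⬝ᵥ x = 0
  · -- the centre is the common fixed point
    obtain ⟨f, θ, hf0, hθ, hf, hθx⟩ := exists_axis_ne hirr hT hx0
    have hgood : ∃ f θ : Vec, f ≠ 0 ∧ Tv P f θ ∧ θ ⬝ᵥ x ≠ 0 ∧
        ¬ ((η ⬝ᵥ v = (η ⬝ᵥ f) * (θ ⬝ᵥ v)) ∧ (η ⬝ᵥ w = (η ⬝ᵥ f) * (θ ⬝ᵥ w))) := by
      by_cases hb : (η ⬝ᵥ v = (η ⬝ᵥ f) * (θ ⬝ᵥ v)) ∧ (η ⬝ᵥ w = (η ⬝ᵥ f) * (θ ⬝ᵥ w))
      swap; · exact ⟨f, θ, hf0, hf, hθx, hb⟩
      have hθL : θ ⬝ᵥ v ≠ 0 ∨ θ ⬝ᵥ w ≠ 0 := by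
        by_contra h
        push Not at h
        refine hη (kerzero (by rw [hb.1, h.1, mul_zero]) (by rw [hb.2, h.2, mul_zero]) ?_)
        intro y hy hy'
        obtain ⟨c, rfl⟩ := kernel_smul hv.1 hw.1 hl hxL.1 hxL.2 hy hy' hx0
        rw [dotProduct_smul, hx.1, smul_zero]
      rcases hθL with h | h
      · refine ⟨_, _, conjTv_ne_zero hf0 hv.1, hf.conjTv hv, ?_, ?_⟩
        · rw [sub_dotProduct, smul_dotProduct, hxL.1, smul_zero, sub_zero]; exact hθx
        · simp only [dotProduct_add, dotProduct_smul, sub_dotProduct, smul_dotProduct, hv.1,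
            smul_eq_mul, mul_zero, sub_zero]
          rintro ⟨e1, e2⟩
          obtain ⟨b1, b2⟩ := hb
          have he : η ⬝ᵥ f + (φ ⬝ᵥ f) * (η ⬝ᵥ v) = η ⬝ᵥ f := by
            apply mul_right_cancel₀ h; linear_combination b1 - e1
          rw [he] at e2
          have h0 : η ⬝ᵥ f = 0 :=
            (mul_eq_zero.1 (show (η ⬝ᵥ f) * ((θ ⬝ᵥ v) * (φ ⬝ᵥ w)) = 0 by
              linear_combination e2 - b2)).resolve_right (mul_ne_zero h h1)
          rw [h0, zero_mul] at b1 b2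
          refine hη (kerzero b1 b2 fun y hy hy' => ?_)
          obtain ⟨c, rfl⟩ := kernel_smul hv.1 hw.1 hl hxL.1 hxL.2 hy hy' hx0
          rw [dotProduct_smul, hx.1, smul_zero]
      · refine ⟨_, _, conjTv_ne_zero hf0 hw.1, hf.conjTv hw, ?_, ?_⟩
        · rw [sub_dotProduct, smul_dotProduct, hxL.2, smul_zero, sub_zero]; exact hθx
        · simp only [dotProduct_add, dotProduct_smul, sub_dotProduct, smul_dotProduct, hw.1,
            smul_eq_mul, mul_zero, sub_zero]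
          rintro ⟨e1, e2⟩
          obtain ⟨b1, b2⟩ := hb
          have he : η ⬝ᵥ f + (ψ ⬝ᵥ f) * (η ⬝ᵥ w) = η ⬝ᵥ f := by
            apply mul_right_cancel₀ h; linear_combination b2 - e2
          rw [he] at e1
          have h0 : η ⬝ᵥ f = 0 :=
            (mul_eq_zero.1 (show (η ⬝ᵥ f) * ((θ ⬝ᵥ w) * (ψ ⬝ᵥ v)) = 0 by
              linear_combination e1 - b1)).resolve_right (mul_ne_zero h h2')
          rw [h0, zero_mul] at b1 b2
          refine hη (kerzero b1 b2 fun y hy hy' => ?_)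
          obtain ⟨c, rfl⟩ := kernel_smul hv.1 hw.1 hl hxL.1 hxL.2 hy hy' hx0
          rw [dotProduct_smul, hx.1, smul_zero]
    obtain ⟨f, θ, hf0, hf, hθx, hb⟩ := hgood
    obtain ⟨hy, hym⟩ := tv_conj_data hx hf
    rw [← hym]
    refine multiplier_meets hirr h2 hv hw hl hy ⟨?_, ?_⟩
    · simp only [dotProduct_add, dotProduct_smul, hxL.1, hxL.2, zero_add, smul_eq_mul, mul_eq_zero,
        hθx, false_or]
      intro h
      obtain ⟨c, hc⟩ := kernel_smul hv.1 hw.1 hl hxL.1 hxL.2 h.1 h.2 hx0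
      have := hf.1
      rw [hc, dotProduct_smul, smul_eq_mul] at this
      rcases mul_eq_zero.1 this with e | e
      · exact hf0 (by rw [hc, e, zero_smul])
      · exact hθx e
    · simp only [sub_dotProduct, smul_dotProduct, smul_eq_mul, sub_eq_zero]
      exact hb
  by_cases hηL : η ⬝ᵥ v = 0 ∧ η ⬝ᵥ w = 0
  swap; · exact multiplier_meets hirr h2 hv hw hl hx ⟨hxL, hηL⟩
  -- the axis is the plane
  have hxv : ∀ y, φ ⬝ᵥ y = 0 → ψ ⬝ᵥ y = 0 → y ≠ 0 → η ⬝ᵥ y ≠ 0 := by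
    intro y hy hy' hy0 e
    refine hη (kerzero hηL.1 hηL.2 fun z hz hz' => ?_)
    obtain ⟨c, rfl⟩ := kernel_smul hv.1 hw.1 hl hy hy' hz hz' hy0
    rw [dotProduct_smul, e, smul_zero]
  let K : Submodule F Vec := LinearMap.ker (dotProductEquiv F (Fin 3) η)
  have hK : K ≠ ⊤ := fun h => by
    apply hη
    funext i
    have : Pi.single i 1 ∈ K := by rw [h]; trivial
    simpa [K] using this
  obtain ⟨f, θ, -, hθ, hf, hfK⟩ := exists_centre_notMem hirr hT hK
  have hηf : η ⬝ᵥ f ≠ 0 := fun h => hfK (by simpa [K] using h)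
  -- the axis of `f` is not the plane
  have hθL : ∀ {f θ : Vec}, Tv P f θ → θ ≠ 0 → η ⬝ᵥ f ≠ 0 → ¬ (θ ⬝ᵥ v = 0 ∧ θ ⬝ᵥ w = 0) := by
    intro f θ hf hθ hηf h
    obtain ⟨a, b, f0, hdec, a1, a2, -, -⟩ := exists_decomp hv.1 hw.1 hl f
    have hf0 : f0 ≠ 0 := fun e => hηf (by rw [hdec, e]; simp [hηL.1, hηL.2])
    have hfθ : θ ⬝ᵥ f0 = 0 := by
      have := hf.1
      rw [hdec] at this
      simpa [h.1, h.2] using this
    refine hθ (kerzero h.1 h.2 fun z hz hz' => ?_)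
    obtain ⟨c, rfl⟩ := kernel_smul hv.1 hw.1 hl a1 a2 hz hz' hf0
    rw [dotProduct_smul, hfθ, smul_zero]
  have hgood : ∃ f θ : Vec, Tv P f θ ∧ θ ≠ 0 ∧ η ⬝ᵥ f ≠ 0 ∧
      ¬ ((φ ⬝ᵥ x + (θ ⬝ᵥ x) * (φ ⬝ᵥ f) = 0) ∧ (ψ ⬝ᵥ x + (θ ⬝ᵥ x) * (ψ ⬝ᵥ f) = 0)) := by
    by_cases hb : (φ ⬝ᵥ x + (θ ⬝ᵥ x) * (φ ⬝ᵥ f) = 0) ∧ (ψ ⬝ᵥ x + (θ ⬝ᵥ x) * (ψ ⬝ᵥ f) = 0)
    swap; · exact ⟨f, θ, hf, hθ, hηf, hb⟩
    have hnz : ∀ {z σ : Vec}, z ≠ 0 → σ ⬝ᵥ z = 0 → σ ⬝ᵥ z = 0 := fun _ h => h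
    by_cases hφf : φ ⬝ᵥ f = 0
    · have hφx : φ ⬝ᵥ x = 0 := by have := hb.1; rwa [hφf, mul_zero, add_zero] at this
      have hψx : ψ ⬝ᵥ x ≠ 0 := fun e => hxL ⟨hφx, e⟩
      have hψf : ψ ⬝ᵥ f ≠ 0 := fun e => hψx (by have := hb.2; rwa [e, mul_zero, add_zero] at this)
      refine ⟨_, _, hf.conjTv hw, fun e => ?_, ?_, ?_⟩
      · rw [sub_eq_zero] at e
        exact hθL hf hθ hηf ⟨by
          have h3 := congrArg (fun z => z ⬝ᵥ w) e
          simp only [smul_dotProduct, hw.1, smul_zero] at h3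
          rw [e, smul_dotProduct, h3, zero_smul], by
          have h3 := congrArg (fun z => z ⬝ᵥ w) e
          simpa only [smul_dotProduct, hw.1, smul_zero] using h3⟩
      · rw [dotProduct_add, dotProduct_smul, hηL.2, smul_zero, add_zero]; exact hηf
      · simp only [dotProduct_add, dotProduct_smul, sub_dotProduct, smul_dotProduct, hw.1,
          smul_eq_mul, mul_zero, add_zero, hφf, zero_add]
        rintro ⟨e1, e2⟩
        obtain ⟨b1, b2⟩ := hb
        rw [hφx, zero_add] at e1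
        have h0 : θ ⬝ᵥ x - (θ ⬝ᵥ w) * (ψ ⬝ᵥ x) = 0 :=
          (mul_eq_zero.1 e1).resolve_right (mul_ne_zero hψf h1)
        rw [h0, zero_mul, add_zero] at e2
        exact hψx e2
    · refine ⟨_, _, hf.conjTv hv, fun e => ?_, ?_, ?_⟩
      · rw [sub_eq_zero] at e
        exact hθL hf hθ hηf ⟨by
          have h3 := congrArg (fun z => z ⬝ᵥ v) e
          simpa only [smul_dotProduct, hv.1, smul_zero] using h3, by
          have h3 := congrArg (fun z => z ⬝ᵥ v) e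
          simp only [smul_dotProduct, hv.1, smul_zero] at h3
          rw [e, smul_dotProduct, h3, zero_smul]⟩
      · rw [dotProduct_add, dotProduct_smul, hηL.1, smul_zero, add_zero]; exact hηf
      · simp only [dotProduct_add, dotProduct_smul, sub_dotProduct, smul_dotProduct, hv.1,
          smul_eq_mul, mul_zero, add_zero]
        rintro ⟨e1, e2⟩
        obtain ⟨b1, b2⟩ := hb
        have he : θ ⬝ᵥ x - (θ ⬝ᵥ v) * (φ ⬝ᵥ x) = θ ⬝ᵥ x := by
          apply mul_right_cancel₀ hφf; linear_combination e1 - b1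
        rw [he] at e2
        have h0 : θ ⬝ᵥ x = 0 :=
          (mul_eq_zero.1 (show (θ ⬝ᵥ x) * ((φ ⬝ᵥ f) * (ψ ⬝ᵥ v)) = 0 by
            linear_combination e2 - b2)).resolve_right (mul_ne_zero hφf h2')
        rw [h0, zero_mul, add_zero] at b1 b2
        exact hxL ⟨b1, b2⟩
  obtain ⟨f, θ, hf, hθ, hηf, hb⟩ := hgood
  obtain ⟨hy, hym⟩ := tv_conj_data hx hf
  rw [← hym]
  refine multiplier_meets hirr h2 hv hw hl hy ⟨?_, ?_⟩
  · simpa only [dotProduct_add, dotProduct_smul, smul_eq_mul] using hb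
  · simp only [sub_dotProduct, smul_dotProduct, hηL.1, hηL.2, zero_sub, neg_eq_zero, smul_eq_mul,
      mul_eq_zero, hηf, false_or]
    exact hθL hf hθ hηf

/-- The common multipliers of all root groups. -/
def multSet (P : Subgroup (GL (Fin 3) F)) : Set F :=
  {c | ∀ x χ : Fin 3 → F, Tv P x χ → Tv P x (c • χ)}

theorem inv_mem_multSet {c : F} (hc : c ∈ multSet P) : c⁻¹ ∈ multSet P := by
  rcases eq_or_ne c 0 with rfl | hc0
  · rwa [_root_.inv_zero]
  have hpow : ∀ n : ℕ, c ^ n ∈ multSet P := fun n => by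
    induction n with
    | zero => intro x χ h; rwa [pow_zero, one_smul]
    | succ n ih => intro x χ h; rw [pow_succ', ← smul_smul]; exact hc _ _ (ih _ _ h)
  have h1 : 2 ≤ Fintype.card F := Fintype.one_lt_card
  have e : c⁻¹ = c ^ (Fintype.card F - 2) := by
    symm
    apply eq_inv_of_mul_eq_one_left
    rw [← pow_succ, show Fintype.card F - 2 + 1 = Fintype.card F - 1 by omega,
      FiniteField.pow_card_sub_one_eq_one c hc0]
  rw [e]
  exact hpow _

/-- The multiplier field. -/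
def rootField (P : Subgroup (GL (Fin 3) F)) : Subfield F where
  carrier := multSet P
  mul_mem' := fun {a b} ha hb x χ h => by rw [← smul_smul]; exact ha _ _ (hb _ _ h)
  one_mem' := fun x χ h => by rwa [one_smul]
  add_mem' := fun {a b} ha hb x χ h => by rw [add_smul]; exact (ha _ _ h).add (hb _ _ h)
  zero_mem' := fun x χ _ => by rw [zero_smul]; exact tv_zero_mem x
  neg_mem' := fun {a} ha x χ h => by rw [neg_smul]; exact (ha _ _ h).neg
  inv_mem' := fun a ha => inv_mem_multSet ha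

theorem smul_mem_root {c : F} (hc : c ∈ rootField P) {x χ : Vec} (h : Tv P x χ) : Tv P x (c • χ) :=
  hc x χ h

include hirr h2 in
theorem param_mem (hv : Tv P v φ) (hw : Tv P w ψ) :
    (φ ⬝ᵥ w) * (ψ ⬝ᵥ v) ∈ rootField P := by
  by_cases h0 : (φ ⬝ᵥ w) * (ψ ⬝ᵥ v) = 0
  · rw [h0]; exact zero_mem _
  have hl : Linked v φ w ψ := ⟨left_ne_zero_of_mul h0, right_ne_zero_of_mul h0⟩
  intro x χ hx
  rcases eq_or_ne χ 0 with rfl | hχ
  · rw [smul_zero]; exact tv_zero_mem x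
  rcases eq_or_ne x 0 with rfl | hx0
  · exact ⟨dotProduct_zero _, by rw [tv_zero_left]; exact P.one_mem⟩
  have := param_mem_multiplier hirr h2 hv hw hl
  rw [← multiplier_eq hirr h2 hv hw hl hx hx0 hχ] at this
  exact this χ hx

end Cfsg.Agent.Lib.TransvThree
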