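import Cfsg.Agent.Lib.TransvThree.Main
import Cfsg.Agent.Lib.PrimeDim.Fields

/-!
The normaliser of the transvection subgroup: a group of determinant one containing a transvection is
`SL 3 (E)` or `SU 3`, times scalars, up to an extension of index three.
-/

set_option autoImplicit false
set_option linter.unusedSectionVars false
set_option linter.style.haveILetI false

namespace Cfsg.Agent.Lib.TransvThree

open Matrix
open Cfsg.Agent.Lib.Subspaces.Transvection Cfsg.Agent.Lib.PrimeDim.Basic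

variable {F : Type*} [Field F]

local notation "Vec" => Fin 3 → F

variable {P : Subgroup (GL (Fin 3) F)}

/-- A scalar matrix. -/
def scal (t : Fˣ) : GL (Fin 3) F :=
  Units.map (Matrix.scalar (Fin 3) : F →+* Matrix (Fin 3) (Fin 3) F).toMonoidHom t

theorem coe_scal (t : Fˣ) : ((scal t : GL (Fin 3) F) : Matrix (Fin 3) (Fin 3) F) = (t : F) • 1 := by
  ext i j
  simp [scal, Matrix.diagonal_apply, Matrix.one_apply]

theorem scal_mem (t : Fˣ) : scal t ∈ Cfsg.Geo.scalars (Fin 3) F := ⟨t, rfl⟩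

theorem det_scal (t : Fˣ) : ((scal t : GL (Fin 3) F) : Matrix (Fin 3) (Fin 3) F).det = (t : F) ^ 3 := by
  rw [coe_scal, Matrix.det_smul, Matrix.det_one, Fintype.card_fin, mul_one]

theorem scal_mul (t : Fˣ) (g : GL (Fin 3) F) :
    ((scal t * g : GL (Fin 3) F) : Matrix (Fin 3) (Fin 3) F) = (t : F) • (g : Matrix (Fin 3) (Fin 3) F) := by
  rw [Units.val_mul, coe_scal, Matrix.smul_mul, Matrix.one_mul]

theorem scal_comm (t : Fˣ) (g : GL (Fin 3) F) : scal t * g = g * scal t := by
  refine Units.ext ?_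
  rw [scal_mul, Units.val_mul, coe_scal, Matrix.mul_smul, Matrix.mul_one]

/-- The embedding of `GL 3` over a subfield. -/
abbrev glEmb (K : Subfield F) : GL (Fin 3) K →* GL (Fin 3) F :=
  Matrix.GeneralLinearGroup.map K.subtype

theorem det_glEmb (K : Subfield F) (h : GL (Fin 3) K) :
    ((glEmb K h : GL (Fin 3) F) : Matrix (Fin 3) (Fin 3) F).det =
      (((h : Matrix (Fin 3) (Fin 3) K).det : K) : F) :=
  (RingHom.map_det K.subtype (h : Matrix (Fin 3) (Fin 3) K)).symm

theorem glEmb_injective (K : Subfield F) : Function.Injective (glEmb K) := fun a b h => by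
  refine Units.ext (Matrix.ext fun i j => Subtype.ext ?_)
  exact congrArg (fun x : GL (Fin 3) F => (x : Matrix (Fin 3) (Fin 3) F) i j) h

section cubic

variable [Fintype F]

/-- A Frobenius power moving `t` by a primitive cube root of unity forces the degree to be divisible by three. -/
theorem three_dvd_exp {Q m : ℕ} (hQ : Fintype.card F = Q ^ m) {ω t : F} (ht : t ≠ 0) (hω : ω ≠ 1)
    (hω3 : ω ^ 3 = 1) (hωQ : ω ^ Q = ω) (htQ : t ^ Q = ω * t) : 3 ∣ m := by
  have key : ∀ j, t ^ Q ^ j = ω ^ j * t := fun j => by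
    induction j with
    | zero => simp
    | succ j ih => rw [pow_succ, pow_mul, ih, mul_pow, ← pow_mul, mul_comm j Q, pow_mul, hωQ, htQ]; ring
  have h1 := FiniteField.pow_card t
  rw [hQ, key] at h1
  have h2 : ω ^ m = 1 := mul_right_cancel₀ ht (h1.trans (one_mul t).symm)
  have h3 : orderOf ω = 3 := by
    haveI := Fact.mk Nat.prime_three
    exact orderOf_eq_prime hω3 hω
  rw [← h3]
  exact orderOf_dvd_of_pow_eq_one h2

end cubic

variable [Fintype F] (hirr : Irred P) (h2 : (2 : F) ≠ 0)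

include hirr h2 in
/-- The transvection subgroup is absolutely irreducible. -/
theorem tvGroup_absIrred (hT : HasTv P) :
    Cfsg.Geo.ActsAbsolutelyIrreducibly (Cfsg.Geo.matrixSet (tvGroup P)) := by
  classical
  obtain ⟨tr⟩ := exists_triangle hirr h2 hT
  have hb : ∀ x : Vec, x ≠ 0 → ∃ i, tr.fn i ⬝ᵥ x ≠ 0 := fun x hx => by
    by_contra h
    push Not at h
    have hu : IsUnit (Matrix.of tr.fn) := Matrix.linearIndependent_rows_iff_isUnit.1 tr.indepFn
    exact hx (Matrix.eq_zero_of_mulVec_eq_zero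
      (isUnit_iff_ne_zero.1 ((Matrix.isUnit_iff_isUnit_det _).1 hu)) (funext h))
  refine ⟨irred_iff.2 fun W hW => ?_, fun M hM => ?_⟩
  · refine or_iff_not_imp_left.2 fun hW0 => ?_
    obtain ⟨x, hxW, hx0⟩ := Submodule.exists_mem_ne_zero_of_ne_bot hW0
    obtain ⟨i, hi⟩ := hb x hx0
    have hmove : ∀ j, ∀ y ∈ W, tr.fn j ⬝ᵥ y ≠ 0 → tr.vec j ∈ W := fun j y hy hne => by
      have h := W.sub_mem (hW _ (tv_mem_tvGroup (tr.isTv j)) y hy) hy
      rw [tv_mulVec (tr.isTv j).1, add_sub_cancel_left] at h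
      simpa [smul_smul, hne] using W.smul_mem (tr.fn j ⬝ᵥ y)⁻¹ h
    have hvi := hmove i x hxW hi
    have hall : ∀ j, tr.vec j ∈ W := fun j => by
      rcases eq_or_ne j i with rfl | hji
      · exact hvi
      · exact hmove j _ hvi (tr.linked j i hji).1
    rw [eq_top_iff, ← tr.indep.span_eq_top_of_card_eq_finrank (by simp), Submodule.span_le]
    rintro _ ⟨j, rfl⟩
    exact hall j
  · have hcomm : ∀ i x, (tr.fn i ⬝ᵥ x) • (M *ᵥ tr.vec i) = (tr.fn i ⬝ᵥ (M *ᵥ x)) • tr.vec i := by
      intro i x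
      have h := congrArg (fun N => N *ᵥ x)
        (hM _ (mem_matrixSet.2 ⟨_, tv_mem_tvGroup (tr.isTv i), rfl⟩))
      simp only [← Matrix.mulVec_mulVec, tv_mulVec (tr.isTv i).1, Matrix.mulVec_add, Matrix.mulVec_smul] at h
      exact add_left_cancel h
    have heig : ∀ i, ∃ a : F, M *ᵥ tr.vec i = a • tr.vec i := fun i => by
      obtain ⟨j, hj⟩ := exists_ne i
      have hne := (tr.linked i j hj.symm).1
      refine ⟨(tr.fn i ⬝ᵥ tr.vec j)⁻¹ * (tr.fn i ⬝ᵥ (M *ᵥ tr.vec j)), ?_⟩
      rw [← smul_smul, ← hcomm, smul_smul, inv_mul_cancel₀ hne, one_smul]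
    choose a ha using heig
    have heq : ∀ i j, i ≠ j → a i = a j := fun i j hij => by
      have hne := (tr.linked i j hij).1
      have h := hcomm i (tr.vec j)
      rw [ha i, ha j, dotProduct_smul, smul_eq_mul, smul_smul] at h
      have h' := smul_left_injective F (tr.indep.ne_zero i) h
      exact mul_left_cancel₀ hne (h'.trans (mul_comm _ _))
    refine ⟨a 0, Matrix.mulVec_injective (funext fun x => ?_)⟩
    have hx : x ∈ Submodule.span F (Set.range tr.vec) := by
      rw [tr.indep.span_eq_top_of_card_eq_finrank (by simp)]; trivial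
    induction hx using Submodule.span_induction with
    | mem y hy =>
      obtain ⟨i, rfl⟩ := hy
      have : a i = a 0 := by
        rcases eq_or_ne i 0 with rfl | h
        · rfl
        · exact heq i 0 h
      rw [ha i, this, Matrix.smul_mulVec, Matrix.one_mulVec]
    | zero => rw [Matrix.mulVec_zero, Matrix.mulVec_zero]
    | add y z _ _ e1 e2 => rw [Matrix.mulVec_add, Matrix.mulVec_add, e1, e2]
    | smul c y _ e => rw [Matrix.mulVec_smul, Matrix.mulVec_smul, e]

/-- The decomposition of a determinant one group normalising a group realised over `K`: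
`G0` is the normaliser up to scalars inside `GL 3 (K)`, with determinants the `k`-th roots of unity. -/
structure Decomp (P : Subgroup (GL (Fin 3) F)) (g : GL (Fin 3) F) (K : Subfield F)
    (G0 : Subgroup (GL (Fin 3) K)) (k : ℕ) : Prop where
  kpos : 0 < k
  split : ∀ y ∈ P, ∃ (t : Fˣ) (h : GL (Fin 3) K), h ∈ G0 ∧ g⁻¹ * y * g = scal t * glEmb K h
  det_pow : ∀ h ∈ G0, ((h : Matrix (Fin 3) (Fin 3) K).det) ^ k = 1
  scal_pow : ∀ (t : Fˣ) (h : GL (Fin 3) K), h ∈ G0 → glEmb K h = scal t → (t : F) ^ k = 1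
  scal_mem : ∀ a : F, a ^ k = 1 → ∃ (t : Kˣ), ((t : K) : F) = a ∧
    Units.map (Matrix.scalar (Fin 3) : K →+* Matrix (Fin 3) (Fin 3) K).toMonoidHom t ∈ G0
  det_one : ∀ y ∈ P, (y : Matrix (Fin 3) (Fin 3) F).det = 1
  inner : ∀ h ∈ G0, (h : Matrix (Fin 3) (Fin 3) K).det = 1 → g * glEmb K h * g⁻¹ ∈ P

/-- The subgroup realised over `K`, inside the ambient group. -/
def core (g : GL (Fin 3) F) (K : Subfield F) (G0 : Subgroup (GL (Fin 3) K)) : Subgroup (GL (Fin 3) F) :=
  (G0 ⊓ Cfsg.Geo.specialLinear (Fin 3) K).map ((MulAut.conj g).toMonoidHom.comp (glEmb K))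

theorem scal_glEmb (K : Subfield F) (t : Kˣ) :
    glEmb K (Units.map (Matrix.scalar (Fin 3) : K →+* Matrix (Fin 3) (Fin 3) K).toMonoidHom t) =
      scal (Units.map K.subtype.toMonoidHom t) := by
  refine Units.ext (Matrix.ext fun i j => ?_)
  show K.subtype ((Matrix.scalar (Fin 3) (t : K)) i j) = _
  rw [coe_scal]
  simp [Matrix.diagonal_apply, Matrix.one_apply, apply_ite (fun z : K => (z : F))]

section decomp

variable {g : GL (Fin 3) F} {K : Subfield F} {G0 : Subgroup (GL (Fin 3) K)} {k : ℕ}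

theorem Decomp.cube_pow (hD : Decomp P g K G0 k) {y : GL (Fin 3) F} (hy : y ∈ P) {t : Fˣ}
    {h : GL (Fin 3) K} (hh : h ∈ G0) (e : g⁻¹ * y * g = scal t * glEmb K h) :
    (t : F) ^ 3 * (((h : Matrix (Fin 3) (Fin 3) K).det : K) : F) = 1 ∧ ((t : F) ^ k) ^ 3 = 1 := by
  have h1 : (t : F) ^ 3 * (((h : Matrix (Fin 3) (Fin 3) K).det : K) : F) = 1 := by
    rw [← det_glEmb, ← det_scal, ← Matrix.det_mul, ← Units.val_mul, ← e, Units.val_mul, Units.val_mul,
      Matrix.det_mul, Matrix.det_mul, hD.det_one y hy, mul_one, ← Matrix.det_mul, ← Units.val_mul,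
      inv_mul_cancel, Units.val_one, Matrix.det_one]
  refine ⟨h1, ?_⟩
  have h2 := congrArg (fun x : F => x ^ k) h1
  simp only [mul_pow, one_pow] at h2
  rw [← SubmonoidClass.coe_pow, hD.det_pow h hh, OneMemClass.coe_one, mul_one] at h2
  rw [← pow_mul, mul_comm, pow_mul, h2]

/-- An element whose scalar part can be absorbed lies in the core times scalars. -/
theorem Decomp.mem_core (hD : Decomp P g K G0 k) {y : GL (Fin 3) F} (hy : y ∈ P) {t : Fˣ}
    {h : GL (Fin 3) K} (hh : h ∈ G0) (e : g⁻¹ * y * g = scal t * glEmb K h) {a : F} (ha : a ^ k = 1)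
    (ha3 : a ^ 3 = (t : F) ^ 3) :
    ∃ (z : Fˣ) (c : GL (Fin 3) F), c ∈ core g K G0 ∧ y = scal z * c ∧ (a = t → z = 1) := by
  obtain ⟨s, hs, hsG⟩ := hD.scal_mem a ha
  let sF : Fˣ := Units.map K.subtype.toMonoidHom s
  have hsF : (sF : F) = a := hs
  refine ⟨t * sF⁻¹, g * glEmb K (Units.map (Matrix.scalar (Fin 3) : K →+* Matrix (Fin 3) (Fin 3) K).toMonoidHom s * h) * g⁻¹,
    ⟨_, ⟨G0.mul_mem hsG hh, ?_⟩, rfl⟩, ?_, ?_⟩
  · show _ ∈ Cfsg.Geo.specialLinear (Fin 3) K
    rw [mem_specialLinear_iff, Units.val_mul, Matrix.det_mul]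
    apply Subtype.ext
    push_cast
    rw [← det_glEmb, scal_glEmb, det_scal]
    show (sF : F) ^ 3 * _ = 1
    rw [hsF, ha3, (hD.cube_pow hy hh e).1]
  · have e1 : y = g * (scal t * glEmb K h) * g⁻¹ := by rw [← e]; group
    rw [e1, map_mul, scal_glEmb]
    have e2 : scal t = scal (t * sF⁻¹) * scal sF := by
      rw [scal, scal, scal, ← map_mul, inv_mul_cancel_right]
    rw [e2]
    simp only [mul_assoc]
    rw [← mul_assoc g (scal (t * sF⁻¹)), ← scal_comm, mul_assoc]
  · intro hat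
    refine Units.ext ?_
    rw [Units.val_mul, Units.val_inv_eq_inv_val, hsF, hat, Units.val_one, mul_inv_cancel₀ t.ne_zero]

theorem Decomp.core_le (hD : Decomp P g K G0 k) : core g K G0 ≤ P := by
  rintro _ ⟨h, ⟨h1, h2⟩, rfl⟩
  exact hD.inner h h1 ((mem_specialLinear_iff h).1 h2)

/-- If three does not divide `k`, every element is a scalar times an element of the core. -/
theorem Decomp.split_of_coprime (hD : Decomp P g K G0 k) (h3 : ¬ 3 ∣ k) {y : GL (Fin 3) F} (hy : y ∈ P) :
    ∃ (z : Fˣ) (c : GL (Fin 3) F), c ∈ core g K G0 ∧ y = scal z * c := by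
  obtain ⟨t, h, hh, e⟩ := hD.split y hy
  -- `t³` is a `k`-th root of unity, hence the cube of one
  have hk : ((t : F) ^ 3) ^ k = 1 := by
    rw [← pow_mul, mul_comm, pow_mul]; exact (hD.cube_pow hy hh e).2
  obtain ⟨u, hu⟩ : ∃ u : ℕ, (3 * u) % k = 1 % k := by
    rcases (show k % 3 = 1 ∨ k % 3 = 2 by omega) with h | h
    · exact ⟨(2 * k + 1) / 3, by rw [show 3 * ((2 * k + 1) / 3) = 1 + k * 2 by omega, Nat.add_mul_mod_self_left]⟩
    · exact ⟨(k + 1) / 3, by rw [show 3 * ((k + 1) / 3) = 1 + k * 1 by omega, Nat.add_mul_mod_self_left]⟩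
  have ha : (((t : F) ^ 3) ^ u) ^ k = 1 := by rw [← pow_mul, mul_comm u k, pow_mul, hk, one_pow]
  have ha3 : (((t : F) ^ 3) ^ u) ^ 3 = (t : F) ^ 3 := by
    rw [← pow_mul, mul_comm u 3]
    conv_rhs => rw [← pow_one ((t : F) ^ 3)]
    rw [← Nat.div_add_mod (3 * u) k, hu, pow_add, pow_mul _ k, hk, one_pow, one_mul]
    conv_rhs => rw [← Nat.div_add_mod 1 k, pow_add, pow_mul _ k, hk, one_pow, one_mul]
  obtain ⟨z, c, hc, hy', -⟩ := hD.mem_core hy hh e ha ha3
  exact ⟨z, c, hc, hy'⟩

end decomp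

end Cfsg.Agent.Lib.TransvThree

namespace Cfsg.Agent.Lib.TransvThree

open Matrix
open Cfsg.Agent.Lib.Subspaces.Transvection

variable {F : Type*} [Field F] [Fintype F] {P : Subgroup (GL (Fin 3) F)}
  {g : GL (Fin 3) F} {K : Subfield F} {G0 : Subgroup (GL (Fin 3) K)} {k : ℕ}

theorem Decomp.pow_unique (hD : Decomp P g K G0 k) {t t' : Fˣ} {h h' : GL (Fin 3) K} (hh : h ∈ G0)
    (hh' : h' ∈ G0) (e : scal t * glEmb K h = scal t' * glEmb K h') : (t : F) ^ k = (t' : F) ^ k := by
  have e1 : glEmb K (h' * h⁻¹) = scal (t * t'⁻¹) := by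
    calc glEmb K (h' * h⁻¹) = (scal t')⁻¹ * (scal t' * glEmb K h') * (glEmb K h)⁻¹ := by
          rw [map_mul, map_inv]; group
      _ = (scal t')⁻¹ * scal t := by rw [← e]; group
      _ = scal (t * t'⁻¹) := by rw [scal, scal, scal, ← map_inv, ← map_mul, mul_comm]
  have h1 := hD.scal_pow _ _ (G0.mul_mem hh' (G0.inv_mem hh)) e1
  rw [Units.val_mul, mul_pow, Units.val_inv_eq_inv_val, inv_pow,
    mul_inv_eq_one₀ (pow_ne_zero k t'.ne_zero)] at h1
  exact h1

theorem Decomp.core_scal (hD : Decomp P g K G0 k) (h3 : 3 ∣ k) {z : Fˣ} (hz : (z : F) ^ 3 = 1) :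
    scal z ∈ core g K G0 := by
  obtain ⟨m, rfl⟩ := h3
  obtain ⟨s, hs, hsG⟩ := hD.scal_mem (z : F) (by rw [pow_mul, hz, one_pow])
  have e : Units.map K.subtype.toMonoidHom s = z := Units.ext hs
  refine ⟨_, ⟨hsG, ?_⟩, ?_⟩
  · show _ ∈ Cfsg.Geo.specialLinear (Fin 3) K
    rw [mem_specialLinear_iff]
    apply Subtype.ext
    rw [← det_glEmb, scal_glEmb, det_scal, e, hz]
    rfl
  · show g * glEmb K (Units.map _ s) * g⁻¹ = scal z
    rw [scal_glEmb, e, ← scal_comm, mul_inv_cancel_right]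

/-- If three divides `k`, the core has index one or three, and in the second case some scalar part
is moved by a primitive cube root of unity. -/
theorem Decomp.index_cases (hD : Decomp P g K G0 k) (h3 : 3 ∣ k) :
    P = core g K G0 ∨ (((core g K G0).subgroupOf P).index = 3 ∧
      ∃ t : Fˣ, ∃ ω : F, ω ≠ 1 ∧ ω ^ 3 = 1 ∧ (t : F) ^ k = ω) := by
  classical
  have hsp : ∀ y : P, ∃ c : Fˣ, ∃ (t : Fˣ) (h : GL (Fin 3) K), h ∈ G0 ∧
      g⁻¹ * (y : GL (Fin 3) F) * g = scal t * glEmb K h ∧ c = t ^ k := fun y => by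
    obtain ⟨t, h, hh, e⟩ := hD.split y y.2
    exact ⟨t ^ k, t, h, hh, e, rfl⟩
  choose chi T H hH hE hchi using hsp
  let χ : P →* Fˣ := MonoidHom.mk' chi (fun a b => by
    have e : scal (T (a * b)) * glEmb K (H (a * b)) = scal (T a * T b) * glEmb K (H a * H b) := by
      rw [← hE, Subgroup.coe_mul,
        show g⁻¹ * ((a : GL (Fin 3) F) * b) * g = (g⁻¹ * a * g) * (g⁻¹ * b * g) by group,
        hE, hE, map_mul, show scal (T a * T b) = scal (T a) * scal (T b) from map_mul _ _ _]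
      rw [mul_assoc, ← mul_assoc (glEmb K (H a)), ← scal_comm, mul_assoc, mul_assoc]
    rw [hchi, hchi, hchi, ← mul_pow]
    refine Units.ext ?_
    simpa using hD.pow_unique (hH _) (G0.mul_mem (hH a) (hH b)) e)
  have hker : χ.ker = (core g K G0).subgroupOf P := by
    ext y
    rw [MonoidHom.mem_ker, Subgroup.mem_subgroupOf]
    show chi y = 1 ↔ _
    constructor
    · intro h
      have h1 : (T y : F) ^ k = 1 := by
        have := congrArg Units.val ((hchi y).symm.trans h)
        simpa using this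
      obtain ⟨z, c, hc, hy, hz⟩ := hD.mem_core y.2 (hH y) (hE y) h1 rfl
      rw [hy, hz rfl, show scal (1 : Fˣ) = (1 : GL (Fin 3) F) from map_one _, one_mul]
      exact hc
    · rintro ⟨h, ⟨hh, -⟩, e⟩
      have e' : scal (T y) * glEmb K (H y) = scal (1 : Fˣ) * glEmb K h := by
        rw [← hE, ← e, show scal (1 : Fˣ) = (1 : GL (Fin 3) F) from map_one _, one_mul]
        show g⁻¹ * (g * glEmb K h * g⁻¹) * g = glEmb K h
        group
      refine Units.ext ?_
      rw [hchi, Units.val_pow_eq_pow_val, hD.pow_unique (hH y) hh e', Units.val_one, one_pow]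
  have hcube : ∀ y : P, ((chi y : Fˣ) : F) ^ 3 = 1 := fun y => by
    rw [hchi, Units.val_pow_eq_pow_val]; exact (hD.cube_pow y.2 (hH y) (hE y)).2
  by_cases hall : ∀ y, χ y = 1
  · left
    refine le_antisymm (fun y hy => ?_) hD.core_le
    have : (⟨y, hy⟩ : P) ∈ χ.ker := MonoidHom.mem_ker.2 (hall _)
    rw [hker] at this
    exact this
  right
  push Not at hall
  obtain ⟨y, hy⟩ := hall
  have hω1 : ((chi y : Fˣ) : F) ≠ 1 := fun e => hy (Units.ext e)
  refine ⟨?_, T y, _, hω1, hcube y, by rw [hchi, Units.val_pow_eq_pow_val]⟩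
  haveI := Fact.mk Nat.prime_three
  rw [← hker, Subgroup.index_ker]
  refine le_antisymm ?_ ?_
  · have hle : χ.range ≤ rootsOfUnity 3 F := by
      rintro _ ⟨z, rfl⟩
      rw [_root_.mem_rootsOfUnity]
      exact Units.ext (by rw [Units.val_pow_eq_pow_val]; exact hcube z)
    refine (Subgroup.card_le_of_le hle).trans ?_
    exact card_rootsOfUnity F 3
  · have h3' : orderOf (χ y) = 3 := orderOf_eq_prime (Units.ext (by
      rw [Units.val_pow_eq_pow_val]; exact hcube y)) hy
    have hdvd := Subgroup.orderOf_dvd_natCard χ.range (show χ y ∈ χ.range from ⟨y, rfl⟩)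
    rw [h3'] at hdvd
    exact Nat.le_of_dvd Nat.card_pos hdvd

end Cfsg.Agent.Lib.TransvThree

namespace Cfsg.Agent.Lib.TransvThree

open Matrix
open Cfsg.Agent.Lib.Subspaces.Transvection Cfsg.Agent.Lib.PrimeDim.Basic

variable {F : Type*} [Field F]

/-- Scalars times the matrices over a subfield. -/
def scalTimes (K : Subfield F) : Subgroup (GL (Fin 3) F) :=
  (MonoidHom.mk' (fun x : Fˣ × GL (Fin 3) K => scal x.1 * glEmb K x.2) (fun a b => by
    rw [Prod.fst_mul, Prod.snd_mul, map_mul, show scal (a.1 * b.1) = scal a.1 * scal b.1 from map_mul _ _ _,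
      mul_assoc, ← mul_assoc (scal b.1), scal_comm b.1 (glEmb K a.2), mul_assoc, mul_assoc])).range

theorem mem_scalTimes {K : Subfield F} {y : GL (Fin 3) F} :
    y ∈ scalTimes K ↔ ∃ (t : Fˣ) (h : GL (Fin 3) K), y = scal t * glEmb K h :=
  ⟨fun ⟨⟨t, h⟩, e⟩ => ⟨t, h, e.symm⟩, fun ⟨t, h, e⟩ => ⟨(t, h), e.symm⟩⟩

variable [Fintype F] {P : Subgroup (GL (Fin 3) F)}

theorem split_of_subfield {g : GL (Fin 3) F} {K : Subfield F}
    (h : P ≤ Cfsg.Geo.subfieldSubgroup K g) {y : GL (Fin 3) F} (hy : y ∈ P) :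
    ∃ (t : Fˣ) (h : GL (Fin 3) K), g⁻¹ * y * g = scal t * glEmb K h := by
  obtain ⟨z, hz, rfl⟩ := h hy
  have hle : (glEmb K).range ⊔ Cfsg.Geo.scalars (Fin 3) F ≤ scalTimes K := by
    refine sup_le ?_ ?_
    · rintro _ ⟨x, rfl⟩
      exact mem_scalTimes.2 ⟨1, x, by rw [show scal (1 : Fˣ) = (1 : GL (Fin 3) F) from map_one _, one_mul]⟩
    · rintro _ ⟨t, rfl⟩
      exact mem_scalTimes.2 ⟨t, 1, by rw [map_one, mul_one]; rfl⟩
  obtain ⟨t, x, rfl⟩ := mem_scalTimes.1 (hle hz)
  refine ⟨t, x, ?_⟩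
  show g⁻¹ * (g * (scal t * glEmb K x) * g⁻¹) * g = _
  group

theorem subfield_split (hirr : Irred P) (h2 : (2 : F) ≠ 0) (hT : HasTv P) {g : GL (Fin 3) F}
    {K : Subfield F} {G : Subgroup (GL (Fin 3) K)}
    (hg : (tvGroup P).map (MulAut.conj g⁻¹).toMonoidHom = G.map (glEmb K)) {y : GL (Fin 3) F} (hy : y ∈ P) :
    ∃ (t : Fˣ) (h : GL (Fin 3) K), g⁻¹ * y * g = scal t * glEmb K h ∧ ∀ x ∈ G, h * x * h⁻¹ ∈ G := by
  have hle := PrimeDim.Fields.normalizer_le_subfieldSubgroup (tvGroup_normalized P)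
    (tvGroup_absIrred hirr h2 hT) K (B := g⁻¹) (fun s hs i j => by
      have h1 : g⁻¹ * s * g⁻¹⁻¹ ∈ G.map (glEmb K) := hg ▸ Subgroup.mem_map_of_mem _ hs
      obtain ⟨x, -, e⟩ := h1
      rw [← Units.val_mul, ← Units.val_mul, ← e]
      exact ((x : Matrix (Fin 3) (Fin 3) K) i j).2)
  rw [inv_inv] at hle
  obtain ⟨t, h, e⟩ := split_of_subfield hle hy
  refine ⟨t, h, e, fun x hx => ?_⟩
  have h1 : g * glEmb K x * g⁻¹ ∈ tvGroup P := by
    have : glEmb K x ∈ (tvGroup P).map (MulAut.conj g⁻¹).toMonoidHom := hg ▸ Subgroup.mem_map_of_mem _ hx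
    obtain ⟨s, hs, e⟩ := this
    rw [← e]
    simpa [mul_assoc] using hs
  have h3 : g⁻¹ * (y * (g * glEmb K x * g⁻¹) * y⁻¹) * g ∈ G.map (glEmb K) := hg ▸ ⟨_,
    tvGroup_normalized P y hy _ h1, by simp⟩
  rw [show g⁻¹ * (y * (g * glEmb K x * g⁻¹) * y⁻¹) * g =
      (g⁻¹ * y * g) * glEmb K x * (g⁻¹ * y * g)⁻¹ by group, e,
    show scal t * glEmb K h * glEmb K x * (scal t * glEmb K h)⁻¹ =
      scal t * (glEmb K (h * x * h⁻¹)) * (scal t)⁻¹ by rw [map_mul, map_mul, map_inv]; group,
    scal_comm, mul_inv_cancel_right] at h3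
  obtain ⟨x', hx', e'⟩ := h3
  exact glEmb_injective K e' ▸ hx'

theorem core_eq {g : GL (Fin 3) F} {K : Subfield F} {G0 : Subgroup (GL (Fin 3) K)}
    (hg : (tvGroup P).map (MulAut.conj g⁻¹).toMonoidHom =
      (G0 ⊓ Cfsg.Geo.specialLinear (Fin 3) K).map (glEmb K)) : core g K G0 = tvGroup P := by
  rw [core, ← Subgroup.map_map, ← hg, Subgroup.map_map]
  conv_rhs => rw [← Subgroup.map_id (tvGroup P)]
  congr 1
  ext x
  simp [mul_assoc]

theorem inner_mem {g : GL (Fin 3) F} {K : Subfield F} {G0 : Subgroup (GL (Fin 3) K)}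
    (hg : (tvGroup P).map (MulAut.conj g⁻¹).toMonoidHom =
      (G0 ⊓ Cfsg.Geo.specialLinear (Fin 3) K).map (glEmb K)) {h : GL (Fin 3) K} (hh : h ∈ G0)
    (hdet : (h : Matrix (Fin 3) (Fin 3) K).det = 1) : g * glEmb K h * g⁻¹ ∈ P :=
  tvGroup_le P (core_eq hg ▸ ⟨h, ⟨hh, (mem_specialLinear_iff h).2 hdet⟩, rfl⟩)

theorem mem_of_pow_card (K : Subfield F) {a : F} (ha : a ^ Nat.card K = a) : a ∈ K := by
  obtain ⟨σ, hσ, hfix⟩ := exists_frob K
  exact (hfix a).1 (by rw [hσ, ha])

theorem scal_entry {K : Subfield F} {h : GL (Fin 3) K} {t : Fˣ} (e : glEmb K h = scal t) (i j : Fin 3) :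
    (((h : Matrix (Fin 3) (Fin 3) K) i j : K) : F) = if i = j then (t : F) else 0 := by
  have h1 : (((h : Matrix (Fin 3) (Fin 3) K) i j : K) : F) =
      ((scal t : GL (Fin 3) F) : Matrix (Fin 3) (Fin 3) F) i j :=
    congrArg (fun x : GL (Fin 3) F => (x : Matrix (Fin 3) (Fin 3) F) i j) e
  rw [h1, coe_scal, Matrix.smul_apply, Matrix.one_apply]
  split_ifs <;> simp

theorem exists_decomposition (hirr : Irred P) (h2 : (2 : F) ≠ 0) (hT : HasTv P)
    (hdet : ∀ y ∈ P, (y : Matrix (Fin 3) (Fin 3) F).det = 1) :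
    ∃ g : GL (Fin 3) F,
      (core g (rootField P) ⊤ = tvGroup P ∧
        Decomp P g (rootField P) ⊤ (Nat.card (rootField P) - 1)) ∨
      ∃ (K : Subfield F) (q : ℕ), Nat.card K = q ^ 2 ∧ q = Nat.card (rootField P) ∧ rootField P ≤ K ∧
        core g K (Cfsg.GU 3 K q) = tvGroup P ∧ Decomp P g K (Cfsg.GU 3 K q) (q + 1) := by
  classical
  obtain ⟨g, hg | ⟨K, q, hcard, hq, hEK, hg⟩⟩ := transvection_group hirr h2 hT
  · refine ⟨g, Or.inl ?_⟩
    have hg' : (tvGroup P).map (MulAut.conj g⁻¹).toMonoidHom =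
        ((⊤ : Subgroup (GL (Fin 3) (rootField P))) ⊓ Cfsg.Geo.specialLinear (Fin 3) (rootField P)).map
          (glEmb (rootField P)) := by rw [top_inf_eq]; exact hg
    set E := rootField P
    letI : Fintype E := Fintype.ofFinite _
    have hc : 2 ≤ Nat.card E := Finite.one_lt_card
    refine ⟨core_eq hg', ⟨by omega, fun y hy => ?_, fun h _ => ?_, fun t h _ e => ?_, fun a ha => ?_,
      hdet, fun h hh hd => inner_mem hg' hh hd⟩⟩
    · obtain ⟨t, h, e, -⟩ := subfield_split hirr h2 hT hg hy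
      exact ⟨t, h, Subgroup.mem_top _, e⟩
    · rw [Nat.card_eq_fintype_card]
      exact FiniteField.pow_card_sub_one_eq_one _
        (isUnit_iff_ne_zero.1 ((Matrix.isUnit_iff_isUnit_det _).1 h.isUnit))
    · have e0 := scal_entry e 0 0
      rw [if_pos rfl] at e0
      rw [← e0, ← SubmonoidClass.coe_pow, Nat.card_eq_fintype_card,
        FiniteField.pow_card_sub_one_eq_one _ (fun hz => t.ne_zero (by rw [← e0, hz]; rfl))]
      rfl
    · have ha0 : a ≠ 0 := by
        rintro rfl
        rw [zero_pow (by omega)] at ha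
        exact zero_ne_one ha
      have haE : a ∈ E := mem_of_pow_card E (by
        rw [show Nat.card E = Nat.card E - 1 + 1 by omega, pow_succ, ha, one_mul])
      exact ⟨Units.mk0 ⟨a, haE⟩ (fun e => ha0 (congrArg Subtype.val e)), rfl, Subgroup.mem_top _⟩
  · refine ⟨g, Or.inr ⟨K, q, hcard, hq, hEK, ?_⟩⟩
    letI : Fintype K := Fintype.ofFinite _
    have hFK : Fintype.card K = q ^ 2 := by rw [← Nat.card_eq_fintype_card]; exact hcard
    have hg' : (tvGroup P).map (MulAut.conj g⁻¹).toMonoidHom =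
        (Cfsg.GU 3 K q ⊓ Cfsg.Geo.specialLinear (Fin 3) K).map (glEmb K) := hg
    -- absolute irreducibility over `K`
    have habs := tvGroup_absIrred hirr h2 hT
    have hback : ∀ s ∈ tvGroup P, ∃ x ∈ Cfsg.GU 3 K q ⊓ Cfsg.Geo.specialLinear (Fin 3) K,
        s = g * glEmb K x * g⁻¹ := fun s hs => by
      obtain ⟨x, hx, e⟩ : g⁻¹ * s * g⁻¹⁻¹ ∈ (Cfsg.GU 3 K q ⊓ Cfsg.Geo.specialLinear (Fin 3) K).map (glEmb K) :=
        hg' ▸ Subgroup.mem_map_of_mem _ hs
      exact ⟨x, hx, by rw [e]; group⟩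
    let up : (Fin 3 → K) → (Fin 3 → F) := fun x i => (x i : F)
    have hmul : ∀ (N : Matrix (Fin 3) (Fin 3) K) (x : Fin 3 → K),
        N.map K.subtype *ᵥ up x = up (N *ᵥ x) := fun N x => by
      funext i; exact (RingHom.map_mulVec K.subtype N x i).symm
    have habsK : Cfsg.Geo.ActsAbsolutelyIrreducibly
        (Cfsg.Geo.matrixSet (Cfsg.GU 3 K q ⊓ Cfsg.Geo.specialLinear (Fin 3) K)) := by
      refine ⟨irred_iff.2 fun W hW => ?_, fun M hM => ?_⟩
      · refine or_iff_not_imp_left.2 fun hW0 => ?_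
        let V : Submodule F (Fin 3 → F) :=
          (Submodule.span F (up '' (W : Set (Fin 3 → K)))).map (Matrix.mulVecLin (g : Matrix (Fin 3) (Fin 3) F))
        have hVinv : Invariant (tvGroup P) V := by
          intro s hs x hx
          obtain ⟨z, hz, rfl⟩ := hx
          obtain ⟨n, hn, rfl⟩ := hback s hs
          refine ⟨((glEmb K n : GL (Fin 3) F) : Matrix (Fin 3) (Fin 3) F) *ᵥ z, ?_, ?_⟩
          · induction hz using Submodule.span_induction with
            | mem y hy =>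
              obtain ⟨w, hw, rfl⟩ := hy
              exact Submodule.subset_span ⟨_, hW n hn w hw, (hmul (n : Matrix (Fin 3) (Fin 3) K) w).symm⟩
            | zero => rw [Matrix.mulVec_zero]; exact zero_mem _
            | add y y' _ _ e1 e2 => rw [Matrix.mulVec_add]; exact add_mem e1 e2
            | smul c y _ e1 => rw [Matrix.mulVec_smul]; exact Submodule.smul_mem _ c e1
          · rw [Matrix.mulVecLin_apply, Matrix.mulVecLin_apply, ← gl_mul_mulVec, ← gl_mul_mulVec]
            congr 2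
            group
        rcases (irred_iff.1 habs.1) V hVinv with h | h
        · exfalso
          obtain ⟨x, hx, hx0⟩ := Submodule.exists_mem_ne_zero_of_ne_bot hW0
          have : (g : Matrix (Fin 3) (Fin 3) F) *ᵥ up x ∈ V := ⟨_, Submodule.subset_span ⟨x, hx, rfl⟩, rfl⟩
          rw [h, Submodule.mem_bot] at this
          have h0 := gl_mulVec_injective g (this.trans (Matrix.mulVec_zero _).symm)
          exact hx0 (funext fun i => Subtype.ext (congrFun h0 i))
        · apply Submodule.eq_top_of_finrank_eq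
          refine le_antisymm (Submodule.finrank_le _) ?_
          let b := Module.finBasis K W
          have hle : Submodule.span F (up '' (W : Set (Fin 3 → K))) ≤
              Submodule.span F (Set.range fun i => up (b i : Fin 3 → K)) := by
            rw [Submodule.span_le]
            rintro _ ⟨w, hw, rfl⟩
            have e : w = ∑ i, b.repr ⟨w, hw⟩ i • (b i : Fin 3 → K) := by
              have h0 := congrArg Subtype.val (b.sum_repr ⟨w, hw⟩)
              rw [Submodule.coe_sum] at h0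
              exact h0.symm
            have e' : up w = ∑ i, ((b.repr ⟨w, hw⟩ i : K) : F) • up (b i : Fin 3 → K) := by
              conv_lhs => rw [e]
              funext l
              simp [up, Finset.sum_apply, AddSubmonoidClass.coe_finsetSum]
            rw [e']
            exact Submodule.sum_mem _ fun i _ => Submodule.smul_mem _ _ (Submodule.subset_span ⟨i, rfl⟩)
          have h1 : Module.finrank F V ≤ Module.finrank K W := by
            refine (Submodule.finrank_map_le _ _).trans ((Submodule.finrank_mono hle).trans ?_)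
            exact (finrank_range_le_card _).trans (by simp)
          rw [h, finrank_top, Module.finrank_pi] at h1
          rw [Module.finrank_pi]
          simpa using h1
      · obtain ⟨c, hc⟩ := habs.2 ((g : Matrix (Fin 3) (Fin 3) F) * M.map K.subtype *
            ((g⁻¹ : GL (Fin 3) F) : Matrix (Fin 3) (Fin 3) F)) (fun s hs => by
          obtain ⟨s', hs', rfl⟩ := mem_matrixSet.1 hs
          obtain ⟨n, hn, rfl⟩ := hback s' hs'
          have h1 : M.map K.subtype * ((glEmb K n : GL (Fin 3) F) : Matrix (Fin 3) (Fin 3) F) =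
              ((glEmb K n : GL (Fin 3) F) : Matrix (Fin 3) (Fin 3) F) * M.map K.subtype := by
            show M.map K.subtype * (n : Matrix (Fin 3) (Fin 3) K).map K.subtype = _
            rw [← Matrix.map_mul, hM _ (mem_matrixSet.2 ⟨n, hn, rfl⟩), Matrix.map_mul]
            rfl
          have hgg : ((g⁻¹ : GL (Fin 3) F) : Matrix (Fin 3) (Fin 3) F) * (g : Matrix (Fin 3) (Fin 3) F) = 1 := by
            rw [← Units.val_mul, inv_mul_cancel, Units.val_one]
          simp only [Units.val_mul, Matrix.mul_assoc]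
          rw [← Matrix.mul_assoc (((g⁻¹ : GL (Fin 3) F) : Matrix (Fin 3) (Fin 3) F)) (g : Matrix (Fin 3) (Fin 3) F),
            hgg, Matrix.one_mul, ← Matrix.mul_assoc (M.map K.subtype), h1, Matrix.mul_assoc,
            ← Matrix.mul_assoc (((g⁻¹ : GL (Fin 3) F) : Matrix (Fin 3) (Fin 3) F)) (g : Matrix (Fin 3) (Fin 3) F),
            hgg, Matrix.one_mul])
        have hm : M.map K.subtype = c • 1 := by
          calc M.map K.subtype = ((g⁻¹ : GL (Fin 3) F) : Matrix (Fin 3) (Fin 3) F) *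
                ((g : Matrix (Fin 3) (Fin 3) F) * M.map K.subtype *
                  ((g⁻¹ : GL (Fin 3) F) : Matrix (Fin 3) (Fin 3) F)) * (g : Matrix (Fin 3) (Fin 3) F) := by
                simp only [Matrix.mul_assoc, ← Units.val_mul, inv_mul_cancel, Units.val_one, Matrix.mul_one]
                rw [← Matrix.mul_assoc, ← Units.val_mul, inv_mul_cancel, Units.val_one, Matrix.one_mul]
            _ = c • 1 := by
                rw [hc, Matrix.mul_smul, Matrix.smul_mul, Matrix.mul_one, ← Units.val_mul, inv_mul_cancel,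
                  Units.val_one]
        refine ⟨M 0 0, Matrix.ext fun i j => Subtype.ext ?_⟩
        have e1 : ∀ a b, ((M a b : K) : F) = if a = b then c else 0 := fun a b => by
          have := congrFun (congrFun hm a) b
          simpa [Matrix.one_apply] using this
        rw [e1, Matrix.smul_apply, Matrix.one_apply]
        split_ifs <;> simp [e1]
    have hsim : ∀ {h : GL (Fin 3) K},
        (∀ x ∈ Cfsg.GU 3 K q ⊓ Cfsg.Geo.specialLinear (Fin 3) K,
          h * x * h⁻¹ ∈ Cfsg.GU 3 K q ⊓ Cfsg.Geo.specialLinear (Fin 3) K) →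
        ∃ c : Kˣ, ∀ u v, Cfsg.hermForm 3 K q ((h : Matrix (Fin 3) (Fin 3) K) *ᵥ u)
          ((h : Matrix (Fin 3) (Fin 3) K) *ᵥ v) = (c : K) * Cfsg.hermForm 3 K q u v := by
      intro h hh
      have hle := PrimeDim.Fields.le_similarityGroup (σ := Unitary.conj hFK)
        (f := Cfsg.hermForm 3 K q) (H := Subgroup.normalizer
          ((Cfsg.GU 3 K q ⊓ Cfsg.Geo.specialLinear (Fin 3) K : Subgroup (GL (Fin 3) K)) : Set (GL (Fin 3) K)))
        ⟨RingHom.injective _, fun x => ⟨Unitary.conj hFK x, Unitary.pow_q_q hFK x⟩⟩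
        ⟨fun x y v => Unitary.herm_add_left x y v, fun c x v => Unitary.herm_smul_left x v c,
          fun v x y => Unitary.herm_add_right v x y hFK, fun c v x => Unitary.herm_smul_right v x c⟩
        (fun v hv => ⟨by
          by_contra hc
          push Not at hc
          exact hv (Unitary.herm_nondeg_right hFK hc), by
          by_contra hc
          push Not at hc
          exact hv (Unitary.herm_nondeg_left hFK hc)⟩)
        (fun x hx n hn => (Subgroup.mem_normalizer_iff.1 hx n).1 hn) habsK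
        (fun s hs u v => by
          obtain ⟨x, hx, rfl⟩ := mem_matrixSet.1 hs
          exact hx.1 u v)
      refine hle (Subgroup.mem_normalizer_iff.2 fun x => ⟨hh x, fun hx => ?_⟩)
      -- a finite subgroup stable under conjugation by `h` is normalised by it
      have hmap : (Cfsg.GU 3 K q ⊓ Cfsg.Geo.specialLinear (Fin 3) K).map (MulAut.conj h).toMonoidHom =
          Cfsg.GU 3 K q ⊓ Cfsg.Geo.specialLinear (Fin 3) K := by
        refine Subgroup.eq_of_le_of_card_ge ?_ (le_of_eq ?_)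
        · rintro _ ⟨z, hz, rfl⟩; exact hh z hz
        · exact (Subgroup.card_map_of_injective (MulAut.conj h).injective).symm
      obtain ⟨z, hz, e⟩ := hmap.symm ▸ hx
      have : z = x := (MulAut.conj h).injective e
      exact this ▸ hz
    have hq1 : 1 ≤ q := Nat.one_le_iff_ne_zero.2 (Unitary.q_ne_zero hFK)
    refine ⟨core_eq hg', ⟨by omega, fun y hy => ?_, fun h hh => ?_, fun t h hh e => ?_, fun a ha => ?_,
      hdet, fun h hh hd => inner_mem hg' hh hd⟩⟩
    · obtain ⟨t, h, e, hn⟩ := subfield_split hirr h2 hT hg' hy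
      obtain ⟨c, hc⟩ := hsim hn
      have h1 : Cfsg.hermForm 3 K q (Pi.single 0 1) (Pi.single 0 1) = 1 := by
        rw [Unitary.herm_std hFK]; simp
      have hfix : (c : K) ^ q = c := by
        have := Unitary.herm_self_fixed ((h : Matrix (Fin 3) (Fin 3) K) *ᵥ Pi.single 0 1) hFK
        rwa [hc, h1, mul_one] at this
      obtain ⟨a, ha⟩ := Unitary.norm_surj hFK hfix
      have ha0 : a ≠ 0 := by
        rintro rfl
        exact c.ne_zero (by rw [← ha, zero_mul])
      obtain ⟨s, hs⟩ : ∃ s : Kˣ, (s : K) = a := ⟨Units.mk0 a ha0, rfl⟩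
      refine ⟨t * Units.map K.subtype.toMonoidHom s,
        Units.map (Matrix.scalar (Fin 3) : K →+* Matrix (Fin 3) (Fin 3) K).toMonoidHom s⁻¹ * h, ?_, ?_⟩
      · intro u v
        have hM : ∀ u, ((Units.map (Matrix.scalar (Fin 3) : K →+* Matrix (Fin 3) (Fin 3) K).toMonoidHom s⁻¹ * h :
            GL (Fin 3) K) : Matrix (Fin 3) (Fin 3) K) *ᵥ u = a⁻¹ • ((h : Matrix (Fin 3) (Fin 3) K) *ᵥ u) := by
          intro u
          rw [Units.val_mul, ← Matrix.mulVec_mulVec]
          show (Matrix.scalar (Fin 3) ((s⁻¹ : Kˣ) : K)) *ᵥ _ = _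
          funext i
          simp [Matrix.mulVec_diagonal, hs]
        show Cfsg.hermForm 3 K q (_ *ᵥ u) (_ *ᵥ v) = _
        simp only [Units.coeHom_apply]
        rw [hM, hM, Unitary.herm_smul_left, Unitary.herm_smul_right, hc, ← ha, inv_pow]
        field_simp
      · rw [e, map_mul, scal_glEmb, ← mul_assoc]
        congr 1
        rw [scal, scal, scal, ← map_mul]
        congr 1
        rw [map_inv, mul_inv_cancel_right]
    · have := Unitary.det_norm_one hFK ⟨h, hh⟩
      rw [pow_succ']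
      exact this
    · have e0 := scal_entry e
      have h1 := hh (Pi.single 0 1) (Pi.single 0 1)
      simp only [Units.coeHom_apply] at h1
      have hcol : (h : Matrix (Fin 3) (Fin 3) K) *ᵥ Pi.single 0 1 =
          (h : Matrix (Fin 3) (Fin 3) K) 0 0 • (Pi.single 0 1 : Fin 3 → K) := by
        funext i
        rw [Matrix.mulVec_single_one, Matrix.col_apply]
        rcases eq_or_ne i 0 with rfl | hi
        · simp
        · have : (h : Matrix (Fin 3) (Fin 3) K) i 0 = 0 := Subtype.ext (by rw [e0, if_neg hi]; rfl)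
          simp [this, hi]
      rw [hcol, Unitary.herm_smul_left, Unitary.herm_smul_right, Unitary.herm_std hFK, if_pos rfl, mul_one] at h1
      have h3 : (((h : Matrix (Fin 3) (Fin 3) K) 0 0 : K) : F) *
          (((h : Matrix (Fin 3) (Fin 3) K) 0 0 : K) : F) ^ q = 1 := by
        exact_mod_cast congrArg Subtype.val h1
      rw [e0, if_pos rfl] at h3
      rw [pow_succ']
      exact h3
    · have ha0 : a ≠ 0 := by
        rintro rfl
        rw [zero_pow (by omega)] at ha
        exact zero_ne_one ha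
      have haK : a ∈ K := mem_of_pow_card K (by
        rw [hcard, show q ^ 2 = (q + 1) * (q - 1) + 1 by
          obtain ⟨m, rfl⟩ : ∃ m, q = m + 1 := ⟨q - 1, by omega⟩
          simp; ring, pow_succ, pow_mul, ha, one_pow, one_mul])
      refine ⟨Units.mk0 ⟨a, haK⟩ (fun e => ha0 (congrArg Subtype.val e)), rfl, fun u v => ?_⟩
      have hau : (⟨a, haK⟩ : K) * (⟨a, haK⟩ : K) ^ q = 1 := Subtype.ext (by
        push_cast; rw [← pow_succ', ha])
      show Cfsg.hermForm 3 K q (_ *ᵥ u) (_ *ᵥ v) = _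
      simp only [Units.coeHom_apply]
      have hM : ∀ u : Fin 3 → K, (Matrix.scalar (Fin 3) (⟨a, haK⟩ : K)) *ᵥ u = (⟨a, haK⟩ : K) • u := fun u => by
        funext i; simp [Matrix.mulVec_diagonal]
      show Cfsg.hermForm 3 K q ((Matrix.scalar (Fin 3) (⟨a, haK⟩ : K)) *ᵥ u)
        ((Matrix.scalar (Fin 3) (⟨a, haK⟩ : K)) *ᵥ v) = _
      rw [hM, hM, Unitary.herm_smul_left, Unitary.herm_smul_right]
      rw [← mul_assoc, hau, one_mul]

end Cfsg.Agent.Lib.TransvThree
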