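import Cfsg.Agent.Lib.TransvThree.Basic
import Cfsg.Agent.Lib.DicksonId.TransvectionsExc

/-!
A linked pair of transvections generates `SL 2` over the prime field extended by the product
parameter, apart from the icosahedral case in characteristic three.
-/

set_option autoImplicit false
set_option linter.unusedSectionVars false

namespace Cfsg.Agent.Lib.TransvThree

open Matrix
open Cfsg.Agent.Lib.Subspaces.Transvection Cfsg.Agent.Lib.PrimeDim.Basic
open Cfsg.Agent.Lib.DicksonId Cfsg.Agent.Lib.Linear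

/-- The product parameter is exceptional. -/
def Exc {F : Type*} [Field F] (lam : F) : Prop := (3 : F) = 0 ∧ lam ^ 2 = -1

section Generation

variable {K : Type*} [Field K] [Fintype K]

local notation "SL2" => Matrix.SpecialLinearGroup (Fin 2) K
local notation "M2" => Matrix (Fin 2) (Fin 2) K
local notation "PSL2" => Matrix.ProjectiveSpecialLinearGroup (Fin 2) K

theorem closure_pair_eq_top (h2 : (2 : K) ≠ 0) {lam : K} (hlam : lam ≠ 0)
    (hgen : Subfield.closure ({lam} : Set K) = ⊤) (hexc : ¬ Exc lam) :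
    Subgroup.closure ({trLow, trUp lam} : Set SL2) = ⊤ := by
  classical
  obtain ⟨p, hp, m, hprime, -⟩ := FiniteField.card' K
  haveI := Fact.mk hprime
  have hp2 : p ≠ 2 := by
    rintro rfl
    exact h2 (by simpa using CharP.cast_eq_zero K 2)
  have htop : trGen lam = ⊤ := by
    rcases trGen_cases hp2 hlam hgen with h | ⟨rfl, he⟩
    · exact h
    · exact absurd ⟨three_eq_zero, (exc_of_alt_five hlam hgen he).2⟩ hexc
  let w : SL2 := ⟨!![0, 1; -1, 0], by simp [Matrix.det_fin_two_of]⟩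
  have hw : Matrix.trace (w : M2) = 0 := by simp [w, Matrix.trace_fin_two]
  have hord2 : orderOf ((w : SL2) : PSL2) = 2 := by
    haveI := Fact.mk Nat.prime_two
    refine orderOf_eq_prime (DicksonFull.mk_pow_two hw) (DicksonFull.ne_one_of_trace ?_)
    rw [hw]
    intro h
    exact h2 (pow_eq_zero_iff two_ne_zero |>.1 (by linear_combination -h))
  have hmap : (Subgroup.closure ({trLow, trUp lam} : Set SL2)).map
      (QuotientGroup.mk' (Subgroup.center SL2)) = ⊤ := (map_closure_tr lam).trans htop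
  rw [eq_pre_of_map h2 (G := Subgroup.closure ({trLow, trUp lam} : Set SL2))
    (by
      rw [hmap]
      exact hord2.symm.dvd.trans
        (Subgroup.orderOf_dvd_natCard (⊤ : Subgroup PSL2) (Subgroup.mem_top _))), hmap]
  ext; simp [pre]

end Generation

variable {F : Type*} [Field F] [Fintype F]

local notation "Vec" => Fin 3 → F
local notation "GL3" => GL (Fin 3) F

variable {P : Subgroup (GL (Fin 3) F)} {v w φ ψ : Fin 3 → F}

/-- The embedding of `SL 2` over a subfield. -/
def slEmb (L : Subfield F) :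
    Matrix.SpecialLinearGroup (Fin 2) L →* Matrix.SpecialLinearGroup (Fin 2) F :=
  Matrix.SpecialLinearGroup.map L.subtype

theorem coe_slEmb (L : Subfield F) (m : Matrix.SpecialLinearGroup (Fin 2) L) :
    ((slEmb L m : Matrix.SpecialLinearGroup (Fin 2) F) : Matrix (Fin 2) (Fin 2) F) =
      (m : Matrix (Fin 2) (Fin 2) L).map L.subtype := rfl

/-- A linked pair which is not exceptional: scalars and a Weyl element. -/
theorem pair_full (h2 : (2 : F) ≠ 0) (hv : Tv P v φ) (hw : Tv P w ψ) (hl : Linked v φ w ψ)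
    (hexc : ¬ Exc ((φ ⬝ᵥ w) * (ψ ⬝ᵥ v))) :
    (∀ c ∈ Subfield.closure ({(φ ⬝ᵥ w) * (ψ ⬝ᵥ v)} : Set F), Tv P v (c • φ)) ∧
      ∃ g ∈ P, (g : Matrix (Fin 3) (Fin 3) F) *ᵥ v = (-(ψ ⬝ᵥ v)) • w := by
  classical
  obtain ⟨lam, hlam⟩ : ∃ lam, lam = (φ ⬝ᵥ w) * (ψ ⬝ᵥ v) := ⟨_, rfl⟩
  rw [← hlam] at hexc ⊢
  have hlam0 : lam ≠ 0 := hlam ▸ mul_ne_zero hl.1 hl.2
  let L : Subfield F := Subfield.closure {lam}
  haveI : Fintype L := Fintype.ofFinite _
  let l₁ : L := ⟨lam, Subfield.subset_closure rfl⟩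
  have hl₁ : l₁ ≠ 0 := fun h => hlam0 (congrArg Subtype.val h)
  have hgen : Subfield.closure ({l₁} : Set L) = ⊤ := by
    refine top_unique fun x _ => ?_
    have h : L ≤ (Subfield.closure ({l₁} : Set L)).map L.subtype :=
      Subfield.closure_le.2 (by rintro _ rfl; exact ⟨l₁, Subfield.subset_closure rfl, rfl⟩)
    obtain ⟨z, hz, hzx⟩ := h x.2
    exact (Subtype.ext hzx : z = x) ▸ hz
  have hexc1 : ¬ Exc l₁ := fun ⟨a, b⟩ => hexc ⟨by
    have := congrArg L.subtype a
    rwa [map_ofNat, map_zero] at this, by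
    have := congrArg Subtype.val b
    simpa [l₁] using this⟩
  have h21 : (2 : L) ≠ 0 := fun h => h2 (by
    have := congrArg L.subtype h
    rwa [map_ofNat, map_zero] at this)
  have hfr := frame2_of_linked hv hw hl
  let D : Matrix.SpecialLinearGroup (Fin 2) L →* GL3 := (planeHom hfr).comp (slEmb L)
  have hup : ∀ c : L, D (trUp c) = tv v (((c : F) * lam⁻¹) • φ) := fun c => by
    have e := planeHom_upper hfr (c : F) (slEmb L (trUp c)) (by
      rw [coe_slEmb]; ext i j; fin_cases i <;> fin_cases j <;> simp [trUp])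
    show planeHom hfr (slEmb L (trUp c)) = _
    rw [e, tv_smul (by rw [smul_dotProduct, smul_dotProduct, hv.1, smul_zero, smul_zero]),
      smul_smul, smul_smul, hlam, mul_inv]
    congr 2
    ring
  have hlow : D trLow = tv w ψ := by
    have e := planeHom_lower hfr 1 (slEmb L trLow) (by
      rw [coe_slEmb]; ext i j; fin_cases i <;> fin_cases j <;> simp [trLow])
    show planeHom hfr (slEmb L trLow) = _
    rw [e, one_smul]
  have hle : Subgroup.closure ({trLow, trUp l₁} : Set (Matrix.SpecialLinearGroup (Fin 2) L)) ≤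
      P.comap D := by
    rw [Subgroup.closure_le]
    rintro _ (rfl | rfl)
    · show D trLow ∈ P
      rw [hlow]; exact hw.2
    · show D (trUp l₁) ∈ P
      rw [hup, show (l₁ : F) = lam from rfl, mul_inv_cancel₀ hlam0, one_smul]
      exact hv.2
  rw [closure_pair_eq_top h21 hl₁ hgen hexc1] at hle
  obtain ⟨W0, hW0⟩ : ∃ W0 : Matrix.SpecialLinearGroup (Fin 2) L,
      (W0 : Matrix (Fin 2) (Fin 2) L) = !![0, 1; -1, 0] :=
    ⟨⟨!![0, 1; -1, 0], by simp [Matrix.det_fin_two_of]⟩, rfl⟩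
  refine ⟨fun c hc => ⟨by rw [smul_dotProduct, hv.1, smul_zero], ?_⟩,
    D W0, hle (Subgroup.mem_top _), ?_⟩
  · have h := hle (Subgroup.mem_top (trUp (⟨c, hc⟩ * l₁)))
    rw [Subgroup.mem_comap, hup] at h
    rwa [show ((⟨c, hc⟩ * l₁ : L) : F) = c * lam from rfl, mul_assoc, mul_inv_cancel₀ hlam0,
      mul_one] at h
  · show ((planeHom hfr (slEmb L W0) : GL3) : Matrix (Fin 3) (Fin 3) F) *ᵥ v = _
    rw [coe_planeHom, planeMat_mulVec, coe_slEmb, hW0]
    simp only [smul_dotProduct, hv.1, smul_zero, smul_smul]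
    simp [mul_inv_cancel₀ hl.2, neg_smul]

theorem pair_smul_mem (h2 : (2 : F) ≠ 0) (hv : Tv P v φ) (hw : Tv P w ψ) (hl : Linked v φ w ψ)
    (hexc : ¬ Exc ((φ ⬝ᵥ w) * (ψ ⬝ᵥ v))) :
    Tv P v (((φ ⬝ᵥ w) * (ψ ⬝ᵥ v)) • φ) :=
  (pair_full h2 hv hw hl hexc).1 _ (Subfield.subset_closure rfl)

end Cfsg.Agent.Lib.TransvThree
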