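import Cfsg.Agent.Lib.TransvThree.Normaliser
import Cfsg.Agent.Lib.Linear.FamilyHom
import Cfsg.Agent.Lib.LatticeUnitary.Transport

/-!
Mitchell's theorem, transvection case, in `PSL 3 (F)`: a subgroup whose preimage is irreducible and
contains a transvection is `PSL 3`, `PSU 3` over a subfield, or an extension of index three of one.
-/

set_option autoImplicit false
set_option linter.unusedSectionVars false
set_option linter.style.haveILetI false

namespace Cfsg.Agent.Lib.TransvThree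

open Matrix
open Cfsg.Agent.Lib.Subspaces.Transvection Cfsg.Agent.Lib.PrimeDim.Basic

variable {F : Type*} [Field F]

/-- The preimage in `GL 3` of a subgroup of `PSL 3`. -/
def preimage (H : Subgroup (Matrix.ProjectiveSpecialLinearGroup (Fin 3) F)) : Subgroup (GL (Fin 3) F) :=
  (H.comap (QuotientGroup.mk' _)).map Matrix.SpecialLinearGroup.toGL

theorem preimage_det {H : Subgroup (Matrix.ProjectiveSpecialLinearGroup (Fin 3) F)} {y : GL (Fin 3) F}
    (hy : y ∈ preimage H) : (y : Matrix (Fin 3) (Fin 3) F).det = 1 := by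
  obtain ⟨s, -, rfl⟩ := hy
  exact s.2

theorem hasTv_of_tv_ne_one {P : Subgroup (GL (Fin 3) F)}
    (h : ¬ ∀ v φ : Fin 3 → F, φ ⬝ᵥ v = 0 → tv v φ ∈ P → tv v φ = 1) : HasTv P := by
  push Not at h
  obtain ⟨v, φ, h0, hmem, hne⟩ := h
  refine ⟨v, φ, fun e => ?_, fun e => ?_, h0, hmem⟩
  · exact hne (Units.ext (by rw [coe_tv h0, e, zero_vecMulVec, add_zero, Units.val_one]))
  · exact hne (by rw [e, tv_zero_right])

variable {H : Subgroup (Matrix.ProjectiveSpecialLinearGroup (Fin 3) F)}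

/-- An element of the preimage as a matrix of determinant one. -/
def slOf (H : Subgroup (Matrix.ProjectiveSpecialLinearGroup (Fin 3) F)) :
    preimage H →* Matrix.SpecialLinearGroup (Fin 3) F :=
  MonoidHom.mk' (fun y => ⟨(y : GL (Fin 3) F), preimage_det y.2⟩) (fun _ _ => Subtype.ext rfl)

theorem toGL_slOf (y : preimage H) : Matrix.SpecialLinearGroup.toGL (slOf H y) = y := Units.ext rfl

theorem slOf_mem (y : preimage H) : QuotientGroup.mk' _ (slOf H y) ∈ H := by
  obtain ⟨s, hs, e⟩ := y.2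
  rw [← Matrix.SpecialLinearGroup.toGL_injective (e.trans (toGL_slOf y).symm)]
  exact hs

/-- The projection of the preimage onto `H`. -/
def proj (H : Subgroup (Matrix.ProjectiveSpecialLinearGroup (Fin 3) F)) : preimage H →* H :=
  ((QuotientGroup.mk' _).comp (slOf H)).codRestrict H slOf_mem

theorem proj_surjective : Function.Surjective (proj H) := fun x => by
  obtain ⟨s, hs⟩ := QuotientGroup.mk'_surjective _ (x : Matrix.ProjectiveSpecialLinearGroup (Fin 3) F)
  refine ⟨⟨Matrix.SpecialLinearGroup.toGL s, s, ?_, rfl⟩, Subtype.ext ?_⟩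
  swap
  · exact hs
  show QuotientGroup.mk' _ s ∈ H
  rw [hs]; exact x.2

theorem proj_eq_one {y : preimage H} :
    proj H y = 1 ↔ ∃ z : Fˣ, (y : GL (Fin 3) F) = scal z := by
  rw [Subtype.ext_iff]
  refine (QuotientGroup.eq_one_iff (slOf H y)).trans ?_
  rw [Matrix.SpecialLinearGroup.mem_center_iff]
  constructor
  · rintro ⟨r, hr, e⟩
    have hr0 : r ≠ 0 := by
      rintro rfl
      simp at hr
    exact ⟨Units.mk0 r hr0, Units.ext (by rw [coe_scal, Units.val_mk0, smul_one_eq_diagonal]; exact e.symm)⟩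
  · rintro ⟨z, e⟩
    refine ⟨z, ?_, ?_⟩
    · rw [Fintype.card_fin, ← det_scal, ← e, preimage_det y.2]
    · show Matrix.scalar (Fin 3) (z : F) = ((y : GL (Fin 3) F) : Matrix (Fin 3) (Fin 3) F)
      rw [e]
      rfl

variable [Fintype F]

/-- The image of the core in `H`, up to isomorphism, and its index. -/
theorem quot_cases (hirr : Irred (preimage H)) (h2 : (2 : F) ≠ 0) (hT : HasTv (preimage H))
    {g : GL (Fin 3) F} {K : Subfield F} {G0 : Subgroup (GL (Fin 3) K)} {k : ℕ}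
    (hcore : core g K G0 = tvGroup (preimage H)) (hD : Decomp (preimage H) g K G0 k)
    {S : Type*} [Group S] (j : S →* GL (Fin 3) K) (hj : Function.Injective j)
    (hr : j.range = G0 ⊓ Cfsg.Geo.specialLinear (Fin 3) K) :
    Nonempty (H ≃* S ⧸ Subgroup.center S) ∨
      (3 ∣ k ∧ (∃ (t : Fˣ) (ω : F), ω ≠ 1 ∧ ω ^ 3 = 1 ∧ (t : F) ^ k = ω) ∧
        ∃ L : Subgroup H, L.index = 3 ∧ Nonempty (L ≃* S ⧸ Subgroup.center S)) := by
  classical
  let em : S →* GL (Fin 3) F := ((MulAut.conj g).toMonoidHom.comp (glEmb K)).comp j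
  have hem : Function.Injective em :=
    ((MulAut.conj g).injective.comp (glEmb_injective K)).comp hj
  have hemr : em.range = core g K G0 := by
    rw [MonoidHom.range_comp, hr, core]
  have hmem : ∀ s, em s ∈ preimage H := fun s => hD.core_le (hemr ▸ ⟨s, rfl⟩)
  let φ : S →* H := (proj H).comp (em.codRestrict (preimage H) hmem)
  have hker : φ.ker = Subgroup.center S := by
    ext s
    rw [MonoidHom.mem_ker]
    show proj H ⟨em s, hmem s⟩ = 1 ↔ _
    rw [proj_eq_one]
    constructor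
    · rintro ⟨z, e⟩
      rw [Subgroup.mem_center_iff]
      intro x
      refine hem ?_
      rw [map_mul, map_mul, show em s = scal z from e, scal_comm]
    · intro hs
      obtain ⟨c, hc⟩ := (tvGroup_absIrred hirr h2 hT).2 (em s : Matrix (Fin 3) (Fin 3) F) (fun m hm => by
        obtain ⟨x, hx, rfl⟩ := mem_matrixSet.1 hm
        rw [← hcore, ← hemr] at hx
        obtain ⟨u, rfl⟩ := hx
        rw [← Units.val_mul, ← Units.val_mul, ← map_mul, ← map_mul, Subgroup.mem_center_iff.1 hs u])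
      have hc0 : c ≠ 0 := by
        rintro rfl
        rw [zero_smul] at hc
        exact (em s).isUnit.ne_zero hc
      exact ⟨Units.mk0 c hc0, Units.ext (by rw [coe_scal, Units.val_mk0]; exact hc)⟩
  obtain ⟨e⟩ : Nonempty (φ.range ≃* S ⧸ Subgroup.center S) :=
    ⟨(QuotientGroup.quotientKerEquivRange φ).symm.trans (QuotientGroup.quotientMulEquivOfEq hker)⟩
  have htop : (∀ y ∈ preimage H, ∃ (z : Fˣ) (c : GL (Fin 3) F), c ∈ core g K G0 ∧ y = scal z * c) →
      φ.range = ⊤ := fun hsplit => by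
    refine eq_top_iff.2 fun x _ => ?_
    obtain ⟨y, rfl⟩ := proj_surjective x
    obtain ⟨z, c, hc, e⟩ := hsplit y y.2
    obtain ⟨s, hs⟩ := (hemr.symm ▸ hc : c ∈ em.range)
    refine ⟨s, ?_⟩
    show proj H ⟨em s, hmem s⟩ = proj H y
    have hzmem : scal z ∈ preimage H := by
      have := (preimage H).mul_mem y.2 ((preimage H).inv_mem (hD.core_le hc))
      rwa [e, mul_inv_cancel_right] at this
    have hy : y = (⟨scal z, hzmem⟩ : preimage H) * ⟨em s, hmem s⟩ := Subtype.ext (by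
      show (y : GL (Fin 3) F) = scal z * em s
      rw [hs]; exact e)
    have h1 : proj H ⟨scal z, hzmem⟩ = 1 := proj_eq_one.2 ⟨z, rfl⟩
    rw [hy, map_mul, h1, one_mul]
  by_cases h3 : 3 ∣ k
  · rcases hD.index_cases h3 with h | ⟨hidx, hω⟩
    · left
      have := htop fun y hy => ⟨1, y, h ▸ hy, by rw [show scal (1 : Fˣ) = (1 : GL (Fin 3) F) from map_one _, one_mul]⟩
      exact ⟨(Subgroup.topEquiv.symm.trans (MulEquiv.subgroupCongr this.symm)).trans e⟩
    · refine Or.inr ⟨h3, hω, φ.range, ?_, ⟨e⟩⟩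
      have hcomap : φ.range.comap (proj H) = (core g K G0).subgroupOf (preimage H) := by
        ext y
        rw [Subgroup.mem_comap, Subgroup.mem_subgroupOf]
        constructor
        · rintro ⟨s, hs⟩
          have hc : em s ∈ core g K G0 := hemr ▸ ⟨s, rfl⟩
          obtain ⟨z, hz⟩ := proj_eq_one.1 (show proj H ((⟨em s, hmem s⟩ : preimage H)⁻¹ * y) = 1 by
            rw [map_mul, map_inv, ← hs]; exact inv_mul_cancel _)
          rw [Subgroup.coe_mul, Subgroup.coe_inv] at hz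
          have hy : (y : GL (Fin 3) F) = em s * scal z := by rw [← hz, mul_inv_cancel_left]
          have h1 : (z : F) ^ 3 = 1 := by
            have := preimage_det y.2
            rw [hy, Units.val_mul, Matrix.det_mul, det_scal, preimage_det (hmem s), one_mul] at this
            exact this
          rw [hy]
          exact mul_mem hc (hD.core_scal h3 h1)
        · intro hc
          obtain ⟨s, hs⟩ := (hemr.symm ▸ hc : (y : GL (Fin 3) F) ∈ em.range)
          exact ⟨s, congrArg (proj H) (Subtype.ext hs : (⟨em s, hmem s⟩ : preimage H) = y)⟩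
      rw [← Subgroup.index_comap_of_surjective φ.range (f := proj H) proj_surjective, hcomap]
      exact hidx
  · left
    have := htop fun y hy => hD.split_of_coprime h3 hy
    exact ⟨(Subgroup.topEquiv.symm.trans (MulEquiv.subgroupCongr this.symm)).trans e⟩

/-- A field of prescribed cardinality in `Type`. -/
theorem exists_small_field {p β : ℕ} [Fact p.Prime] (hβ : β ≠ 0) (L : Type*) [Field L] [Finite L]
    (hL : Nat.card L = p ^ β) :
    ∃ (K : Type) (_ : Field K) (_ : Fintype K), Fintype.card K = p ^ β ∧ Nonempty (L ≃+* K) := by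
  classical
  letI : Fintype L := Fintype.ofFinite L
  letI : Fintype (GaloisField p β) := Fintype.ofFinite _
  refine ⟨GaloisField p β, inferInstance, inferInstance, ?_, ⟨?_⟩⟩
  · rw [← Nat.card_eq_fintype_card, GaloisField.card p β hβ]
  · exact FiniteField.ringEquivOfCardEq (by
      rw [← Nat.card_eq_fintype_card, ← Nat.card_eq_fintype_card, hL, GaloisField.card p β hβ])

theorem card_subfield {p α : ℕ} [Fact p.Prime] (hF : Fintype.card F = p ^ α) (K : Subfield F) :
    ∃ β m : ℕ, β ≠ 0 ∧ Nat.card K = p ^ β ∧ Fintype.card F = Nat.card K ^ m ∧ β * m = α := by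
  classical
  letI : Fintype K := Fintype.ofFinite _
  have h := Module.card_eq_pow_finrank (K := K) (V := F)
  obtain ⟨β, -, hβ⟩ := (Nat.dvd_prime_pow (Fact.out : p.Prime)).1
    (hF ▸ h ▸ dvd_pow_self (Fintype.card K) (Module.finrank_pos (R := K) (M := F)).ne')
  rw [← Nat.card_eq_fintype_card (α := K)] at h hβ
  refine ⟨β, Module.finrank K F, fun h0 => ?_, hβ, h, ?_⟩
  · have := Finite.one_lt_card (α := K)
    rw [hβ, h0, pow_zero] at this
    exact lt_irrefl 1 this
  · rw [hF, hβ, ← pow_mul] at h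
    exact (Nat.pow_right_injective (Fact.out : p.Prime).two_le h).symm

/-- The four transvection cases of Mitchell's list. -/
theorem four_cases (p α : ℕ) [Fact p.Prime] (hp : p ≠ 2) (hF : Fintype.card F = p ^ α)
    (hirr : Irred (preimage H)) (hT : HasTv (preimage H)) :
    (∃ (K : Type) (_ : Field K) (_ : Fintype K) (β : ℕ), Fintype.card K = p ^ β ∧ β ∣ α ∧
      Nonempty (↥H ≃* Matrix.ProjectiveSpecialLinearGroup (Fin 3) K)) ∨
    (∃ (K : Type) (_ : Field K) (_ : Fintype K) (β : ℕ), Fintype.card K = p ^ (2 * β) ∧ 2 * β ∣ α ∧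
      Nonempty (↥H ≃* Cfsg.PSU 3 K (p ^ β))) ∨
    (∃ (K : Type) (_ : Field K) (_ : Fintype K) (β : ℕ), Fintype.card K = p ^ β ∧ 3 ∣ p ^ β - 1 ∧
      3 * β ∣ α ∧ ∃ L : Subgroup ↥H, L.index = 3 ∧
        Nonempty (↥L ≃* Matrix.ProjectiveSpecialLinearGroup (Fin 3) K)) ∨
    (∃ (K : Type) (_ : Field K) (_ : Fintype K) (β : ℕ), Fintype.card K = p ^ (2 * β) ∧ 3 ∣ p ^ β + 1 ∧
      6 * β ∣ α ∧ ∃ L : Subgroup ↥H, L.index = 3 ∧ Nonempty (↥L ≃* Cfsg.PSU 3 K (p ^ β))) := by
  classical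
  have hα : α ≠ 0 := by
    rintro rfl
    have := Fintype.one_lt_card (α := F)
    rw [hF, pow_zero] at this
    exact lt_irrefl 1 this
  haveI : CharP F p := charP_of_card_eq_prime_pow hF
  have h2 : (2 : F) ≠ 0 := fun e => by
    have h := (CharP.cast_eq_zero_iff F p 2).1 (by exact_mod_cast e)
    exact hp (((Nat.prime_dvd_prime_iff_eq Fact.out Nat.prime_two).1 h))
  obtain ⟨g, ⟨hcore, hD⟩ | ⟨K, q, hK, hq, -, hcore, hD⟩⟩ :=
    exists_decomposition hirr h2 hT (fun y hy => preimage_det hy)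
  · obtain ⟨β, m, hβ, hE, hFE, hβm⟩ := card_subfield hF (rootField (preimage H))
    obtain ⟨K', iK, iK', hK', ⟨φ⟩⟩ := exists_small_field hβ _ hE
    obtain ⟨ec⟩ := Cfsg.Agent.Lib.Linear.nonempty_pslCongr (ι := Fin 3) φ
    rcases quot_cases hirr h2 hT hcore hD Matrix.SpecialLinearGroup.toGL
      Matrix.SpecialLinearGroup.toGL_injective (by
        rw [top_inf_eq]
        ext x
        exact ⟨fun ⟨s, e⟩ => e ▸ (mem_specialLinear_iff _).2 s.2,
          fun hx => ⟨⟨x, (mem_specialLinear_iff x).1 hx⟩, Units.ext rfl⟩⟩) with ⟨⟨e⟩⟩ | ⟨h3, ⟨t, ω, hω, hω3, ht⟩, L, hL, ⟨e⟩⟩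
    · exact Or.inl ⟨K', iK, iK', β, hK', ⟨m, hβm.symm⟩, ⟨e.trans ec⟩⟩
    · refine Or.inr (Or.inr (Or.inl ⟨K', iK, iK', β, hK', hE ▸ h3, ?_, L, hL, ⟨e.trans ec⟩⟩))
      have h1 : 1 ≤ p ^ β := Nat.one_le_pow _ _ (Fact.out : p.Prime).pos
      rw [hE] at h3 ht hFE
      have hωk : ω ^ (p ^ β - 1) = 1 := by
        obtain ⟨c, hc⟩ := h3
        rw [hc, pow_mul, hω3, one_pow]
      obtain ⟨c, rfl⟩ : 3 ∣ m := three_dvd_exp hFE (t := (t : F)) t.ne_zero hω hω3
        (by rw [show p ^ β = (p ^ β - 1) + 1 by omega, pow_succ, hωk, one_mul])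
        (by rw [show p ^ β = (p ^ β - 1) + 1 by omega, pow_succ, ht])
      exact ⟨c, by rw [← hβm]; ring⟩
  · obtain ⟨β, m, hβ, hE, hFE, hβm⟩ := card_subfield hF (rootField (preimage H))
    obtain ⟨γ, n, hγ, hKγ, hFK, hγn⟩ := card_subfield hF K
    rw [hE] at hq
    subst hq
    have hγ2 : γ = 2 * β := by
      rw [hKγ, ← pow_mul, mul_comm β] at hK
      exact Nat.pow_right_injective (Fact.out : p.Prime).two_le hK
    subst hγ2
    obtain ⟨K', iK, iK', hK', ⟨φ⟩⟩ := exists_small_field hγ _ hKγ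
    obtain ⟨ec⟩ := Cfsg.Agent.Lib.LatticeUnitary.exists_psu_congr φ 3 (p ^ β)
    rcases quot_cases hirr h2 hT hcore hD
      (Matrix.SpecialLinearGroup.toGL.comp (Cfsg.SU 3 K (p ^ β)).subtype)
      (Matrix.SpecialLinearGroup.toGL_injective.comp Subtype.val_injective) (by
        ext x
        constructor
        · rintro ⟨s, rfl⟩
          exact ⟨s.2, (mem_specialLinear_iff _).2 s.1.2⟩
        · rintro ⟨hx, hx'⟩
          exact ⟨⟨⟨x, (mem_specialLinear_iff x).1 hx'⟩, hx⟩, Units.ext rfl⟩)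
      with ⟨⟨e⟩⟩ | ⟨h3, ⟨t, ω, hω, hω3, ht⟩, L, hL, ⟨e⟩⟩
    · exact Or.inr (Or.inl ⟨K', iK, iK', β, hK', ⟨n, hγn.symm⟩, ⟨e.trans ec⟩⟩)
    · refine Or.inr (Or.inr (Or.inr ⟨K', iK, iK', β, hK', h3, ?_, L, hL, ⟨e.trans ec⟩⟩))
      obtain ⟨c, hc⟩ := h3
      have hc0 : c ≠ 0 := by rintro rfl; omega
      obtain ⟨d, rfl⟩ : ∃ d, c = d + 1 := ⟨c - 1, by omega⟩
      rw [hKγ, show p ^ (2 * β) = (p ^ β + 1) * (3 * d + 1) + 1 by
        rw [mul_comm 2 β, pow_mul, show p ^ β = 3 * d + 2 by omega]; ring] at hFK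
      obtain ⟨c', rfl⟩ : 3 ∣ n := three_dvd_exp hFK (t := (t : F)) t.ne_zero hω hω3
        (by rw [hc, pow_succ, mul_assoc, pow_mul, hω3, one_pow, one_mul])
        (by rw [pow_succ, pow_mul, ht, pow_succ, pow_mul, hω3, one_pow, one_mul])
      exact ⟨c', by rw [← hγn]; ring⟩

end Cfsg.Agent.Lib.TransvThree
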