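import Mathlib
import Cfsg.Agent.Lib.Unitary.Generation
import Cfsg.Agent.Lib.Unitary.Simple

/-!
A set of isotropic points of a three dimensional unitary space closed under secants, containing a
triangle, is everything: three full root groups in general position generate `SU 3`.
-/

set_option autoImplicit false
set_option linter.unusedSectionVars false

namespace Cfsg.Agent.Lib.TransvThree

open Matrix Module
open Cfsg Cfsg.Agent.Lib.Unitary

variable {K : Type*} [Field K] [Fintype K] {q : ℕ}

/-- All unitary transvections with centre `z` lie in `M`. -/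
def FullRoot (M : Subgroup (GU 3 K q)) (z : Fin 3 → K) : Prop :=
  ∀ (c : K) (A : GU 3 K q), c + c ^ q = 0 → IsTvAt z c A → A ∈ M

variable {M : Subgroup (GU 3 K q)}

theorem FullRoot.smul (hF : Fintype.card K = q ^ 2) {z : Fin 3 → K} (h : FullRoot M z) (t : K) :
    FullRoot M (t • z) := by
  intro c A hc hA
  refine h (c * (t ^ q * t)) A ?_ fun x => ?_
  · simp only [mul_pow, pow_q_q hF]
    linear_combination (t ^ q * t) * hc
  · rw [hA x, herm_smul_right, smul_smul]
    congr 2
    ring

theorem FullRoot.secant (hF : Fintype.card K = q ^ 2) {a b : Fin 3 → K} (ha : FullRoot M a)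
    (hb : FullRoot M b) (hb0 : hermForm 3 K q b b = 0) {c : K} (hc : c + c ^ q = 0) :
    FullRoot M (a + (c * hermForm 3 K q a b) • b) := by
  obtain ⟨B, hB, -⟩ := exists_tv hF hb0 hc
  intro d A hd hA
  have h : IsTvAt (B⁻¹.1.1 *ᵥ (a + (c * hermForm 3 K q a b) • b)) d (B⁻¹ * A * B⁻¹⁻¹) := hA.conj B⁻¹
  rw [← hB a, GU_inv_mulVec] at h
  have := M.mul_mem (M.mul_mem (hb c B hc hB) (ha d _ hd h)) (M.inv_mem (hb c B hc hB))
  simpa [mul_assoc] using this

theorem nonorth3 (hF : Fintype.card K = q ^ 2) {a b : Fin 3 → K} (hli : LinearIndependent K ![a, b])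
    (ha : hermForm 3 K q a a = 0) (hb : hermForm 3 K q b b = 0) : hermForm 3 K q a b ≠ 0 := fun h => by
  have := four_le_of_orth hF hli ha hb h
  omega

theorem card_skew (hF : Fintype.card K = q ^ 2) [Fintype {c : K // c + c ^ q = 0}] :
    Fintype.card {c : K // c + c ^ q = 0} = q := by
  rw [← Nat.card_eq_fintype_card]
  exact card_trace_zero hF

/-- Every isotropic point is reached from a triangle by secants. -/
theorem fullRoot_all (hF : Fintype.card K = q ^ 2) {v : Fin 3 → Fin 3 → K}
    (hli : LinearIndependent K v) (hiso : ∀ i, hermForm 3 K q (v i) (v i) = 0)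
    (hfull : ∀ i, FullRoot M (v i)) {z : Fin 3 → K} (hz : hermForm 3 K q z z = 0) : FullRoot M z := by
  classical
  by_cases hz0 : z = 0
  · subst hz0
    intro c A _ hA
    have : A = 1 := GU_ext fun x => by rw [hA x]; simp
    rw [this]; exact M.one_mem
  by_contra hzn
  let h := hermForm 3 K q
  -- members of the set
  let S : Set (Fin 3 → K) := {a | a ≠ 0 ∧ hermForm 3 K q a a = 0 ∧ FullRoot M a}
  have hne : ∀ i, v i ≠ 0 := fun i => hli.ne_zero i
  have hpair : ∀ i j, i ≠ j → LinearIndependent K ![v i, v j] := by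
    intro i j hij
    have := hli.comp ![i, j] (by
      intro a b hab
      fin_cases a <;> fin_cases b <;> first | rfl | exact absurd hab hij | exact absurd hab hij.symm)
    convert this using 1
    funext k; fin_cases k <;> rfl
  have hno : ∀ i j, i ≠ j → h (v i) (v j) ≠ 0 := fun i j hij => nonorth3 hF (hpair i j hij) (hiso i) (hiso j)
  let X := {c : K // c + c ^ q = 0}
  have hstep : ∀ a b : Fin 3 → K, hermForm 3 K q a a = 0 → hermForm 3 K q b b = 0 → ∀ c : X,
      hermForm 3 K q (a + ((c : K) * h a b) • b) (a + ((c : K) * h a b) • b) = 0 := by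
    intro a b ha hb c
    have hc := c.2
    have e := herm_conj (n := 3) (q := q) (u := a) (v := b) hF
    simp only [h, herm_add_left, herm_add_right _ _ _ hF, herm_smul_left, herm_smul_right, ha, hb,
      mul_pow, mul_zero, add_zero, zero_add]
    rw [e]
    linear_combination (hermForm 3 K q a b * hermForm 3 K q b a) * hc
  let line : Option X → Fin 3 → K := fun o => match o with
    | none => v 1
    | some c => v 2 + ((c : K) * h (v 2) (v 1)) • v 1
  let pts : Option (Option X × X) → Fin 3 → K := fun o => match o with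
    | none => v 0
    | some (y, c) => line y + ((c : K) * h (line y) (v 0)) • v 0
  have hlineiso : ∀ y, hermForm 3 K q (line y) (line y) = 0 ∧ FullRoot M (line y) := fun y => by
    rcases y with _ | c
    · exact ⟨hiso 1, hfull 1⟩
    · exact ⟨hstep _ _ (hiso 2) (hiso 1) c, (hfull 2).secant hF (hfull 1) (hiso 1) c.2⟩
  have hline : ∀ y, ∃ a b : K, line y = a • v 1 + b • v 2 ∧ (a ≠ 0 ∨ b ≠ 0) := fun y => by
    rcases y with _ | c
    · exact ⟨1, 0, by simp [line], Or.inl one_ne_zero⟩
    · exact ⟨_, 1, by simp [line, add_comm]; rfl, Or.inr one_ne_zero⟩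
  have hliy : ∀ y, LinearIndependent K ![line y, v 0] := fun y => by
    obtain ⟨a, b, e, hab⟩ := hline y
    rw [Fintype.linearIndependent_iff]
    intro g hg
    simp only [Fin.sum_univ_two, Matrix.cons_val_zero, Matrix.cons_val_one, e, smul_add, smul_smul] at hg
    have := Fintype.linearIndependent_iff.1 hli ![g 1, g 0 * a, g 0 * b] (by
      rw [Fin.sum_univ_three]; simp; rw [← hg]; abel)
    have e0 := this 1
    have e1 := this 2
    have e2 := this 0
    simp at e0 e1 e2
    intro i
    fin_cases i
    · rcases hab with h' | h'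
      · exact e0.resolve_right h'
      · exact e1.resolve_right h'
    · exact e2
  have hnoy : ∀ y, h (line y) (v 0) ≠ 0 := fun y => nonorth3 hF (hliy y) (hlineiso y).1 (hiso 0)
  have hptS : ∀ o, pts o ∈ S := fun o => by
    rcases o with _ | ⟨y, c⟩
    · exact ⟨hne 0, hiso 0, hfull 0⟩
    · refine ⟨fun e => ?_, hstep _ _ (hlineiso y).1 (hiso 0) c, (hlineiso y).2.secant hF (hfull 0) (hiso 0) c.2⟩
      have := Fintype.linearIndependent_iff.1 (hliy y) ![1, (c : K) * h (line y) (v 0)] (by
        rw [Fin.sum_univ_two]; simpa [pts] using e) 0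
      simp at this
  -- coordinates of a point
  have hcoord : ∀ a b c a' b' c' : K, a • v 0 + b • v 1 + c • v 2 = a' • v 0 + b' • v 1 + c' • v 2 →
      a = a' ∧ b = b' ∧ c = c' := by
    intro a b c a' b' c' e
    have := Fintype.linearIndependent_iff.1 hli ![a - a', b - b', c - c'] (by
      rw [Fin.sum_univ_three]; simp [sub_smul]; rw [← sub_eq_zero.2 e]; abel)
    exact ⟨sub_eq_zero.1 (by simpa using this 0), sub_eq_zero.1 (by simpa using this 1),
      sub_eq_zero.1 (by simpa using this 2)⟩
  have hprop : ∀ o o' (t : K), pts o = t • pts o' → o = o' := by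
    intro o o' t ht
    have ht0 : t ≠ 0 := by rintro rfl; exact (hptS o).1 (by rw [ht, zero_smul])
    have hz1 : ∀ y y' (s s' : K), line y + s • v 0 = t • (line y' + s' • v 0) →
        line y = t • line y' ∧ s = t * s' := by
      intro y y' s s' e
      obtain ⟨a, b, e1, -⟩ := hline y
      obtain ⟨a', b', e2, -⟩ := hline y'
      obtain ⟨r0, r1, r2⟩ := hcoord s a b (t * s') (t * a') (t * b') (by
        rw [e1, e2] at e
        simp only [smul_add, smul_smul] at e
        calc s • v 0 + a • v 1 + b • v 2 = a • v 1 + b • v 2 + s • v 0 := by abel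
          _ = _ := by rw [e]; abel)
      exact ⟨by rw [e1, e2, r1, r2, smul_add, smul_smul, smul_smul], r0⟩
    rcases o with _ | ⟨y, c⟩ <;> rcases o' with _ | ⟨y', c'⟩
    · rfl
    · exfalso
      obtain ⟨a', b', e2, hab⟩ := hline y'
      obtain ⟨-, r1, r2⟩ := hcoord 1 0 0 (t * ((c' : K) * h (line y') (v 0))) (t * a') (t * b') (by
        simp only [pts] at ht
        generalize (c' : K) * h (line y') (v 0) = s at ht ⊢
        rw [e2] at ht
        rw [one_smul, zero_smul, zero_smul, add_zero, add_zero]
        exact ht.trans (by module))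
      rcases hab with hab | hab
      · exact mul_ne_zero ht0 hab r1.symm
      · exact mul_ne_zero ht0 hab r2.symm
    · exfalso
      obtain ⟨a, b, e1, hab⟩ := hline y
      obtain ⟨-, r1, r2⟩ := hcoord ((c : K) * h (line y) (v 0)) a b t 0 0 (by
        simp only [pts] at ht
        rw [← ht]
        simp [e1]; abel)
      rcases hab with hab | hab
      · exact hab r1
      · exact hab r2
    · obtain ⟨el, ec⟩ := hz1 y y' _ _ ht
      have hy : y = y' := by
        rcases y with _ | d <;> rcases y' with _ | d'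
        · rfl
        · obtain ⟨-, -, r2⟩ := hcoord 0 1 0 0 (t * ((d' : K) * h (v 2) (v 1))) t (by
            simp only [line] at el
            rw [one_smul, zero_smul, zero_smul, zero_add, add_zero]
            exact el.trans (by module))
          exact absurd r2.symm ht0
        · obtain ⟨-, -, r2⟩ := hcoord 0 ((d : K) * h (v 2) (v 1)) 1 0 t 0 (by
            simp only [line] at el; rw [← el]; simp; abel)
          exact absurd r2 one_ne_zero
        · obtain ⟨-, r1, r2⟩ := hcoord 0 ((d : K) * h (v 2) (v 1)) 1 0 (t * ((d' : K) * h (v 2) (v 1))) t (by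
            simp only [line] at el
            have : v 2 + ((d : K) * h (v 2) (v 1)) • v 1 = t • v 2 + (t * ((d' : K) * h (v 2) (v 1))) • v 1 := by
              rw [el, smul_add, smul_smul]
            simp only [zero_smul, zero_add, one_smul]
            rw [add_comm _ (v 2), this]; abel)
          rw [← r2, one_mul] at r1
          exact congrArg some (Subtype.ext (mul_right_cancel₀ (hno 2 1 (by decide)) r1))
      subst hy
      have ht1 : t = 1 := by
        obtain ⟨a, b, e1, hab⟩ := hline y
        rw [e1, smul_add, smul_smul, smul_smul] at el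
        obtain ⟨-, r1, r2⟩ := hcoord 0 a b 0 (t * a) (t * b) (by simpa using el)
        rcases hab with hab | hab
        · exact (mul_eq_right₀ hab).1 r1.symm
        · exact (mul_eq_right₀ hab).1 r2.symm
      rw [ht1, one_mul] at ec
      rw [Subtype.ext (mul_right_cancel₀ (hnoy y) ec)]
  -- projection to the secants through `z`
  have hliz : ∀ a ∈ S, LinearIndependent K ![z, a] := fun a ha => (LinearIndependent.pair_iff' hz0).2
    fun t ht => by
      rcases eq_or_ne t 0 with rfl | ht0
      · exact ha.1 (by rw [← ht, zero_smul])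
      · refine hzn ?_
        have := ha.2.2.smul hF t⁻¹
        rwa [← ht, smul_smul, inv_mul_cancel₀ ht0, one_smul] at this
  have hnz : ∀ a ∈ S, h a z ≠ 0 := fun a ha e =>
    nonorth3 hF (hliz a ha) hz ha.2.1 (herm_eq_zero_symm hF e)
  have hW : finrank K (perp q (Submodule.span K {z})) = 2 := by
    have := finrank_perp hF (Submodule.span K {z})
    rw [finrank_span_singleton hz0] at this
    omega
  obtain ⟨m, hm, hmz⟩ : ∃ m ∈ perp q (Submodule.span K {z}), m ∉ Submodule.span K ({z} : Set (Fin 3 → K)) := by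
    by_contra hc
    push Not at hc
    have := Submodule.finrank_mono (show perp q (Submodule.span K {z}) ≤ Submodule.span K {z} from hc)
    rw [hW, finrank_span_singleton hz0] at this
    omega
  obtain ⟨f, hf⟩ : ∃ f, h f z = 1 := by
    obtain ⟨a, ha⟩ : ∃ a, a ∈ S := ⟨v 0, hptS none⟩
    exact ⟨(h a z)⁻¹ • a, by
      show hermForm 3 K q _ z = 1
      rw [herm_smul_left, inv_mul_cancel₀ (hnz a ha)]⟩
  have hdec : ∀ x, h x z = 0 → ∃ α β : K, x = α • m + β • z := by
    intro x hx
    have hli2 : LinearIndependent K ![z, m] := (LinearIndependent.pair_iff' hz0).2 fun t ht =>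
      hmz (Submodule.mem_span_singleton.2 ⟨t, ht⟩)
    have hmem : ∀ y, y ∈ perp q (Submodule.span K ({z} : Set (Fin 3 → K))) ↔ h y z = 0 := fun y => by
      rw [mem_perp_span hF]; simp [h]
    have hle : Submodule.span K (Set.range ![z, m]) ≤ perp q (Submodule.span K {z}) := by
      rw [Submodule.span_le]
      rintro _ ⟨i, rfl⟩
      fin_cases i
      · exact (hmem z).2 hz
      · exact hm
    have heq := Submodule.eq_of_le_of_finrank_le hle (by rw [hW, finrank_span_eq_card hli2]; rfl)
    have hxm : x ∈ Submodule.span K (Set.range ![z, m]) := heq ▸ (hmem x).2 hx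
    rw [Matrix.range_cons, Matrix.range_cons, Matrix.range_empty, Set.union_empty,
      Set.singleton_union, Submodule.mem_span_pair] at hxm
    obtain ⟨β, α, rfl⟩ := hxm
    exact ⟨α, β, add_comm _ _⟩
  have hex : ∀ o, ∃ α : K, ∃ β : K, (h (pts o) z)⁻¹ • pts o = f + α • m + β • z := fun o => by
    obtain ⟨α, β, e⟩ := hdec ((h (pts o) z)⁻¹ • pts o - f) (by
      have hf' : hermForm 3 K q f z = 1 := hf
      show hermForm 3 K q _ z = 0
      rw [herm_sub_left, herm_smul_left, inv_mul_cancel₀ (hnz _ (hptS o)), hf', sub_self])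
    exact ⟨α, β, by rw [add_assoc, ← e, add_sub_cancel]⟩
  choose π β hπ using hex
  have hinj : Function.Injective π := by
    intro o o' he
    by_contra hoo
    obtain ⟨s, hs⟩ : ∃ s, s = (h (pts o) z)⁻¹ := ⟨_, rfl⟩
    obtain ⟨s', hs'⟩ : ∃ s', s' = (h (pts o') z)⁻¹ := ⟨_, rfl⟩
    have hs0 : s ≠ 0 := hs ▸ inv_ne_zero (hnz _ (hptS o))
    have hs'0 : s' ≠ 0 := hs' ▸ inv_ne_zero (hnz _ (hptS o'))
    have hd : s' • pts o' - s • pts o = (β o' - β o) • z := by
      rw [hs, hs', hπ, hπ, he, sub_smul]; abel
    have hδ : β o' - β o ≠ 0 := fun e => by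
      rw [e, zero_smul, sub_eq_zero] at hd
      refine hoo (hprop o' o (s'⁻¹ * s) ?_).symm
      rw [← smul_smul, ← hd, smul_smul, inv_mul_cancel₀ hs'0, one_smul]
    obtain ⟨a, ha⟩ : ∃ a, a = s' • pts o' := ⟨_, rfl⟩
    obtain ⟨b, hb⟩ : ∃ b, b = s • pts o := ⟨_, rfl⟩
    rw [← ha, ← hb] at hd
    have haF : FullRoot M a := ha ▸ (hptS o').2.2.smul hF s'
    have hbF : FullRoot M b := hb ▸ (hptS o).2.2.smul hF s
    have hai : hermForm 3 K q a a = 0 := by
      rw [ha, herm_smul_left, herm_smul_right, (hptS o').2.1, mul_zero, mul_zero]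
    have hbi : hermForm 3 K q b b = 0 := by
      rw [hb, herm_smul_left, herm_smul_right, (hptS o).2.1, mul_zero, mul_zero]
    have hzeq : z = (β o' - β o)⁻¹ • (a - b) := by
      rw [hd, smul_smul, inv_mul_cancel₀ hδ, one_smul]
    have hab : hermForm 3 K q a b ≠ 0 := fun e => by
      have e' := herm_eq_zero_symm hF e
      refine hnz _ (hptS o') ?_
      show hermForm 3 K q _ z = 0
      have : hermForm 3 K q a z = 0 := by
        rw [hzeq, herm_smul_right, herm_sub_right _ _ _ hF, hai, e, sub_zero, mul_zero]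
      rw [ha, herm_smul_left] at this
      exact (mul_eq_zero.1 this).resolve_left hs'0
    -- `a - b` is on the secant
    have hsum : hermForm 3 K q a b + hermForm 3 K q b a = 0 := by
      have h1 : hermForm 3 K q (a - b) (a - b) = 0 := by
        rw [hd, herm_smul_left, herm_smul_right, hz, mul_zero, mul_zero]
      rw [herm_sub_left, herm_sub_right _ _ _ hF, herm_sub_right _ _ _ hF, hai, hbi] at h1
      linear_combination -h1
    have hc : (-(hermForm 3 K q a b)⁻¹) + (-(hermForm 3 K q a b)⁻¹) ^ q = 0 := by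
      rw [neg_pow_q hF, inv_pow, herm_conj a b hF, eq_neg_of_add_eq_zero_right hsum, inv_neg]
      ring
    refine hzn ?_
    rw [hzeq]
    refine FullRoot.smul hF ?_ _
    have := haF.secant hF hbF hbi hc
    rwa [neg_mul, inv_mul_cancel₀ hab, neg_smul, one_smul, ← sub_eq_add_neg] at this
  -- too many points
  have hcard := Fintype.card_le_of_injective π hinj
  have hbound : ∀ o, hermForm 3 K q (f + π o • m + β o • z) (f + π o • m + β o • z) = 0 := fun o => by
    rw [← hπ o, herm_smul_left, herm_smul_right, (hptS o).2.1, mul_zero, mul_zero]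
  rw [Fintype.card_option, Fintype.card_prod, Fintype.card_option, card_skew hF, hF] at hcard
  nlinarith

theorem gu_det_one_le (hF : Fintype.card K = q ^ 2) (hq : q ≠ 2) {v : Fin 3 → Fin 3 → K}
    (hli : LinearIndependent K v) (hiso : ∀ i, hermForm 3 K q (v i) (v i) = 0)
    (hfull : ∀ i, FullRoot M (v i)) (g : GU 3 K q) (hg : g.1.1.det = 1) : g ∈ M := by
  have hT : TGroup K q 3 ≤ M := by
    rw [TGroup, Subgroup.closure_le]
    rintro A ⟨z, c, hz, hc, hA⟩
    exact fullRoot_all hF hli hiso hfull hz c A hc hA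
  exact hT (mem_TGroup hF (by norm_num) (fun h => hq h.2) g hg)

end Cfsg.Agent.Lib.TransvThree
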