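import Cfsg.Agent.Lib.TransvThree.Linear
import Cfsg.Agent.Lib.TransvThree.Unital
import Cfsg.Agent.Lib.PrimeDim.Fields
import Cfsg.Agent.Lib.Forms.Basis

/-!
Unique axes: the transvections generate `SU 3` over the quadratic extension of the multiplier field.
-/

set_option autoImplicit false
set_option linter.unusedSectionVars false
set_option linter.style.haveILetI false

namespace Cfsg.Agent.Lib.TransvThree

open Matrix
open Cfsg.Agent.Lib.Subspaces.Transvection Cfsg.Agent.Lib.PrimeDim.Basic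

variable {F : Type*} [Field F]

local notation "Vec" => Fin 3 → F

variable {P : Subgroup (GL (Fin 3) F)} {a b φ ψ χ : Fin 3 → F}

/-- The image of `SU 3` over a subfield `K` with `q²` elements. -/
def subSU [Fintype F] (K : Subfield F) (q : ℕ) : Subgroup (GL (Fin 3) F) :=
  (Cfsg.GU 3 K q ⊓ Cfsg.Geo.specialLinear (Fin 3) K).map (Matrix.GeneralLinearGroup.map K.subtype)

theorem axis_unique (hA : ¬ TwoAxes P) (h : Tv P a φ) (h' : Tv P a χ) (ha : a ≠ 0) (hφ : φ ≠ 0) :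
    ∃ k : F, χ = k • φ := by
  obtain ⟨j, hj⟩ := Function.ne_iff.1 hφ
  simp only [Pi.zero_apply] at hj
  refine ⟨χ j / φ j, ?_⟩
  funext i
  by_contra hne
  simp only [Pi.smul_apply, smul_eq_mul] at hne
  refine hA ⟨a, φ j • Pi.single i 1 - φ i • Pi.single j 1, χ, φ, ha, h', h, ?_, ?_, hφ⟩
  · intro e
    apply hne
    simp [dotProduct_sub] at e
    field_simp
    linear_combination e
  · simp [dotProduct_sub]
    ring

theorem not_one_sided (hA : ¬ TwoAxes P) (h : Tv P a φ) (h' : Tv P b ψ) (ha : a ≠ 0) (hψ : ψ ≠ 0)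
    (hab : φ ⬝ᵥ b ≠ 0) : ψ ⬝ᵥ a ≠ 0 := fun h0 => hA
  ⟨a, b, φ, (φ ⬝ᵥ b) • ψ, ha, h, h.commutator_axis h' h0, hab,
    by rw [smul_dotProduct, h'.1, smul_zero], smul_ne_zero hab hψ⟩

variable [Fintype F]

theorem exists_frob (E : Subfield F) : ∃ σ : F →+* F, (∀ x, σ x = x ^ Nat.card E) ∧
    (∀ x, σ x = x ↔ x ∈ E) := by
  classical
  letI : Fintype E := Fintype.ofFinite _
  obtain ⟨p, hp, n, hprime, hn⟩ := FiniteField.card' E
  haveI : Fact p.Prime := ⟨hprime⟩
  haveI : CharP F p := (RingHom.charP_iff E.subtype E.subtype.injective p).1 hp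
  have he : Nat.card E = p ^ (n : ℕ) := by rw [Nat.card_eq_fintype_card, hn]
  refine ⟨iterateFrobenius F p n, fun x => by rw [iterateFrobenius_def, he], fun x => ?_⟩
  rw [iterateFrobenius_def, ← he]
  constructor
  · intro hx
    by_contra hxE
    let f : Option E → {y : F // y ^ Nat.card E = y} := fun o => match o with
      | none => ⟨x, hx⟩
      | some y => ⟨y, by
          have := FiniteField.pow_card y
          rw [← Nat.card_eq_fintype_card] at this
          exact_mod_cast congrArg Subtype.val this⟩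
    have hf : Function.Injective f := by
      intro o o' h
      have h' := congrArg Subtype.val h
      rcases o with _ | y <;> rcases o' with _ | y'
      · rfl
      · exact (hxE ((show x = (y' : F) from h') ▸ y'.2)).elim
      · exact (hxE ((show x = (y : F) from h'.symm) ▸ y.2)).elim
      · exact congrArg some (Subtype.ext h')
    have h1 := Nat.card_le_card_of_injective f hf
    rw [Finite.card_option] at h1
    have h2 := PrimeDim.Fields.card_pow_eq_self_le (F := F) (k := Nat.card E)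
      (by rw [Nat.card_eq_fintype_card]; exact Fintype.one_lt_card)
    omega
  · intro hx
    have := FiniteField.pow_card (⟨x, hx⟩ : E)
    rw [← Nat.card_eq_fintype_card] at this
    exact congrArg Subtype.val this

variable (hirr : Irred P) (h2 : (2 : F) ≠ 0)

include hirr h2 in
theorem cycle_conj (hA : ¬ TwoAxes P) {σ : F →+* F} (hσ : ∀ x, σ x = x ↔ x ∈ rootField P)
    {v₀ v₁ v₂ φ₀ φ₁ φ₂ : Vec} (a : Tv P v₀ φ₀) (b : Tv P v₁ φ₁) (c : Tv P v₂ φ₂)
    (a0 : v₀ ≠ 0) (b0 : v₁ ≠ 0) (c0 : v₂ ≠ 0) (a1 : φ₀ ≠ 0) (b1 : φ₁ ≠ 0) (c1 : φ₂ ≠ 0) :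
    σ ((φ₀ ⬝ᵥ v₁) * (φ₁ ⬝ᵥ v₂) * (φ₂ ⬝ᵥ v₀)) =
      -((φ₀ ⬝ᵥ v₂) * (φ₂ ⬝ᵥ v₁) * (φ₁ ⬝ᵥ v₀)) := by
  obtain ⟨T, hT⟩ : ∃ T, T = (φ₀ ⬝ᵥ v₁) * (φ₁ ⬝ᵥ v₂) * (φ₂ ⬝ᵥ v₀) := ⟨_, rfl⟩
  obtain ⟨U, hU⟩ : ∃ U, U = (φ₀ ⬝ᵥ v₂) * (φ₂ ⬝ᵥ v₁) * (φ₁ ⬝ᵥ v₀) := ⟨_, rfl⟩
  rw [← hT, ← hU]
  by_cases hT0 : T = 0
  · have hU0 : U = 0 := by
      by_contra hne
      rw [hU] at hne
      obtain ⟨⟨m02, m21⟩, m10⟩ : ((φ₀ ⬝ᵥ v₂ ≠ 0) ∧ φ₂ ⬝ᵥ v₁ ≠ 0) ∧ φ₁ ⬝ᵥ v₀ ≠ 0 := by
        simpa [mul_eq_zero, not_or] using hne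
      exact mul_ne_zero (mul_ne_zero (not_one_sided hA b a b0 a1 m10) (not_one_sided hA c b c0 b1 m21))
        (not_one_sided hA a c a0 c1 m02) (hT.symm.trans hT0)
    rw [hT0, hU0, map_zero, neg_zero]
  have hd : T - U ∈ rootField P := hT ▸ hU ▸ cycle_sub_mem hirr h2 a b c
  have hm : T * U ∈ rootField P := hT ▸ hU ▸ cycle_mul_mem hirr h2 a b c
  have e1 := (hσ _).2 hd
  have e2 := (hσ _).2 hm
  rw [map_sub] at e1
  rw [map_mul] at e2
  rcases mul_eq_zero.1 (show (σ T - T) * (σ T + U) = 0 by linear_combination σ T * e1 + e2) with h | h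
  · have h' := sub_eq_zero.1 h
    have hrat := cycle_rational hirr h2 a b c hA (hT ▸ (hσ _).1 h') b0 (hT ▸ hT0)
    rw [← hT, ← hU] at hrat
    rw [h', eq_neg_of_add_eq_zero_left hrat]
  · exact eq_neg_of_add_eq_zero_left h

include hirr h2 in
theorem unitary_case (hT : HasTv P) (hA : ¬ TwoAxes P) :
    ∃ (g : GL (Fin 3) F) (K : Subfield F) (q : ℕ), Nat.card K = q ^ 2 ∧ q = Nat.card (rootField P) ∧
      rootField P ≤ K ∧
      tvGroup (P.map (MulAut.conj g⁻¹).toMonoidHom) = subSU K q := by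
  classical
  obtain ⟨tr⟩ := exists_triangle hirr h2 hT
  obtain ⟨σ, hσq, hσ⟩ := exists_frob (rootField P)
  set E := rootField P with hE
  obtain ⟨q, hq⟩ : ∃ q, q = Nat.card E := ⟨_, rfl⟩
  have hσq' : ∀ x, σ x = x ^ q := hq ▸ hσq
  -- scaled frame
  have hl01 := (tr.linked 0 1 (by decide)).1
  have hl02 := (tr.linked 0 2 (by decide)).1
  obtain ⟨s, hs⟩ : ∃ s : Fin 3 → F,
      s = ![1, (tr.fn 0 ⬝ᵥ tr.vec 1)⁻¹, (tr.fn 0 ⬝ᵥ tr.vec 2)⁻¹] := ⟨_, rfl⟩
  have hs0 : ∀ i, s i ≠ 0 := fun i => by fin_cases i <;> simp [hs, hl01, hl02]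
  obtain ⟨cols, hcols⟩ : ∃ cols : Fin 3 → Vec, cols = fun i => s i • tr.vec i := ⟨_, rfl⟩
  obtain ⟨G, hG⟩ : ∃ G : Matrix (Fin 3) (Fin 3) F,
      G = Matrix.of fun i j => (s i)⁻¹ * (s j * (tr.fn i ⬝ᵥ tr.vec j)) := ⟨_, rfl⟩
  obtain ⟨C, hC⟩ : ∃ C : Matrix (Fin 3) (Fin 3) F, C = Matrix.of fun i j => cols j i := ⟨_, rfl⟩
  have hCu : IsUnit C := by
    rw [← Matrix.linearIndependent_cols_iff_isUnit, hC]
    have : LinearIndependent F cols := by
      rw [hcols]
      exact tr.indep.units_smul (fun i => Units.mk0 (s i) (hs0 i))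
    exact this
  have hGC : G = (Matrix.of fun i => (s i)⁻¹ • tr.fn i) * C := by
    ext i j
    simp [hG, hC, hcols, Matrix.mul_apply, dotProduct, Finset.mul_sum]
    exact Finset.sum_congr rfl fun k _ => by ring
  have hGdet : G.det ≠ 0 := by
    rw [hGC, Matrix.det_mul]
    refine mul_ne_zero ?_ (isUnit_iff_ne_zero.1 ((Matrix.isUnit_iff_isUnit_det _).1 hCu))
    refine isUnit_iff_ne_zero.1 ((Matrix.isUnit_iff_isUnit_det _).1 ?_)
    rw [← Matrix.linearIndependent_rows_iff_isUnit]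
    exact tr.indepFn.units_smul (fun i => Units.mk0 (s i)⁻¹ (inv_ne_zero (hs0 i)))
  obtain ⟨g, hg⟩ : ∃ g : GL (Fin 3) F, (g : Matrix (Fin 3) (Fin 3) F) = C := ⟨hCu.unit, hCu.unit_spec⟩
  obtain ⟨Q, hQ⟩ : ∃ Q, Q = P.map (MulAut.conj g⁻¹).toMonoidHom := ⟨_, rfl⟩
  have hcol : ∀ j, (g : Matrix (Fin 3) (Fin 3) F) *ᵥ Pi.single j 1 = cols j := fun j => by
    rw [hg, mulVec_single_one, hC]; rfl
  have htr : ∀ {u χ}, Tv Q u χ → Tv P ((g : Matrix (Fin 3) (Fin 3) F) *ᵥ u)
      (χ ᵥ* ((g⁻¹ : GL (Fin 3) F) : Matrix (Fin 3) (Fin 3) F)) := fun h => by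
    rwa [hQ, tv_conjugate_iff] at h
  have hne1 : ∀ {u : Vec}, u ≠ 0 → (g : Matrix (Fin 3) (Fin 3) F) *ᵥ u ≠ 0 := fun hu e =>
    hu (gl_mulVec_injective g (e.trans (mulVec_zero _).symm))
  have hne2 : ∀ {χ : Vec}, χ ≠ 0 → χ ᵥ* ((g⁻¹ : GL (Fin 3) F) : Matrix (Fin 3) (Fin 3) F) ≠ 0 :=
    fun hχ e => hχ (by
      simpa [vecMul_vecMul, ← Units.val_mul] using congrArg (· ᵥ* (g : Matrix (Fin 3) (Fin 3) F)) e)
  have hsm : ∀ c ∈ E, ∀ u χ, Tv Q u χ → Tv Q u (c • χ) := by
    intro c hc u χ h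
    rw [hQ, tv_conjugate_iff] at h ⊢
    rw [smul_vecMul]
    exact smul_mem_root hc h
  have hpar : ∀ u χ u' χ', Tv Q u χ → Tv Q u' χ' → (χ ⬝ᵥ u') * (χ' ⬝ᵥ u) ∈ E := by
    intro u χ u' χ' h h'
    have := param_mem hirr h2 (htr h) (htr h')
    rwa [vecMul_dot, vecMul_dot] at this
  have hone : ∀ {u χ u' χ'}, Tv Q u χ → Tv Q u' χ' → u ≠ 0 → χ' ≠ 0 → χ ⬝ᵥ u' ≠ 0 → χ' ⬝ᵥ u ≠ 0 := by
    intro u χ u' χ' h h' hu hχ' hne
    have := not_one_sided hA (htr h) (htr h') (hne1 hu) (hne2 hχ') (by rwa [vecMul_dot])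
    rwa [vecMul_dot] at this
  have hcyc : ∀ {u χ u' χ' u'' χ''}, Tv Q u χ → Tv Q u' χ' → Tv Q u'' χ'' → u ≠ 0 → u' ≠ 0 →
      u'' ≠ 0 → χ ≠ 0 → χ' ≠ 0 → χ'' ≠ 0 →
      σ ((χ ⬝ᵥ u') * (χ' ⬝ᵥ u'') * (χ'' ⬝ᵥ u)) =
        -((χ ⬝ᵥ u'') * (χ'' ⬝ᵥ u') * (χ' ⬝ᵥ u)) := by
    intro u χ u' χ' u'' χ'' h h' h'' x1 x2 x3 y1 y2 y3
    have := cycle_conj hirr h2 hA hσ (htr h) (htr h') (htr h'') (hne1 x1) (hne1 x2) (hne1 x3)
      (hne2 y1) (hne2 y2) (hne2 y3)
    simpa only [vecMul_dot] using this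
  have hrow : ∀ i, Tv Q (Pi.single i 1) (G i) := fun i => by
    rw [hQ, tv_conjugate_iff, hcol]
    have e : G i = ((s i)⁻¹ • tr.fn i) ᵥ* (g : Matrix (Fin 3) (Fin 3) F) := by
      rw [hg, hGC]; rfl
    rw [e, vecMul_vecMul, ← Units.val_mul, mul_inv_cancel, Units.val_one, vecMul_one]
    show Tv P (cols i) _
    rw [hcols, tv_smul_left_iff (hs0 i), smul_smul, mul_inv_cancel₀ (hs0 i), one_smul]
    exact tr.isTv i
  have hGne : ∀ i j, i ≠ j → G i j ≠ 0 := fun i j hij => by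
    rw [hG]; exact mul_ne_zero (inv_ne_zero (hs0 i)) (mul_ne_zero (hs0 j) (tr.linked i j hij).1)
  have hGii : ∀ i, G i i = 0 := fun i => by simp [hG, (tr.isTv i).1]
  have h01 : G 0 1 = 1 := by simp [hG, hs, hl01]
  have h02 : G 0 2 = 1 := by simp [hG, hs, hl02]
  have hGrow : ∀ i, G i ≠ 0 := fun i e => by
    obtain ⟨j, hj⟩ := exists_ne i
    exact hGne i j hj.symm (congrFun e j)
  have hs1 : ∀ i : Fin 3, (Pi.single i 1 : Vec) ≠ 0 := fun i e => by
    simpa using congrFun e i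
  have hGdot : ∀ i j, G i ⬝ᵥ (Pi.single j 1 : Vec) = G i j := fun i j => by simp
  have h10 : G 1 0 ∈ E := by
    have := hpar _ _ _ _ (hrow 0) (hrow 1)
    simpa [hGdot, h01] using this
  have h20 : G 2 0 ∈ E := by
    have := hpar _ _ _ _ (hrow 0) (hrow 2)
    simpa [hGdot, h02] using this
  obtain ⟨κ, hκ⟩ : ∃ κ : Fin 3 → F, κ = ![1, -(G 1 0)⁻¹, -(G 2 0)⁻¹] := ⟨_, rfl⟩
  have hκE : ∀ i, κ i ∈ E := fun i => by
    fin_cases i
    · simp [hκ]
    · simpa [hκ] using inv_mem h10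
    · simpa [hκ] using inv_mem h20
  have hκσ : ∀ i, σ (κ i) = κ i := fun i => (hσ _).2 (hκE i)
  have hκ0 : ∀ i, κ i ≠ 0 := fun i => by
    fin_cases i <;> simp [hκ, hGne 1 0 (by decide), hGne 2 0 (by decide)]
  have hT' : σ (G 1 2 * G 2 0) = -(G 2 1 * G 1 0) := by
    have := hcyc (hrow 0) (hrow 1) (hrow 2) (hs1 0) (hs1 1) (hs1 2) (hGrow 0) (hGrow 1) (hGrow 2)
    simpa [hGdot, h01, h02] using this
  have hU' : σ (G 2 1 * G 1 0) = -(G 1 2 * G 2 0) := by
    have := hcyc (hrow 0) (hrow 2) (hrow 1) (hs1 0) (hs1 2) (hs1 1) (hGrow 0) (hGrow 2) (hGrow 1)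
    simpa [hGdot, h01, h02] using this
  have hskew : ∀ i j, σ (κ i * G i j) = -(κ j * G j i) := by
    intro i j
    have n1 := hGne 1 0 (by decide)
    have n2 := hGne 2 0 (by decide)
    have f1 := (hσ _).2 h10
    have f2 := (hσ _).2 h20
    fin_cases i <;> fin_cases j
    · simp [hGii]
    · simp [hκ, h01, n1]
    · simp [hκ, h02, n2]
    · simp [hκ, h01, n1, f1]
    · simp [hGii]
    · show σ (κ 1 * G 1 2) = -(κ 2 * G 2 1)
      have hh := hT'
      rw [map_mul, f2] at hh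
      rw [map_mul, hκσ]
      simp [hκ]
      field_simp
      linear_combination -hh
    · simp [hκ, h02, n2, f2]
    · show σ (κ 2 * G 2 1) = -(κ 1 * G 1 2)
      have hh := hU'
      rw [map_mul, f1] at hh
      rw [map_mul, hκσ]
      simp [hκ]
      field_simp
      linear_combination -hh
    · simp [hGii]
  have hGfix : ∀ i j, σ (σ (G i j)) = G i j := fun i j => by
    have := congrArg σ (hskew i j)
    rw [map_neg, hskew j i, neg_neg, map_mul, map_mul, hκσ, hκσ] at this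
    exact mul_left_cancel₀ (hκ0 i) this
  obtain ⟨ζ, hζ⟩ : ∃ ζ, ζ = G 1 2 * G 2 0 + G 2 1 * G 1 0 := ⟨_, rfl⟩
  have hζσ : σ ζ = -ζ := by rw [hζ, map_add, hT', hU']; ring
  have hζ0 : ζ ≠ 0 := by
    intro e
    apply hGdet
    rw [Matrix.det_fin_three, hGii 0, hGii 1, hGii 2, h01, h02]
    linear_combination e - hζ
  -- every transvection is unitary for `h (x, y) = ∑ x i * κ j * G j i * σ (y j)`
  have hstd : ∀ u χ, Tv Q u χ → u ≠ 0 → χ ≠ 0 → ∃ u' : Vec, ∃ μ : F, μ ∈ E ∧ (∀ i, σ (σ (u' i)) = u' i) ∧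
      tv u χ = tv u' (fun i => μ * ∑ j, κ j * G j i * σ (u' j)) ∧
      Tv Q u' (fun i => μ * ∑ j, κ j * G j i * σ (u' j)) ∧ μ ≠ 0 := by
    intro u χ hu hu0 hχ0
    obtain ⟨k, hk⟩ : ∃ k, G k ⬝ᵥ u ≠ 0 := by
      by_contra h
      push Not at h
      exact hu0 (Matrix.eq_zero_of_mulVec_eq_zero hGdet (funext h))
    obtain ⟨t, ht⟩ : ∃ t, t = (G k ⬝ᵥ u)⁻¹ := ⟨_, rfl⟩
    have ht0 : t ≠ 0 := ht ▸ inv_ne_zero hk
    have hu' : Tv Q (t • u) (t⁻¹ • χ) := by
      rw [tv_smul_left_iff ht0, smul_smul, mul_inv_cancel₀ ht0, one_smul]; exact hu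
    have htv : tv u χ = tv (t • u) (t⁻¹ • χ) := by
      rw [tv_smul (by rw [smul_dotProduct, hu.1, smul_zero]), smul_smul, mul_inv_cancel₀ ht0, one_smul]
    obtain ⟨c, hc⟩ : ∃ c : Fin 3 → F, c = fun i => G i ⬝ᵥ (t • u) := ⟨_, rfl⟩
    obtain ⟨d, hd⟩ : ∃ d : Fin 3 → F, d = t⁻¹ • χ := ⟨_, rfl⟩
    rw [← hd] at hu' htv
    have hd0 : d ≠ 0 := hd ▸ smul_ne_zero (inv_ne_zero ht0) hχ0
    have hu1 : t • u ≠ 0 := smul_ne_zero ht0 hu0
    have hck : c k = 1 := by
      rw [hc]; simp only [dotProduct_smul, smul_eq_mul, ht, inv_mul_cancel₀ hk]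
    have hcd : ∀ i, d ⬝ᵥ (Pi.single i 1 : Vec) = d i := fun i => by simp
    have hdk : d k ≠ 0 := by
      rw [← hcd k]
      refine hone (hrow k) hu' (hs1 k) hd0 ?_
      rw [show G k ⬝ᵥ (t • u) = c k from by rw [hc], hck]; exact one_ne_zero
    have hdkE : d k ∈ E := by
      have := hpar _ _ _ _ (hrow k) hu'
      rw [show G k ⬝ᵥ (t • u) = c k from by rw [hc], hck, one_mul, hcd] at this
      exact this
    obtain ⟨μ, hμ⟩ : ∃ μ, μ = -(d k) / κ k := ⟨_, rfl⟩
    have hμE : μ ∈ E := hμ ▸ div_mem (neg_mem hdkE) (hκE k)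
    have hμ0 : μ ≠ 0 := hμ ▸ div_ne_zero (neg_ne_zero.2 hdk) (hκ0 k)
    have hdkμ : d k = -(μ * κ k) := by rw [hμ, div_mul_cancel₀ _ (hκ0 k), neg_neg]
    have hμσ : σ μ = μ := (hσ _).2 hμE
    have hboth : ∀ i, d i = -(μ * κ i * σ (c i)) ∧ σ (d i) = -(μ * κ i * c i) := by
      intro i
      rcases eq_or_ne i k with rfl | hik
      · rw [hck, map_one, mul_one, hdkμ, map_neg, map_mul, hμσ, hκσ]; exact ⟨rfl, rfl⟩
      have A := hcyc (hrow i) (hrow k) hu' (hs1 i) (hs1 k) hu1 (hGrow i) (hGrow k) hd0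
      have B := hcyc (hrow i) hu' (hrow k) (hs1 i) hu1 (hs1 k) (hGrow i) hd0 (hGrow k)
      rw [show G i ⬝ᵥ (t • u) = c i from by rw [hc], show G k ⬝ᵥ (t • u) = c k from by rw [hc],
        hGdot, hGdot, hcd, hcd, hck, mul_one] at A B
      rw [hdkμ] at A B
      have s1 := hskew i k
      have s2 := hskew k i
      rw [map_mul, hκσ] at s1 s2
      simp only [map_mul, map_neg, hμσ, hκσ] at A B
      have n1 : G i k ≠ 0 := hGne i k hik
      have n2 : G k i ≠ 0 := hGne k i hik.symm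
      refine ⟨mul_left_cancel₀ n1 ?_, mul_left_cancel₀ (mul_ne_zero (hκ0 k) n2) ?_⟩
      · linear_combination B + μ * σ (c i) * s2
      · linear_combination (-(κ i)) * A + σ (d i) * s1
    have hcfix : ∀ i, σ (σ (c i)) = c i := fun i => by
      have h1 := congrArg σ (hboth i).1
      rw [(hboth i).2, map_neg, map_mul, map_mul, hμσ, hκσ, neg_inj] at h1
      exact (mul_left_cancel₀ (mul_ne_zero hμ0 (hκ0 i)) h1).symm
    have hufix : ∀ i, σ (σ ((t • u) i)) = (t • u) i := by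
      intro i
      have e : G *ᵥ (fun j => σ (σ ((t • u) j))) = G *ᵥ (t • u) := by
        funext l
        have := hcfix l
        rw [hc] at this
        simp only [dotProduct, map_sum, map_mul, hGfix] at this
        simpa [Matrix.mulVec, dotProduct] using this
      have hinj : Function.Injective (fun x : Vec => G *ᵥ x) :=
        Matrix.mulVec_injective_iff_isUnit.2 ((Matrix.isUnit_iff_isUnit_det _).2 (isUnit_iff_ne_zero.2 hGdet))
      exact congrFun (hinj e) i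
    have hdeq : d = fun i => μ * ∑ j, κ j * G j i * σ ((t • u) j) := by
      funext i
      rw [(hboth i).1, hc]
      have e : ∀ j, κ j * G j i * σ ((t • u) j) = -(κ i * (σ (G i j) * σ ((t • u) j))) := fun j => by
        have := hskew i j
        rw [map_mul, hκσ] at this
        linear_combination (σ ((t • u) j)) * this
      simp only [e, dotProduct, map_sum, map_mul, Finset.sum_neg_distrib, ← Finset.mul_sum]
      ring
    refine ⟨t • u, μ, hμE, hufix, ?_, ?_, hμ0⟩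
    · rw [← hdeq]; exact htv
    · rw [← hdeq]; exact hu'
  -- the field of the form
  let K : Subfield F := (σ.comp σ).eqLocusField (RingHom.id F)
  have hKmem : ∀ x, x ∈ K ↔ σ (σ x) = x := fun x => Iff.rfl
  have hEK : E ≤ K := fun x hx => (hKmem x).2 (by rw [(hσ x).2 hx, (hσ x).2 hx])
  letI : Fintype K := Fintype.ofFinite _
  have hq2 : 2 ≤ q := by
    rw [hq]; exact Finite.one_lt_card
  have hcard : Nat.card K = q ^ 2 := by
    refine le_antisymm ?_ ?_
    · have hk : 2 ≤ q * q := by nlinarith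
      have := PrimeDim.Fields.card_pow_eq_self_le (F := F) hk
      rw [pow_two]
      refine le_trans (le_of_eq (Nat.card_congr (Equiv.subtypeEquivRight fun x => ?_))) this
      rw [hKmem, hσq', hσq', ← pow_mul]
    · let T := G 1 2 * G 2 0
      have hTK : T ∈ K := mul_mem ((hKmem _).2 (hGfix 1 2)) ((hKmem _).2 (hGfix 2 0))
      have hTE : T ∉ E := fun h => hζ0 (by
        have := hT'
        rw [(hσ _).2 h] at this
        rw [hζ]
        linear_combination this)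
      let f : E × E → K := fun x =>
        ⟨(x.1 : F) + (x.2 : F) * T, add_mem (hEK x.1.2) (mul_mem (hEK x.2.2) hTK)⟩
      have hf : Function.Injective f := by
        intro x y hxy
        have h := congrArg Subtype.val hxy
        simp only [f] at h
        by_cases hd : (x.2 : F) = y.2
        · rw [hd] at h
          exact Prod.ext (Subtype.ext (add_right_cancel h)) (Subtype.ext hd)
        · exfalso
          apply hTE
          have : T = ((y.1 : F) - x.1) / ((x.2 : F) - y.2) := by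
            rw [eq_div_iff (sub_ne_zero.2 hd)]; linear_combination h
          rw [this]
          exact div_mem (sub_mem y.1.2 x.1.2) (sub_mem x.2.2 y.2.2)
      have := Nat.card_le_card_of_injective f hf
      rwa [Nat.card_prod, ← hq, ← pow_two] at this
  have hFK : Fintype.card K = q ^ 2 := by rw [← Nat.card_eq_fintype_card]; exact hcard
  let τ : K →+* K := Unitary.conj hFK
  have hτ : ∀ x : K, ((τ x : K) : F) = σ (x : F) := fun x => by
    rw [hσq']; rfl
  have hτ2 : ∀ x : K, τ (τ x) = x := fun x => Unitary.pow_q_q hFK x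
  have hτne : τ ≠ RingHom.id K := fun e => by
    have hzK : ζ ∈ K := (hKmem _).2 (by rw [hζσ, map_neg, hζσ, neg_neg])
    have := congrArg (fun f : K →+* K => ((f ⟨ζ, hzK⟩ : K) : F)) e
    simp only [RingHom.id_apply, hτ, hζσ] at this
    exact hζ0 ((mul_eq_zero.1 (show (2 : F) * ζ = 0 by linear_combination -this)).resolve_left h2)
  have hzK : ζ ∈ K := (hKmem _).2 (by rw [hζσ, map_neg, hζσ, neg_neg])
  have hMK : ∀ i j, κ j * G j i ∈ K := fun i j => mul_mem (hEK (hκE j)) ((hKmem _).2 (hGfix j i))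
  obtain ⟨H, hH⟩ : ∃ H : Matrix (Fin 3) (Fin 3) K,
      H = Matrix.of fun i j => ⟨ζ * (κ j * G j i), mul_mem hzK (hMK i j)⟩ := ⟨_, rfl⟩
  have hHs : ∀ i j, τ (H i j) = H j i := fun i j => Subtype.ext (by
    rw [hτ, hH]
    simp only [Matrix.of_apply]
    rw [map_mul, hζσ, hskew]
    ring)
  let B : (Fin 3 → K) →ₛₗ[τ] (Fin 3 → K) →ₗ[K] K :=
    LinearMap.mk₂'ₛₗ τ (RingHom.id K) (fun x y => ∑ i, ∑ j, y i * H i j * τ (x j))
      (fun x x' y => by simp only [Pi.add_apply, map_add, mul_add, Finset.sum_add_distrib])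
      (fun c x y => by
        simp only [Pi.smul_apply, smul_eq_mul, map_mul, Finset.mul_sum]
        exact Finset.sum_congr rfl fun i _ => Finset.sum_congr rfl fun j _ => by ring)
      (fun x y y' => by simp only [Pi.add_apply, add_mul, Finset.sum_add_distrib])
      (fun c x y => by
        simp only [Pi.smul_apply, smul_eq_mul, RingHom.id_apply, Finset.mul_sum]
        exact Finset.sum_congr rfl fun i _ => Finset.sum_congr rfl fun j _ => by ring)
  have hBapp : ∀ x y, B x y = ∑ i, ∑ j, y i * H i j * τ (x j) := fun x y => rfl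
  have hBs : B.IsSymm := by
    refine ⟨fun x y => ?_⟩
    simp only [hBapp, map_sum, map_mul, hHs, hτ2]
    rw [Finset.sum_comm]
    exact Finset.sum_congr rfl fun i _ => Finset.sum_congr rfl fun j _ => by ring
  have hHdet : H.det ≠ 0 := by
    intro e
    have h1 := congrArg K.subtype e
    rw [map_zero, RingHom.map_det] at h1
    have h2' : K.subtype.mapMatrix H = Matrix.of (fun i j => ζ * (κ j * G j i)) := by
      ext i j; simp [hH]
    rw [h2'] at h1
    have h3 : (Matrix.of fun i j => ζ * (κ j * G j i)) = ζ • ((Matrix.diagonal κ * G)ᵀ) := by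
      ext i j; simp [mul_comm, mul_left_comm]
    rw [h3, Matrix.det_smul, Matrix.det_transpose, Matrix.det_mul, Matrix.det_diagonal] at h1
    simp [hζ0, hGdet] at h1
    exact absurd h1 (Finset.prod_ne_zero_iff.2 fun i _ => hκ0 i)
  have hBn : B.Nondegenerate := by
    have key : ∀ x, (∀ y, B x y = 0) → x = 0 := fun x hx => by
      have h0 : H *ᵥ (fun j => τ (x j)) = 0 := funext fun i => by
        have := hx (Pi.single i 1)
        rw [hBapp, Finset.sum_eq_single i (fun b _ hb => by simp [Pi.single_apply, hb]) (by simp)] at this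
        simpa [Matrix.mulVec, dotProduct] using this
      have h1 := Matrix.eq_zero_of_mulVec_eq_zero hHdet h0
      funext j
      have := congrArg τ (congrFun h1 j)
      simpa [hτ2] using this
    exact ⟨key, fun y hy => key y fun x => by
      have := hy x
      rw [← hBs.eq, this, map_zero]⟩
  obtain ⟨bas, hbas⟩ := Forms.exists_orthonormal_herm τ hτne hτ2 3 B hBs hBn (by simp)
  let AK : Matrix (Fin 3) (Fin 3) K := Matrix.of fun i j => bas j i
  have hAK : IsUnit AK := by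
    rw [← Matrix.linearIndependent_cols_iff_isUnit]
    exact bas.linearIndependent
  obtain ⟨aK, haK⟩ : ∃ aK : GL (Fin 3) K, (aK : Matrix (Fin 3) (Fin 3) K) = AK := ⟨hAK.unit, hAK.unit_spec⟩
  -- the form in the new frame
  have hform : ∀ x y : Fin 3 → K, ∑ i, ∑ j, (AK *ᵥ x) i * H i j * τ ((AK *ᵥ y) j) =
      Cfsg.hermForm 3 K q x y := by
    intro x y
    have hx : ∀ z : Fin 3 → K, AK *ᵥ z = ∑ k, z k • bas k := fun z => by
      funext i; simp [AK, Matrix.mulVec, dotProduct, Finset.sum_apply, mul_comm]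
    show B (AK *ᵥ y) (AK *ᵥ x) = _
    rw [hx, hx]
    simp only [map_sum, map_smulₛₗ, LinearMap.sum_apply, LinearMap.smul_apply, RingHom.id_apply, hbas, smul_eq_mul,
      mul_ite, mul_one, mul_zero, Finset.sum_ite_eq, Finset.sum_ite_eq', Finset.mem_univ, if_true,
      Cfsg.hermForm]
    rfl
  obtain ⟨gA, hgA⟩ : ∃ gA : GL (Fin 3) F, gA = Matrix.GeneralLinearGroup.map K.subtype aK := ⟨_, rfl⟩
  refine ⟨g * gA, K, q, hcard, hq, hEK, ?_⟩
  have hmap : P.map (MulAut.conj (g * gA)⁻¹).toMonoidHom = Q.map (MulAut.conj gA⁻¹).toMonoidHom := by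
    rw [hQ, Subgroup.map_map]
    congr 1
    ext x
    simp [mul_assoc]
  rw [hmap]
  -- embedding of vectors
  let up : (Fin 3 → K) → Vec := fun x i => (x i : F)
  have hmulVec : ∀ (N : GL (Fin 3) K) (x : Fin 3 → K),
      ((Matrix.GeneralLinearGroup.map K.subtype N : GL (Fin 3) F) : Matrix (Fin 3) (Fin 3) F) *ᵥ up x =
        up ((N : Matrix (Fin 3) (Fin 3) K) *ᵥ x) := fun N x => by
    funext i
    exact (RingHom.map_mulVec K.subtype (N : Matrix (Fin 3) (Fin 3) K) x i).symm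
  have hgAsingle : ∀ i, (gA : Matrix (Fin 3) (Fin 3) F) *ᵥ Pi.single i 1 = up (AK *ᵥ Pi.single i 1) :=
    fun i => by
      rw [← haK, ← hmulVec, hgA]
      congr 1
      funext j
      simp [up, Pi.single_apply, apply_ite (fun z : K => (z : F))]
  -- the transvection with centre `x` and scalar `c` in the new frame
  have hconv : ∀ (x : Fin 3 → K) (μ : F) (c : K), (c : F) * ζ = μ →
      ((fun i => μ * ∑ j, κ j * G j i * σ (up (AK *ᵥ x) j)) ᵥ* (gA : Matrix (Fin 3) (Fin 3) F)) =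
        fun i => ((c * Cfsg.hermForm 3 K q (Pi.single i 1) x : K) : F) := by
    intro x μ c hc
    funext i
    rw [← hform]
    have e : ((fun i => μ * ∑ j, κ j * G j i * σ (up (AK *ᵥ x) j)) ᵥ*
        (gA : Matrix (Fin 3) (Fin 3) F)) i =
        (fun i => μ * ∑ j, κ j * G j i * σ (up (AK *ᵥ x) j)) ⬝ᵥ up (AK *ᵥ Pi.single i 1) := by
      rw [← hgAsingle, dotProduct_mulVec, dotProduct_single_one]
    rw [e, MulMemClass.coe_mul]
    simp only [dotProduct, up, AddSubmonoidClass.coe_finsetSum, MulMemClass.coe_mul, hτ, hH,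
      Matrix.of_apply, Finset.mul_sum, Finset.sum_mul, ← hc]
    exact Finset.sum_congr rfl fun a _ => Finset.sum_congr rfl fun b _ => by ring
  let emb : Cfsg.GU 3 K q →* GL (Fin 3) F :=
    (Matrix.GeneralLinearGroup.map K.subtype).comp (Cfsg.GU 3 K q).subtype
  have hemb : ∀ (x : Fin 3 → K) (c : K) (A : Cfsg.GU 3 K q), Unitary.IsTvAt x c A →
      (fun i => ((c * Cfsg.hermForm 3 K q (Pi.single i 1) x : K) : F)) ⬝ᵥ up x = 0 →
      emb A = tv (up x) (fun i => ((c * Cfsg.hermForm 3 K q (Pi.single i 1) x : K) : F)) := by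
    intro x c A hA h0
    refine Units.ext ?_
    ext i j
    rw [coe_tv h0]
    show ((A.1.1 i j : K) : F) = _
    have h1 := congrFun (hA (Pi.single j 1)) i
    rw [Matrix.mulVec_single_one, Matrix.col_apply] at h1
    rw [h1]
    simp [Matrix.one_apply, vecMulVec_apply, up, Pi.single_apply, mul_comm, apply_ite (fun z : K => (z : F))]
  have hskewc : ∀ c : K, c + c ^ q = 0 → σ ((c : F) * ζ) = (c : F) * ζ := fun c hc => by
    rw [map_mul, hζσ, hσq']
    have : (c : F) + (c : F) ^ q = 0 := by exact_mod_cast congrArg Subtype.val hc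
    rw [show (c : F) ^ q = -(c : F) by linear_combination this]
    ring
  obtain ⟨R, hR⟩ : ∃ R, R = Q.map (MulAut.conj gA⁻¹).toMonoidHom := ⟨_, rfl⟩
  rw [← hR]
  apply le_antisymm
  · rw [tvGroup, Subgroup.closure_le]
    rintro _ ⟨u, χ, hu, rfl⟩
    by_cases h0 : u = 0 ∨ χ = 0
    · rcases h0 with rfl | rfl
      · rw [tv_zero_left]; exact one_mem _
      · rw [tv_zero_right]; exact one_mem _
    push Not at h0
    rw [hR, tv_conjugate_iff] at hu
    obtain ⟨u', μ, hμE, hufix, htv, hu', hμ0⟩ := hstd _ _ hu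
      (fun e => h0.1 (gl_mulVec_injective gA (e.trans (mulVec_zero _).symm)))
      (fun e => h0.2 (by
        simpa [vecMul_vecMul, ← Units.val_mul] using congrArg (· ᵥ* (gA : Matrix (Fin 3) (Fin 3) F)) e))
    let uK : Fin 3 → K := fun i => ⟨u' i, (hKmem _).2 (hufix i)⟩
    obtain ⟨x, hx⟩ : ∃ x, x = ((aK⁻¹ : GL (Fin 3) K) : Matrix (Fin 3) (Fin 3) K) *ᵥ uK := ⟨_, rfl⟩
    have hAx : AK *ᵥ x = uK := by rw [hx, ← haK, gl_mulVec_inv]
    obtain ⟨c, hc⟩ : ∃ c : K, c = ⟨μ, hEK hμE⟩ / ⟨ζ, hzK⟩ := ⟨_, rfl⟩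
    have hcμ : (c : F) * ζ = μ := by
      rw [hc]; push_cast; field_simp
    have hc0 : c ≠ 0 := by
      intro e; rw [e] at hcμ; simp at hcμ; exact hμ0 hcμ.symm
    have hcs : c + c ^ q = 0 := Subtype.ext (by
      have h1 := (hσ μ).2 hμE
      rw [← hcμ, map_mul, hζσ] at h1
      push_cast
      rw [← hσq']
      exact (mul_eq_zero.1 (show ((c : F) + σ c) * ζ = 0 by linear_combination -h1)).resolve_right hζ0)
    have hcv := hconv x μ c hcμ
    rw [hAx] at hcv
    have hx0 : (fun i => ((c * Cfsg.hermForm 3 K q (Pi.single i 1) x : K) : F)) ⬝ᵥ up x = 0 := by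
      rw [← hcv, ← dotProduct_mulVec, hgA, hmulVec, haK, hAx]
      exact hu'.1
    have hxx : Cfsg.hermForm 3 K q x x = 0 := by
      have e : (fun i => ((c * Cfsg.hermForm 3 K q (Pi.single i 1) x : K) : F)) ⬝ᵥ up x =
          ((c * Cfsg.hermForm 3 K q x x : K) : F) := by
        simp only [dotProduct, up, Cfsg.hermForm, Fin.sum_univ_three, Pi.single_apply]
        push_cast
        simp
        ring
      rw [e] at hx0
      have h3 : c * Cfsg.hermForm 3 K q x x = 0 := Subtype.ext (by simpa using hx0)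
      exact (mul_eq_zero.1 h3).resolve_left hc0
    obtain ⟨A, hA, hAdet⟩ := Unitary.exists_tv hFK hxx hcs
    refine ⟨A.1, ⟨A.2, (mem_specialLinear_iff _).2 hAdet⟩, ?_⟩
    show emb A = tv u χ
    rw [hemb x c A hA hx0]
    have e1 : tv u χ = gA⁻¹ * tv ((gA : Matrix (Fin 3) (Fin 3) F) *ᵥ u)
        (χ ᵥ* ((gA⁻¹ : GL (Fin 3) F) : Matrix (Fin 3) (Fin 3) F)) * gA⁻¹⁻¹ := by
      rw [conj_tv gA⁻¹ (by rw [vecMul_dot]; exact (vecMul_dot gA χ u).symm.trans hu.1), inv_inv,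
        gl_inv_mulVec, vecMul_vecMul, ← Units.val_mul, inv_mul_cancel, Units.val_one, vecMul_one]
    rw [e1, htv, conj_tv gA⁻¹ hu'.1, inv_inv]
    congr 1
    · rw [hgA, ← map_inv, show u' = up uK from rfl, hmulVec, ← hx]
    · exact hcv.symm
  · let M : Subgroup (Cfsg.GU 3 K q) := (tvGroup R).comap emb
    suffices hM : ∀ A : Cfsg.GU 3 K q, A.1.1.det = 1 → A ∈ M by
      rintro _ ⟨N, ⟨hN1, hN2⟩, rfl⟩
      exact hM ⟨N, hN1⟩ ((mem_specialLinear_iff N).1 hN2)
    let w : Fin 3 → Fin 3 → K := fun i =>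
      ((aK⁻¹ : GL (Fin 3) K) : Matrix (Fin 3) (Fin 3) K) *ᵥ Pi.single i 1
    have hwA : ∀ i, AK *ᵥ w i = Pi.single i 1 := fun i => by rw [← haK]; exact gl_mulVec_inv _ _
    have hli : LinearIndependent K w := by
      rw [Fintype.linearIndependent_iff]
      intro c hc i
      have h : ((aK⁻¹ : GL (Fin 3) K) : Matrix (Fin 3) (Fin 3) K) *ᵥ c = 0 := by
        rw [← hc]
        funext l
        simp [w, Matrix.mulVec, dotProduct, Finset.sum_apply, mul_comm, Pi.single_apply]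
      exact congrFun (gl_mulVec_injective aK⁻¹ (h.trans (mulVec_zero _).symm)) i
    have hiso : ∀ i, Cfsg.hermForm 3 K q (w i) (w i) = 0 := fun i => by
      rw [← hform, hwA]
      refine Subtype.ext ?_
      push_cast
      simp [Fin.sum_univ_three, Pi.single_apply, hH, hτ, apply_ite (fun z : K => (z : F))]
      fin_cases i <;> simp [hGii]
    have hup1 : ∀ i, up (Pi.single i 1) = Pi.single i 1 := fun i => by
      funext j; simp [up, Pi.single_apply, apply_ite (fun z : K => (z : F))]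
    have hfull : ∀ i, FullRoot M (w i) := by
      intro i c A hc hA
      obtain ⟨μ, hμ⟩ : ∃ μ, μ = (c : F) * ζ := ⟨_, rfl⟩
      have hμE : μ ∈ E := (hσ _).1 (hμ ▸ hskewc c hc)
      have hroot := hsm (μ * κ i) (mul_mem hμE (hκE i)) _ _ (hrow i)
      have e : (μ * κ i) • G i =
          fun l => μ * ∑ j, κ j * G j l * σ (up (AK *ᵥ w i) j) := by
        funext l
        rw [hwA, hup1]
        simp [Pi.single_apply, apply_ite σ, Finset.sum_ite_eq', mul_assoc]
      rw [e] at hroot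
      have hcv := hconv (w i) μ c hμ.symm
      have hu' : Tv R (up (w i))
          (fun l => ((c * Cfsg.hermForm 3 K q (Pi.single l 1) (w i) : K) : F)) := by
        rw [hR, tv_conjugate_iff, ← hcv, vecMul_vecMul, ← Units.val_mul, mul_inv_cancel,
          Units.val_one, vecMul_one, hgA, hmulVec, haK, hwA, hup1]
        rw [hwA, hup1] at hroot
        exact hroot
      show emb A ∈ tvGroup R
      rw [hemb (w i) c A hA hu'.1]
      exact tv_mem_tvGroup hu'
    have hq3 : q ≠ 2 := by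
      intro e
      have hE2 : Nat.card E = 2 := by rw [← hq, e]
      letI : Fintype E := Fintype.ofFinite _
      have := FiniteField.cast_card_eq_zero E
      rw [← Nat.card_eq_fintype_card, hE2] at this
      have h' := congrArg E.subtype this
      rw [map_natCast, map_zero, Nat.cast_ofNat] at h'
      exact h2 h'
    exact fun A hA => gu_det_one_le hFK hq3 hli hiso hfull A hA

end Cfsg.Agent.Lib.TransvThree
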